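import Cfsg.Agent.Lib.Subdeg3.ArithBase

/-!
# The second exceptional character, induced from the centralizer of the odd core
-/

set_option autoImplicit false
set_option linter.style.haveILetI false
set_option linter.unusedSectionVars false

open Cfsg CfsgLib.Chars CfsgLib.Blocks CfsgLib.CharApps Subgroup
open scoped ComplexConjugate

namespace CfsgLib.Subdeg3.Arith

universe u

/-- The values of a non-trivial linear character sum to zero. -/
theorem sum_hom_zero {A : Type u} [Group A] [Fintype A] (f : A →* ℂˣ) {a : A} (ha : f a ≠ 1) :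
    ∑ y : A, (f y : ℂ) = 0 := by
  have e : (f a : ℂ) * ∑ y : A, (f y : ℂ) = ∑ y : A, (f y : ℂ) := by
    rw [Finset.mul_sum]
    exact Fintype.sum_equiv (Equiv.mulLeft a) _ _ fun y => by simp
  exact (mul_left_eq_self₀.mp e).resolve_left fun h => ha (Units.ext h)

theorem sum_hom_inv_zero {A : Type u} [Group A] [Fintype A] (f : A →* ℂˣ) {a : A} (ha : f a ≠ 1) :
    ∑ y : A, ((f y)⁻¹ : ℂˣ).val = 0 :=
  sum_hom_zero f⁻¹ (a := a) (by simpa using ha)

variable {H : Type u} [Group H] [Fintype H] {V : Subgroup H}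

/-- A linear character of the centralizer of the core, non-trivial on it, trivial on `L`. -/
theorem exists_lam (S : SDCent H V) {L : Subgroup H}
    (hLC : L ≤ centralizer (S.O : Set H))
    (hLn : normalizer (S.O : Set H) ≤ normalizer (L : Set H))
    (hinv : ∀ n ∈ normalizer (S.O : Set H), n ∉ centralizer (S.O : Set H) →
      ∀ c ∈ centralizer (S.O : Set H), n * c * n⁻¹ * c ∈ L)
    (hOL : ¬ S.O ≤ L) (hOC : S.O ≤ centralizer (S.O : Set H))
    (hex : ∃ n ∈ normalizer (S.O : Set H), n ∉ centralizer (S.O : Set H)) :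
    ∃ f : centralizer (S.O : Set H) →* ℂˣ,
      (∀ c : centralizer (S.O : Set H), (c : H) ∈ L → f c = 1) ∧
      ∃ (a : H) (ha : a ∈ S.O), f ⟨a, hOC ha⟩ ≠ 1 := by
  classical
  set CO := centralizer (S.O : Set H) with hCO
  have hCN : CO ≤ normalizer (S.O : Set H) := centralizer_le_normalizer _
  haveI : (L.subgroupOf CO).Normal := ⟨fun l hl g => by
    rw [mem_subgroupOf] at hl ⊢
    rw [Subgroup.coe_mul, Subgroup.coe_mul, Subgroup.coe_inv]
    exact (mem_normalizer_iff.1 (hLn (hCN g.2)) _).1 hl⟩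
  obtain ⟨n, hn, hnC⟩ := hex
  have hnconj : ∀ c : CO, n * (c : H) * n⁻¹ ∈ CO := fun c => by
    have h := mul_mem (hLC (hinv n hn hnC c c.2)) (inv_mem c.2)
    rwa [show n * (c : H) * n⁻¹ * c * (c : H)⁻¹ = n * (c : H) * n⁻¹ by group] at h
  have hq : ∀ c : CO, (QuotientGroup.mk ⟨_, hnconj c⟩ : CO ⧸ L.subgroupOf CO) =
      (QuotientGroup.mk c)⁻¹ := by
    intro c
    refine eq_inv_of_mul_eq_one_left ?_
    rw [← QuotientGroup.mk_mul, QuotientGroup.eq_one_iff, mem_subgroupOf]
    exact hinv n hn hnC c c.2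
  have hcomm : ∀ x y : CO ⧸ L.subgroupOf CO, x * y = y * x := by
    intro x y
    induction x using QuotientGroup.induction_on with | H c => ?_
    induction y using QuotientGroup.induction_on with | H d => ?_
    have e : (⟨_, hnconj (c * d)⟩ : CO) = ⟨_, hnconj c⟩ * ⟨_, hnconj d⟩ := by
      apply Subtype.ext
      show n * ((c : H) * d) * n⁻¹ = n * (c : H) * n⁻¹ * (n * (d : H) * n⁻¹)
      group
    have h := hq (c * d)
    rw [e, QuotientGroup.mk_mul, QuotientGroup.mk_mul, hq, hq, ← mul_inv_rev] at h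
    exact (inv_injective h).symm
  obtain ⟨a, ha, haL⟩ := Set.not_subset.1 hOL
  have hne : (QuotientGroup.mk ⟨a, hOC ha⟩ : CO ⧸ L.subgroupOf CO) ≠ 1 := by
    rw [Ne, QuotientGroup.eq_one_iff, mem_subgroupOf]
    exact haL
  haveI : Finite (CO ⧸ L.subgroupOf CO) := inferInstance
  haveI : NeZero (Monoid.exponent (CO ⧸ L.subgroupOf CO) : ℂ) :=
    ⟨Nat.cast_ne_zero.mpr Monoid.exponent_ne_zero_of_finite⟩
  let _ : CommGroup (CO ⧸ L.subgroupOf CO) :=
    { (inferInstance : Group (CO ⧸ L.subgroupOf CO)) with mul_comm := hcomm }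
  obtain ⟨μ, hμ⟩ := CommGroup.exists_apply_ne_one_of_hasEnoughRootsOfUnity _ ℂ hne
  refine ⟨μ.comp (QuotientGroup.mk' _), fun c hc => ?_, a, ha, hμ⟩
  show μ (QuotientGroup.mk c) = 1
  rw [(QuotientGroup.eq_one_iff c).2 (mem_subgroupOf.2 hc), map_one]

/-- The involutions of the normalizer of the core which invert it. -/
noncomputable def invs (S : SDCent H V) : Finset H :=
  (Set.toFinite
    {w | w ∈ normalizer (S.O : Set H) ∧ w ∉ centralizer (S.O : Set H) ∧ orderOf w = 2}).toFinset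

theorem mem_invs {S : SDCent H V} {w : H} : w ∈ invs S ↔
    w ∈ normalizer (S.O : Set H) ∧ w ∉ centralizer (S.O : Set H) ∧ orderOf w = 2 := by
  simp [invs]

theorem card_invs (S : SDCent H V) : (invs S).card =
    Nat.card {w : normalizer (S.O : Set H) //
      orderOf w = 2 ∧ (w : H) ∉ centralizer (S.O : Set H)} := by
  rw [← Nat.card_eq_finsetCard]
  refine Nat.card_congr
    { toFun := fun w => ⟨⟨w.1, (mem_invs.1 w.2).1⟩,
        by rw [← Subgroup.orderOf_coe]; exact (mem_invs.1 w.2).2.2, (mem_invs.1 w.2).2.1⟩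
      invFun := fun w => ⟨w.1.1, mem_invs.2 ⟨w.1.2, w.2.2,
        by rw [Subgroup.orderOf_coe]; exact w.2.1⟩⟩
      left_inv := fun w => rfl
      right_inv := fun w => rfl }

/-- What the second character gives. -/
theorem phi_facts (hS : Setup H V) (S : SDCent H V) (hTI : TIData S) :
    ∃ (D : ℕ) (E : ℤ), 0 < D ∧
      ((E = (D : ℤ) - 1 ∧ (4 : ℤ) ∣ (D : ℤ) - 1) ∨ (E = (D : ℤ) + 2 ∧ (4 : ℤ) ∣ (D : ℤ) + 2)) ∧
      (Nat.card H : ℤ) * E ^ 2 = 13824 * (o S : ℤ) ^ 3 * ((D : ℤ) * (D + 1)) := by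
  classical
  haveI : Fact (Nat.Prime 2) := ⟨Nat.prime_two⟩
  obtain ⟨M, hM⟩ := exists_pModular 2
  haveI := hM.2.1.isPrime
  obtain ⟨L, hLC, hLn, hzL, hinv, hOL, hidx, -, hTIset, hJ⟩ := hTI
  rw [card_O] at hJ
  set CO := centralizer (S.O : Set H) with hCO
  set NO := normalizer (S.O : Set H) with hNO
  haveI : Fintype CO := Fintype.ofFinite _
  have hCN : CO ≤ NO := centralizer_le_normalizer _
  have hidx' : (CO.subgroupOf NO).index = 2 := hidx
  have hswap : ∀ u ∈ NO, ∀ v ∈ NO, (u * v ∈ CO ↔ (u ∈ CO ↔ v ∈ CO)) := by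
    intro u hu v hv
    have h := Subgroup.mul_mem_iff_of_index_two hidx' (a := (⟨u, hu⟩ : NO)) (b := ⟨v, hv⟩)
    simpa only [mem_subgroupOf, Subgroup.coe_mul] using h
  have hcardN : Nat.card NO = Nat.card CO * 2 := by
    rw [← Subgroup.card_mul_index (CO.subgroupOf NO), hidx',
      Nat.card_congr (Subgroup.subgroupOfEquivOfLe hCN).toEquiv]
  have hex : ∃ n ∈ NO, n ∉ CO := by
    by_contra hcon
    push Not at hcon
    have h : CO.relIndex NO = 1 := Subgroup.relIndex_eq_one.2 hcon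
    rw [hidx] at h
    norm_num at h
  have hOcomm : ∀ a ∈ S.O, ∀ b ∈ S.O, a * b = b * a := by
    intro a ha b hb
    obtain ⟨a', ha', rfl⟩ := Subgroup.mem_map.1 ha
    obtain ⟨b', hb', rfl⟩ := Subgroup.mem_map.1 hb
    rw [← map_mul, ← map_mul, ker_comm S ha' hb']
  have hOC : S.O ≤ CO := fun a ha => mem_centralizer_iff.2 fun b hb => hOcomm b hb a ha
  have hzC : S.z ∈ CO := hLC hzL
  obtain ⟨f, hfL, a₀, ha₀, hfa⟩ := exists_lam S hLC hLn hinv hOL hOC hex
  have hfa2 : f ⟨a₀, hOC ha₀⟩ * f ⟨a₀, hOC ha₀⟩ ≠ 1 := by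
    intro h
    have h1 : orderOf (f ⟨a₀, hOC ha₀⟩) ∣ 2 := orderOf_dvd_of_pow_eq_one (by rw [sq]; exact h)
    have h2 : orderOf (f ⟨a₀, hOC ha₀⟩) ∣ orderOf (⟨a₀, ha₀⟩ : S.O) := by
      refine (orderOf_map_dvd f _).trans ?_
      rw [← Subgroup.orderOf_coe, ← Subgroup.orderOf_coe]
    have h3 : Odd (orderOf (⟨a₀, ha₀⟩ : S.O)) :=
      Odd.of_dvd_nat (by rw [card_O]; exact S.kerOdd) (orderOf_dvd_natCard _)
    exact hfa (orderOf_eq_one_iff.1 (Nat.eq_one_of_dvd_coprimes
      (Nat.coprime_two_left.2 h3) h1 h2))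
  have hfconj : ∀ g ∈ NO, g ∉ CO → ∀ (c : CO) (d : CO), (d : H) = g * (c : H) * g⁻¹ →
      f d = (f c)⁻¹ := by
    intro g hg hgC c d hd
    refine eq_inv_of_mul_eq_one_left ?_
    rw [← map_mul]
    refine hfL _ ?_
    rw [Subgroup.coe_mul, hd]
    exact hinv g hg hgC c c.2
  have hfconj' : ∀ g : CO, ∀ c : CO, f (g * c * g⁻¹) = f c := by
    intro g c
    rw [map_mul, map_mul, map_inv, mul_right_comm, mul_inv_cancel, one_mul]
  have hLN : ∀ g ∈ NO, ∀ y ∈ L, g * y * g⁻¹ ∈ L := fun g hg y hy =>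
    (mem_normalizer_iff.1 (hLn hg) y).1 hy
  -- the character to be induced
  let ψ : CO → ℂ := fun c => 1 - (f c : ℂ)
  have hψgen : IsGeneralizedCharacter CO ψ :=
    ⟨_, _, isCharacter_one, isCharacter_of_irr (isIrrCharacter_linear f), rfl⟩
  set Φ := indFun CO ψ with hΦ
  have hgen : IsGeneralizedCharacter H Φ := isGeneralized_indFun CO hψgen
  have hval : ∀ y : CO, Φ (y : H) = 2 - (f y : ℂ) - ((f y)⁻¹ : ℂˣ).val := by
    intro y
    by_cases hy : (y : H) ∈ L
    · rw [hfL y hy, hΦ, indFun_apply, Finset.sum_eq_zero, mul_zero, inv_one, Units.val_one]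
      · norm_num
      intro x _
      by_cases hm : x⁻¹ * (y : H) * x ∈ CO
      · rw [extendByZero_of_mem _ _ hm]
        by_cases hmL : x⁻¹ * (y : H) * x ∈ L
        · simp [ψ, hfL ⟨_, hm⟩ hmL]
        · exfalso
          have hx : x ∈ NO := hTIset _ hm hmL x (by
            rw [show x * (x⁻¹ * (y : H) * x) * x⁻¹ = (y : H) by group]; exact y.2)
          have := hLN x⁻¹ (inv_mem hx) _ hy
          rw [inv_inv] at this
          exact hmL this
      · rw [extendByZero_of_not_mem _ _ hm]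
    · have key : ∀ x : H, extendByZero CO ψ (x⁻¹ * y * x) =
          (if x ∈ CO then 1 - (f y : ℂ) else 0) +
            (if x ∈ NO ∧ x ∉ CO then 1 - ((f y)⁻¹ : ℂˣ).val else 0) := by
        intro x
        by_cases hx : x ∈ CO
        · rw [if_pos hx, if_neg (fun h => h.2 hx), add_zero,
            extendByZero_of_mem _ _ (mul_mem (mul_mem (inv_mem hx) y.2) hx)]
          have h := hfconj' ⟨x, hx⟩⁻¹ y
          rw [inv_inv] at h
          show 1 - ((f _ : ℂˣ) : ℂ) = _
          rw [← h]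
          rfl
        · rw [if_neg hx, zero_add]
          by_cases hxN : x ∈ NO
          · rw [if_pos ⟨hxN, hx⟩]
            have hm : x⁻¹ * (y : H) * x ∈ CO := by
              have h := mul_mem (hLC (hinv x⁻¹ (inv_mem hxN) (fun h => hx (inv_mem_iff.1 h)) y y.2))
                (inv_mem y.2)
              rwa [inv_inv, show x⁻¹ * (y : H) * x * y * (y : H)⁻¹ = x⁻¹ * (y : H) * x by group] at h
            rw [extendByZero_of_mem _ _ hm]
            show 1 - ((f _ : ℂˣ) : ℂ) = _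
            rw [hfconj x⁻¹ (inv_mem hxN) (fun h => hx (inv_mem_iff.1 h)) y ⟨_, hm⟩
              (by rw [inv_inv])]
          · rw [if_neg (fun h => hxN h.1), extendByZero_of_not_mem]
            intro hm
            have hxi := hTIset y y.2 hy x⁻¹ (by rwa [inv_inv])
            exact hxN (inv_mem_iff.1 hxi)
      have hc1 : (Finset.univ.filter (fun x : H => x ∈ CO)).card = Nat.card CO := by
        rw [← Fintype.card_subtype, ← Nat.card_eq_fintype_card]
      have hc2 : (Finset.univ.filter (fun x : H => x ∈ NO ∧ x ∉ CO)).card = Nat.card CO := by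
        have hsub : (Finset.univ.filter (fun x : H => x ∈ CO)) ⊆
            Finset.univ.filter (fun x : H => x ∈ NO) := fun x hx => by
          simp only [Finset.mem_filter, Finset.mem_univ, true_and] at hx ⊢
          exact hCN hx
        have hN : (Finset.univ.filter (fun x : H => x ∈ NO)).card = Nat.card NO := by
          rw [← Fintype.card_subtype, ← Nat.card_eq_fintype_card]
        have he : Finset.univ.filter (fun x : H => x ∈ NO ∧ x ∉ CO) =
            Finset.univ.filter (fun x : H => x ∈ NO) \ Finset.univ.filter (fun x : H => x ∈ CO) := by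
          ext x
          simp
        rw [he, Finset.card_sdiff_of_subset hsub, hc1, hN, hcardN]
        omega
      rw [hΦ, indFun_apply, Finset.sum_congr rfl fun x _ => key x, Finset.sum_add_distrib,
        ← Finset.sum_filter, ← Finset.sum_filter, Finset.sum_const, Finset.sum_const, hc1, hc2,
        ← smul_add, nsmul_eq_mul, ← mul_assoc, inv_mul_cancel₀ (Chars.card_ne_zero _), one_mul]
      ring
  have hconj : ∀ y : CO, conj (f y : ℂ) = ((f y)⁻¹ : ℂˣ).val := fun y => by
    rw [← map_inv]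
    exact (char_inv (isCharacter_of_irr (isIrrCharacter_linear f)) y).symm
  have hcN : (Nat.card CO : ℂ) ≠ 0 := Chars.card_ne_zero _
  have hs1 : ∑ y : CO, (f y : ℂ) = 0 := sum_hom_zero f hfa
  have hs1' : ∑ y : CO, ((f y)⁻¹ : ℂˣ).val = 0 := sum_hom_inv_zero f hfa
  have hs2 : ∑ y : CO, (f y : ℂ) * (f y : ℂ) = 0 := by
    have h := sum_hom_zero (f * f) (a := ⟨a₀, hOC ha₀⟩) (by simpa using hfa2)
    simpa using h
  have h1 : Φ 1 = 0 := by
    rw [hΦ, indFun_one_apply]
    simp [ψ]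
  have h3 : classInner Φ Φ = 3 := by
    rw [hΦ, inner_indFun CO ψ (isClassFunction_indFun CO ψ), inner_def,
      Finset.sum_congr rfl (g := fun y : CO =>
        3 - 3 * (f y : ℂ) - ((f y)⁻¹ : ℂˣ).val + (f y : ℂ) * (f y : ℂ)) (fun y _ => ?_)]
    · rw [Finset.sum_add_distrib, Finset.sum_sub_distrib, Finset.sum_sub_distrib, ← Finset.mul_sum,
        hs1, hs1', hs2, Finset.sum_const, Finset.card_univ, nsmul_eq_mul,
        ← Nat.card_eq_fintype_card]
      field_simp
      ring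
    · show ψ y * conj (indFun CO ψ (y : H)) = _
      rw [← hΦ, hval y, map_sub, map_sub, Complex.conj_ofNat, hconj, ← hconj, Complex.conj_conj,
        hconj]
      have e : (f y : ℂ) * ((f y)⁻¹ : ℂˣ).val = 1 := Units.mul_inv _
      simp only [ψ]
      linear_combination e
  have hone : classInner Φ (fun _ => (1 : ℂ)) = 1 := by
    rw [hΦ, inner_indFun CO ψ (isClassFunction_of_isCharacter isCharacter_one), inner_def]
    simp only [map_one, mul_one, ψ]
    rw [Finset.sum_sub_distrib, hs1, Finset.sum_const, Finset.card_univ, nsmul_eq_mul,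
      ← Nat.card_eq_fintype_card]
    field_simp
    ring
  -- involutions of `CO` lie in `L`
  have hinvL : ∀ u ∈ CO, orderOf u = 2 → u ∈ L := by
    intro u hu ho
    by_contra huL
    obtain ⟨g, hg⟩ := isConj_iff.1 (S.conj u ho)
    have hgi : g⁻¹ ∈ NO := hTIset u hu huL g⁻¹ (by
      rw [← hg, inv_inv, show g⁻¹ * (g * S.z * g⁻¹) * g = S.z by group]; exact hzC)
    exact huL (hg ▸ hLN g (inv_mem_iff.1 hgi) S.z hzL)
  let W : H → ℂ := fun n => (ways S n : ℂ)
  have hWcl : IsClassFunction H W := by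
    intro g x
    show (Nat.card _ : ℂ) = (Nat.card _ : ℂ)
    refine congrArg Nat.cast (Nat.card_congr (Equiv.subtypeEquiv
      ((Equiv.mulLeft x⁻¹).prodCongr (Equiv.mulLeft x⁻¹)) fun ab => ?_))
    simp only [Equiv.prodCongr_apply, Prod.map_fst, Prod.map_snd, Equiv.coe_mulLeft]
    rw [show x⁻¹ * ab.1 * S.z * (x⁻¹ * ab.1)⁻¹ * (x⁻¹ * ab.2 * S.z * (x⁻¹ * ab.2)⁻¹) =
      x⁻¹ * (ab.1 * S.z * ab.1⁻¹ * (ab.2 * S.z * ab.2⁻¹)) * x by group]
    constructor
    · intro h; rw [h]; group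
    · intro h; rw [← h]; group
  -- pairs of inverting involutions
  have hJsum : ∑ u ∈ invs S, ∑ w ∈ invs S, extendByZero CO (fun c => (f c : ℂ)) (u * w) = 0 := by
    set a : CO := ⟨a₀, hOC ha₀⟩ with ha
    set T := ∑ u ∈ invs S, ∑ w ∈ invs S, extendByZero CO (fun c => (f c : ℂ)) (u * w) with hT
    have hmove : ∀ b ∈ NO, b ∈ CO → ∀ u ∈ invs S, b * u * b⁻¹ ∈ invs S := by
      intro b hb hbC u hu
      obtain ⟨h₁, h₂, h₃⟩ := mem_invs.1 hu
      refine mem_invs.2 ⟨mul_mem (mul_mem hb h₁) (inv_mem hb), fun h => h₂ ?_, ?_⟩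
      · have := mul_mem (mul_mem (inv_mem hbC) h) hbC
        rwa [show b⁻¹ * (b * u * b⁻¹) * b = u by group] at this
      · rw [show b * u * b⁻¹ = MulAut.conj b u from rfl, MulEquiv.orderOf_eq, h₃]
    have haN : a₀ ∈ NO := hCN (hOC ha₀)
    have e : T = ((f a : ℂ) * (f a : ℂ)) * T := by
      conv_lhs => rw [hT]
      rw [← Finset.sum_bij' (s := invs S) (fun u _ => a₀ * u * a₀⁻¹) (fun u _ => a₀⁻¹ * u * a₀)
        (fun u hu => hmove a₀ haN (hOC ha₀) u hu)
        (fun u hu => by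
          have := hmove a₀⁻¹ (inv_mem haN) (inv_mem (hOC ha₀)) u hu
          rwa [inv_inv] at this)
        (fun u _ => by group) (fun u _ => by group) (fun _ _ => rfl), Finset.mul_sum]
      refine Finset.sum_congr rfl fun u hu => ?_
      rw [Finset.mul_sum]
      refine Finset.sum_congr rfl fun w hw => ?_
      obtain ⟨huN, huC, huo⟩ := mem_invs.1 hu
      obtain ⟨hwN, hwC, -⟩ := mem_invs.1 hw
      have huw : u * w ∈ CO := (hswap u huN w hwN).2 (iff_of_false huC hwC)
      have hui : u⁻¹ = u := inv_eq_of_mul_eq_one_right (by rw [← sq, ← huo, pow_orderOf_eq_one])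
      have hm : u * a₀⁻¹ * u⁻¹ ∈ CO := by
        have h := mul_mem (hLC (hinv u huN huC a₀⁻¹ (inv_mem (hOC ha₀)))) (inv_mem (inv_mem (hOC ha₀)))
        rwa [show u * a₀⁻¹ * u⁻¹ * a₀⁻¹ * a₀⁻¹⁻¹ = u * a₀⁻¹ * u⁻¹ by group] at h
      have e1 : a₀ * u * a₀⁻¹ * w = ((a * ⟨_, hm⟩ * ⟨_, huw⟩ : CO) : H) := by
        rw [Subgroup.coe_mul, Subgroup.coe_mul]
        show _ = a₀ * (u * a₀⁻¹ * u⁻¹) * (u * w)
        group
      rw [e1, extendByZero_coe, extendByZero_of_mem _ _ huw]
      show ((f _ : ℂˣ) : ℂ) = _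
      rw [map_mul, map_mul, hfconj u huN huC a⁻¹ ⟨_, hm⟩ rfl, map_inv, inv_inv]
      push_cast
      ring
    have hne : ((f a : ℂ) * (f a : ℂ)) ≠ 1 := fun h => hfa2 (Units.ext h)
    exact (mul_left_eq_self₀.mp e.symm).resolve_left hne
  have hsplit : ∀ u ∈ invs S, ∀ w ∈ invs S, extendByZero CO ψ (u * w) =
      1 - extendByZero CO (fun c => (f c : ℂ)) (u * w) := by
    intro u hu w hw
    obtain ⟨huN, huC, -⟩ := mem_invs.1 hu
    obtain ⟨hwN, hwC, -⟩ := mem_invs.1 hw
    have huw : u * w ∈ CO := (hswap u huN w hwN).2 (iff_of_false huC hwC)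
    rw [extendByZero_of_mem _ _ huw, extendByZero_of_mem _ _ huw]
  have hpairs : ∀ n : CO, (n : H) ∉ L →
      Nat.card {u : H // orderOf u = 2 ∧ orderOf (u * n) = 2} =
        ((invs S).filter fun u => u * (n : H) ∈ invs S).card := by
    intro n hn
    rw [← Nat.card_eq_finsetCard]
    refine Nat.card_congr (Equiv.subtypeEquivRight fun u => ?_)
    rw [Finset.mem_filter]
    constructor
    · rintro ⟨hu, hun⟩
      have hui : u⁻¹ = u := inv_eq_of_mul_eq_one_right (by rw [← sq, ← hu, pow_orderOf_eq_one])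
      have h2 : (u * n) * (u * n) = 1 := by rw [← sq, ← hun, pow_orderOf_eq_one]
      have hzi : u * (n : H) * u⁻¹ = (n : H)⁻¹ := by
        rw [hui]
        exact eq_inv_of_mul_eq_one_left (by rw [← h2]; group)
      have huN : u ∈ NO := hTIset n n.2 hn u (hzi ▸ inv_mem n.2)
      have huC : u ∉ CO := fun huC => hn (by
        have h := mul_mem (inv_mem (hinvL u huC hu)) (hinvL _ (mul_mem huC n.2) hun)
        rwa [inv_mul_cancel_left] at h)
      refine ⟨mem_invs.2 ⟨huN, huC, hu⟩, mem_invs.2 ⟨mul_mem huN (hCN n.2), fun h => ?_, hun⟩⟩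
      exact huC (((hswap u huN n (hCN n.2)).1 h).2 n.2)
    · rintro ⟨h, h'⟩
      exact ⟨(mem_invs.1 h).2.2, (mem_invs.1 h').2.2⟩
  have hL : classInner Φ W = 13824 * (o S : ℂ) ^ 3 := by
    rw [hΦ, inner_indFun CO ψ hWcl, inner_def,
      Finset.sum_congr rfl (g := fun n : CO => ((Nat.card (centralizer ({S.z} : Set H)) : ℂ) *
          (Nat.card (centralizer ({S.z} : Set H)) : ℂ)) *
        ∑ u ∈ invs S, if u * (n : H) ∈ invs S then extendByZero CO ψ (n : H) else 0)
        (fun n _ => ?_), ← Finset.mul_sum, Finset.sum_comm]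
    swap
    · show ψ n * conj (ways S (n : H) : ℂ) = _
      rw [map_natCast, ways_eq, Nat.cast_mul, Nat.cast_mul, ← Finset.sum_filter, Finset.sum_const,
        nsmul_eq_mul, extendByZero_coe]
      by_cases hn : (n : H) ∈ L
      · simp [ψ, hfL n hn]
      · rw [hpairs n hn]
        ring
    rw [Finset.sum_congr rfl (g := fun u : H => ∑ w ∈ invs S, extendByZero CO ψ (u * w))
      (fun u hu => ?_)]
    · rw [Finset.sum_congr rfl fun u hu => Finset.sum_congr rfl fun w hw => hsplit u hu w hw]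
      simp only [Finset.sum_sub_distrib, Finset.sum_const, nsmul_eq_mul, mul_one]
      rw [hJsum, card_C, sub_zero]
      have hJ' : ((invs S).card : ℂ) ^ 2 = 3 * (o S : ℂ) * ((Nat.card CO : ℂ) * 2) := by
        rw [card_invs]
        exact_mod_cast (hcardN ▸ hJ)
      push_cast
      field_simp
      linear_combination (2304 * (o S : ℂ) ^ 2) * hJ'
    · obtain ⟨huN, huC, huo⟩ := mem_invs.1 hu
      have hui : u⁻¹ = u := inv_eq_of_mul_eq_one_right (by rw [← sq, ← huo, pow_orderOf_eq_one])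
      refine Finset.sum_bij_ne_zero (fun n _ _ => u * (n : H)) ?_ ?_ ?_ ?_
      · intro n _ hn
        by_contra h
        exact hn (if_neg h)
      · intro n₁ _ _ n₂ _ _ h
        exact Subtype.ext (mul_left_cancel h)
      · intro w hw _
        obtain ⟨hwN, hwC, -⟩ := mem_invs.1 hw
        have huw : u * w ∈ CO := (hswap u huN w hwN).2 (iff_of_false huC hwC)
        have e : u * (u * w) = w := by rw [← mul_assoc, ← sq, ← huo, pow_orderOf_eq_one, one_mul]
        exact ⟨⟨_, huw⟩, Finset.mem_univ _, by rw [if_pos (by rw [e]; exact hw)]; assumption, e⟩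
      · intro n _ hn
        have h : u * (n : H) ∈ invs S := by
          by_contra h
          exact hn (if_neg h)
        rw [if_pos h]
        congr 1
        rw [← mul_assoc, ← sq, ← huo, pow_orderOf_eq_one, one_mul]
  obtain ⟨P⟩ := exists_pair hS S hM hgen h3 h1 hone hL
  have hz0 : (0 : ℤ) = 1 - P.m₁ + P.m₂ := by
    have h := hval ⟨S.z, hzC⟩
    rw [hfL ⟨S.z, hzC⟩ hzL, inv_one, Units.val_one, P.eq] at h
    simp only [Pi.add_apply, Pi.sub_apply, P.val₁, P.val₂] at h
    norm_num at h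
    exact_mod_cast h.symm
  have havg : (2 : ℤ) = 1 - P.e₁ * P.m₁ + P.e₂ * P.m₂ := by
    have h := P.avg
    haveI := Fintype.ofFinite S.π.ker
    have hO : ∀ a : S.π.ker, ((a : centralizer ({S.z} : Set H)) : H) ∈ S.O := fun a =>
      Subgroup.mem_map_of_mem _ a.2
    let f' : S.π.ker →* ℂˣ := f.comp (MonoidHom.codRestrict
      ((centralizer ({S.z} : Set H)).subtype.comp S.π.ker.subtype) CO fun a => hOC (hO a))
    obtain ⟨a', ha', hae⟩ := Subgroup.mem_map.1 ha₀
    have hf' : f' ⟨a', ha'⟩ ≠ 1 := by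
      refine fun h => hfa (Eq.trans (congrArg f ?_) h)
      exact Subtype.ext hae.symm
    have hpt : ∀ a : S.π.ker, Φ (S.z * ((a : centralizer ({S.z} : Set H)) : H)) =
        2 - (f' a : ℂ) - ((f' a)⁻¹ : ℂˣ).val := by
      intro a
      have h := hval (⟨S.z, hzC⟩ * ⟨_, hOC (hO a)⟩)
      rw [map_mul, hfL ⟨S.z, hzC⟩ hzL, one_mul] at h
      exact h
    rw [finsum_eq_sum_of_fintype, Finset.sum_congr rfl (fun a _ => hpt a), Finset.sum_sub_distrib,
      Finset.sum_sub_distrib, sum_hom_zero f' hf', sum_hom_inv_zero f' hf', Finset.sum_const,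
      Finset.card_univ, ← Nat.card_eq_fintype_card, nsmul_eq_mul, sub_zero, sub_zero, ← mul_assoc,
      inv_mul_cancel₀ (Nat.cast_ne_zero.2 (card_C_pos S).ne'), one_mul] at h
    exact_mod_cast h
  have hmod₁ := P.mod₁
  have hmod₂ := P.mod₂
  have hf := P.formula
  rcases P.e₁_le with h₁ | h₁ <;> rcases P.e₂_le with h₂ | h₂ <;> rw [h₁, h₂] at havg
  · omega
  · have hm₂ : P.m₂ = 1 := by omega
    have hm₁ : P.m₁ = 2 := by omega
    refine ⟨P.d, (P.d : ℤ) - 1, P.d_pos, Or.inl ⟨rfl, by omega⟩, ?_⟩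
    rw [hm₁, hm₂] at hf
    apply Int.cast_injective (α := ℂ)
    push_cast at hf ⊢
    linear_combination hf
  · have hm₁ : P.m₁ = -1 := by omega
    have hm₂ : P.m₂ = -2 := by omega
    refine ⟨P.d, (P.d : ℤ) + 2, P.d_pos, Or.inr ⟨rfl, by omega⟩, ?_⟩
    rw [hm₁, hm₂] at hf
    apply Int.cast_injective (α := ℂ)
    push_cast at hf ⊢
    linear_combination hf
  · omega

end CfsgLib.Subdeg3.Arith
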