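import Mathlib

/-!
# The two order formulas contradict each other
-/

set_option autoImplicit false

namespace CfsgLib.Subdeg3.ArithNum

/-- A candidate for the integral square root, by bisection. -/
def bisect (N : ℕ) : ℕ → ℕ → ℕ → ℕ
  | 0, lo, _ => lo
  | fuel + 1, lo, hi =>
    if (lo + hi) / 2 * ((lo + hi) / 2) ≤ N then bisect N fuel ((lo + hi) / 2) hi
    else bisect N fuel lo ((lo + hi) / 2)

/-- The quadratic form of the first formula. -/
def formB (x X : ℤ) : ℤ := X ^ 2 + (14 * x - 48) * X + x ^ 2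

/-- A certificate that `N` is not a square. -/
def notSq (N : ℤ) : Bool :=
  let s : ℤ := (bisect N.toNat 28 0 134217728 : ℕ)
  decide (0 ≤ s) && decide (s * s < N) && decide (N < (s + 1) * (s + 1))

/-- Two integers are divisible by different powers of two. -/
def parMismatch (B C : ℤ) : Bool :=
  (List.range 22).any fun j =>
    decide (B % (2 : ℤ) ^ j = 0) != decide (C % (2 : ℤ) ^ j = 0)

/-- The check of one value. -/
def chk (x X : ℤ) : Bool :=
  decide (formB x X ≤ 0) || parMismatch (formB x X) (192 * (X * (X + 1))) ||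
    notSq (3 * formB x X * (8 * (2 * X * (X + 1)) + 3 * formB x X))

theorem chk_all : (List.range 6).all (fun x => (List.range 600).all fun i =>
    chk ((x + 1 : ℕ) : ℤ) ((((x + 1) % 4 + 4 * i : ℕ)) : ℤ)) = true := by decide +kernel

theorem notSq_sound {N u : ℤ} (h : notSq N = true) : u * u ≠ N := by
  simp only [notSq, Bool.and_eq_true, decide_eq_true_eq] at h
  obtain ⟨⟨hs, h1⟩, h2⟩ := h
  intro hu
  generalize ((bisect N.toNat 28 0 134217728 : ℕ) : ℤ) = s at hs h1 h2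
  rw [← hu, ← abs_mul_abs_self u] at h1 h2
  have a1 : s < |u| := by nlinarith [abs_nonneg u]
  have a2 : |u| < s + 1 := by nlinarith [abs_nonneg u]
  omega

theorem parMismatch_sound {B C k m : ℤ} (hk : Odd k) (hm : Odd m) (h : k * B = m * C) :
    parMismatch B C = false := by
  rw [parMismatch, List.any_eq_false]
  intro j _
  simp only [bne_iff_ne, ne_eq, not_not, decide_eq_decide]
  have hcop : ∀ t : ℤ, Odd t → IsCoprime ((2 : ℤ) ^ j) t := by
    intro t ⟨s, hs⟩
    exact IsCoprime.pow_left ⟨-s, 1, by rw [hs]; ring⟩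
  rw [← Int.dvd_iff_emod_eq_zero, ← Int.dvd_iff_emod_eq_zero]
  constructor
  · intro hB
    exact (hcop m hm).dvd_of_dvd_mul_left (h ▸ dvd_mul_of_dvd_right hB k)
  · intro hC
    exact (hcop k hk).dvd_of_dvd_mul_left (h.symm ▸ dvd_mul_of_dvd_right hC m)

theorem bound_case₁ {x X D B : ℤ} (hx1 : 1 ≤ x) (hx6 : x ≤ 6) (hB : B = formB x X) (hB0 : 0 < B)
    (hX : 2400 ≤ X) (hD : 5 ≤ D)
    (h : 2 * X * (X + 1) * (D - 1) ^ 2 = 3 * B * (D * (D + 1))) : False := by
  have h1 : (D - 1) ^ 2 < D * (D + 1) := by nlinarith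
  have h2 : 3 * B < 2 * X * (X + 1) := by
    by_contra hc
    have h3 : 2 * X * (X + 1) * (D - 1) ^ 2 ≤ 3 * B * (D - 1) ^ 2 :=
      mul_le_mul_of_nonneg_right (not_lt.1 hc) (sq_nonneg _)
    have h4 : 3 * B * (D - 1) ^ 2 < 3 * B * (D * (D + 1)) :=
      mul_lt_mul_of_pos_left h1 (by linarith)
    linarith
  rw [hB, formB] at h2
  interval_cases x <;> nlinarith

theorem bound_case₂ {x X D B : ℤ} (hx1 : 1 ≤ x) (hx6 : x ≤ 6) (hB : B = formB x X) (hB0 : 0 < B)
    (hX : 2400 ≤ X) (hD : 0 < D) (h4 : (4 : ℤ) ∣ D + 2)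
    (h : 2 * X * (X + 1) * (D + 2) ^ 2 = 3 * B * (D * (D + 1))) : False := by
  rcases (show D = 2 ∨ D = 6 ∨ 10 ≤ D by omega) with rfl | rfl | hD10
  · rw [hB, formB] at h
    interval_cases x <;> nlinarith
  · rw [hB, formB] at h
    interval_cases x <;> nlinarith
  · have h1 : 110 * (D + 2) ^ 2 ≤ 144 * (D * (D + 1)) := by nlinarith
    have h2 : 110 * (3 * B) ≤ 144 * (2 * X * (X + 1)) := by
      by_contra hc
      have hpos : 0 < D * (D + 1) := by positivity
      have h3 : 144 * (2 * X * (X + 1)) * (D * (D + 1)) < 110 * (3 * B) * (D * (D + 1)) :=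
        mul_lt_mul_of_pos_right (not_le.1 hc) hpos
      have h4 : 2 * X * (X + 1) * (110 * (D + 2) ^ 2) ≤ 2 * X * (X + 1) * (144 * (D * (D + 1))) :=
        mul_le_mul_of_nonneg_left h1 (by nlinarith)
      nlinarith
    rw [hB, formB] at h2
    interval_cases x <;> nlinarith

/-- No integers satisfy the two formulas. -/
theorem no_solution {x X D E k o : ℤ} (hx1 : 1 ≤ x) (hx6 : x ≤ 6) (h4 : (4 : ℤ) ∣ X - x)
    (hX : 0 < X) (hD : 0 < D) (hk : Odd k) (hk0 : 0 < k) (ho : Odd o)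
    (hE : (E = D - 1 ∧ (4 : ℤ) ∣ D - 1) ∨ (E = D + 2 ∧ (4 : ℤ) ∣ D + 2))
    (h₁ : k * formB x X = 192 * o ^ 2 * (X * (X + 1)))
    (h₂ : k * E ^ 2 = 288 * o ^ 2 * (D * (D + 1))) : False := by
  have ho2 : 0 < o ^ 2 := by
    obtain ⟨s, rfl⟩ := ho
    exact lt_of_le_of_ne (sq_nonneg _) (Ne.symm (pow_ne_zero 2 (by omega)))
  have hX' : 0 < X * (X + 1) := by positivity
  have hD' : 0 < D * (D + 1) := by positivity
  set B := formB x X with hB
  have hB0 : 0 < B := by
    by_contra hc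
    have : k * B ≤ 0 := mul_nonpos_of_nonneg_of_nonpos hk0.le (not_lt.1 hc)
    nlinarith
  have hmain : 2 * X * (X + 1) * E ^ 2 = 3 * B * (D * (D + 1)) := by
    refine mul_left_cancel₀ (a := 96 * o ^ 2 * k) (by positivity) ?_
    linear_combination (-(k * E ^ 2)) * h₁ + (k * B) * h₂
  have hX2400 : X < 2400 := by
    by_contra hc
    rcases hE with ⟨rfl, hd⟩ | ⟨rfl, hd⟩
    · refine bound_case₁ hx1 hx6 hB hB0 (not_lt.1 hc) ?_ hmain
      rcases (show D = 1 ∨ 5 ≤ D by omega) with rfl | h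
      · norm_num at h₂
        nlinarith
      · exact h
    · exact bound_case₂ hx1 hx6 hB hB0 (not_lt.1 hc) hD hd hmain
  -- the certificate
  obtain ⟨a, ha⟩ : ∃ a : ℕ, x = (a + 1 : ℕ) := ⟨(x - 1).toNat, by omega⟩
  obtain ⟨i, hi, hXi⟩ : ∃ i : ℕ, i < 600 ∧ X = (((a + 1) % 4 + 4 * i : ℕ)) :=
    ⟨((X - ((a + 1) % 4 : ℕ)) / 4).toNat, by omega, by omega⟩
  have hc := List.all_eq_true.1 (List.all_eq_true.1 chk_all a (List.mem_range.2 (by omega))) i
    (List.mem_range.2 hi)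
  rw [← ha, ← hXi] at hc
  simp only [chk, ← hB, Bool.or_eq_true, decide_eq_true_eq] at hc
  rcases hc with (hc | hc) | hc
  · omega
  · rw [parMismatch_sound hk (ho.pow (n := 2)) (show k * B = o ^ 2 * (192 * (X * (X + 1))) by
      rw [h₁]; ring)] at hc
    exact Bool.false_ne_true hc
  · set P := 2 * X * (X + 1) with hP
    rcases hE with ⟨rfl, -⟩ | ⟨rfl, -⟩
    · refine notSq_sound (u := 2 * (P - 3 * B) * D - (2 * P + 3 * B)) hc ?_
      linear_combination (4 * (P - 3 * B)) * hmain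
    · refine notSq_sound (u := 2 * (P - 3 * B) * D + (4 * P - 3 * B)) hc ?_
      linear_combination (4 * (P - 3 * B)) * hmain

end CfsgLib.Subdeg3.ArithNum
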