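import Cfsg.Agent.Lib.Subdeg3.ArithTheta
import Cfsg.Agent.Lib.Subdeg3.ArithPhi
import Cfsg.Agent.Lib.Subdeg3.ArithNum

/-!
# The characters kill the odd core
-/

set_option autoImplicit false
set_option linter.style.haveILetI false
set_option linter.unusedSectionVars false

namespace CfsgLib.Subdeg3

open Subgroup

universe u

theorem ti_false {H : Type u} [Group H] [Fintype H] {V : Subgroup H} (hS : Setup H V)
    (S : SDCent H V) (h : TIData S) : False := by
  obtain ⟨_, _, X, x, hx1, hx6, h4, hX, -, -, -, h₁⟩ := Arith.theta_facts hS S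
  obtain ⟨D, E, hD, hE, h₂⟩ := Arith.phi_facts hS S h
  obtain ⟨k₀, hk⟩ : 48 * Arith.o S ∣ Nat.card H := by
    rw [mul_comm, ← Arith.card_C S]
    exact Subgroup.card_subgroup_dvd_card _
  have hkodd : Odd k₀ := by
    rw [← Nat.not_even_iff_odd]
    rintro ⟨t, rfl⟩
    exact S.sylow ⟨3 * Arith.o S * t, by rw [hk]; ring⟩
  have hk0 : 0 < k₀ := hkodd.pos
  have ho : Odd (Arith.o S) := S.kerOdd
  have hne : (48 * (Arith.o S : ℤ)) ≠ 0 := by
    have := Arith.card_C_pos S
    omega
  rw [hk] at h₁ h₂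
  push_cast at h₁ h₂
  refine ArithNum.no_solution hx1 hx6 h4 (X := (X : ℤ)) (D := (D : ℤ)) (k := (k₀ : ℤ))
    (o := (Arith.o S : ℤ)) (by exact_mod_cast hX) (by exact_mod_cast hD)
    (by exact_mod_cast hkodd) (by exact_mod_cast hk0) (by exact_mod_cast ho) hE ?_ ?_
  · refine mul_left_cancel₀ hne ?_
    rw [ArithNum.formB]
    linear_combination h₁
  · refine mul_left_cancel₀ hne ?_
    linear_combination h₂

/-- Piece P5: the characters kill the core. -/
theorem arith : StmtArith.{u} := by
  intro H _ _ V hS S hdata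
  haveI := Fintype.ofFinite H
  exact (ti_false hS S hdata).elim

end CfsgLib.Subdeg3
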