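import Cfsg.Agent.Lib.Subdeg3.Defs
import Cfsg.Agent.Lib.Small.CentralizerGL23
import Cfsg.Agent.Lib.CharApps.PrincipalColumns
import Cfsg.Agent.Lib.CharApps.AbelianSylow
import Cfsg.Agent.Lib.BlockApps.SameHeightZeroSets
import Cfsg.Agent.Lib.AschbacherForm.SympWreath

/-!
# Character facts at the involution of an extension of an odd group by `GL(2, 3)`
-/

set_option autoImplicit false
set_option linter.style.haveILetI false
set_option linter.unusedSectionVars false

open Cfsg CfsgLib.Chars CfsgLib.Blocks CfsgLib.CharApps Subgroup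
open scoped ComplexConjugate

namespace CfsgLib.Subdeg3.Arith

open CfsgLib.Small

universe u

theorem odd_normal_trivial : ∀ g ∈ GL23.els, (g ^ 3).val = 1 → g.val ≠ 1 →
    ∃ x ∈ GL23.els, ((g * (x * g * x⁻¹)) ^ 3).val ≠ 1 := by decide +kernel

theorem det_of_involution : ∀ g ∈ GL23.els, g.val ≠ 1 → (g * g).val = 1 →
    g.val ≠ !![2, 0; 0, 2] → GL23.det g ≠ 1 := by decide +kernel

theorem det_of_pairs : ∀ g ∈ GL23.els, GL23.v g ≠ 0 → ∀ u ∈ GL23.els, u.val ≠ 1 → (u * u).val = 1 →
    (u * g).val ≠ 1 → (u * g * (u * g)).val = 1 →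
    u.val ≠ !![2, 0; 0, 2] ∧ (u * g).val ≠ !![2, 0; 0, 2] := by decide +kernel

theorem exists_det_ne : ∃ g ∈ GL23.els, GL23.det g ≠ 1 := by decide +kernel

theorem v_neg_ne : ∀ g ∈ GL23.els, (g ^ 3).val = 1 → ∀ z ∈ GL23.els, z.val = !![2, 0; 0, 2] →
    GL23.v (z * g) ≠ 0 := by decide +kernel

theorem v_neg_one : ∀ g ∈ GL23.els, g.val = !![2, 0; 0, 2] → GL23.v g = 8 := by decide +kernel

theorem cube_eq_one_of_odd (g : GL23.H) (h : Odd (orderOf g)) : (g ^ 3).val = 1 := by
  have h48 : orderOf g ∣ 48 := by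
    rw [← GL23.card_eq]; exact orderOf_dvd_card
  have h3 : orderOf g ∣ 3 := by
    have : (orderOf g).Coprime 16 := by
      have := (Nat.coprime_two_right.2 h).pow_right 4
      simpa using this
    exact this.dvd_of_dvd_mul_left (show orderOf g ∣ 16 * 3 from h48)
  rw [orderOf_dvd_iff_pow_eq_one.1 h3]
  rfl

variable {H : Type u} [Group H] [Fintype H] {V : Subgroup H}

/-- A linear character is trivial on an involution of a four-group of conjugate involutions. -/
theorem hom_trivial (hS : Setup H V) (S : SDCent H V) (f : H →* ℂˣ) : f S.z = 1 := by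
  haveI := hS.four
  obtain ⟨⟨u, huV⟩, hu1, huz⟩ : ∃ u : V, u ≠ 1 ∧ u ≠ ⟨S.z, S.mem⟩ := by
    classical
    haveI := Fintype.ofFinite V
    obtain ⟨u, hu⟩ := Finset.exists_mem_notMem_of_card_lt_card
      (s := ({1, ⟨S.z, S.mem⟩} : Finset V)) (t := Finset.univ) (by
        refine lt_of_le_of_lt Finset.card_le_two ?_
        rw [Finset.card_univ, ← Nat.card_eq_fintype_card, IsKleinFour.card_four]
        norm_num)
    refine ⟨u, ?_⟩
    simpa [not_or] using hu.2
  have hne : u ≠ 1 := fun h => hu1 (Subtype.ext h)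
  have hsq : ∀ w ∈ V, w * w = 1 := fun w hw => by
    exact congrArg Subtype.val (IsKleinFour.mul_self (⟨w, hw⟩ : V))
  have hord : ∀ w ∈ V, w ≠ 1 → orderOf w = 2 := fun w hw h1 =>
    orderOf_eq_prime (by rw [sq]; exact hsq w hw) h1
  have hcl : ∀ w ∈ V, w ≠ 1 → f w = f S.z := fun w hw h1 => by
    obtain ⟨c, hc⟩ := isConj_iff.1 (S.conj w (hord w hw h1))
    rw [← hc, map_mul, map_mul, map_inv, mul_right_comm, mul_inv_cancel, one_mul]
  have huz' : u * S.z ≠ 1 := by
    intro h
    refine huz (Subtype.ext ?_)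
    have h1 := hsq S.z S.mem
    exact mul_right_cancel (h.trans h1.symm)
  have h := hcl (u * S.z) (mul_mem huV S.mem) huz'
  rw [map_mul, hcl u huV hne] at h
  exact mul_eq_right.1 h

/-- The kernel of `π`. -/
noncomputable abbrev o (S : SDCent H V) : ℕ := Nat.card S.π.ker

theorem card_O (S : SDCent H V) : Nat.card S.O = o S := Subgroup.card_subtype _ _

/-- The involution in its centralizer. -/
def zC (S : SDCent H V) : centralizer ({S.z} : Set H) :=
  ⟨S.z, mem_centralizer_singleton_iff.2 rfl⟩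

theorem zC_comm (S : SDCent H V) (c : centralizer ({S.z} : Set H)) : zC S * c = c * zC S :=
  Subtype.ext (mem_centralizer_singleton_iff.1 c.2).symm

theorem z_sq (S : SDCent H V) : S.z * S.z = 1 := by rw [← sq, ← S.ord, pow_orderOf_eq_one]

theorem pow_o_eq_one (S : SDCent H V) {a : centralizer ({S.z} : Set H)} (ha : a ∈ S.π.ker) :
    a ^ o S = 1 :=
  orderOf_dvd_iff_pow_eq_one.1 (Subgroup.orderOf_dvd_natCard _ ha)

theorem odd_orderOf_ker (S : SDCent H V) {a : centralizer ({S.z} : Set H)} (ha : a ∈ S.π.ker) :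
    Odd (orderOf a) :=
  Odd.of_dvd_nat S.kerOdd (Subgroup.orderOf_dvd_natCard _ ha)

theorem zC_pow_o (S : SDCent H V) : zC S ^ o S = zC S := by
  obtain ⟨m, hm⟩ := S.kerOdd
  have h : zC S ^ 2 = 1 := Subtype.ext (by rw [sq]; exact z_sq S)
  rw [show o S = 2 * m + 1 from hm, pow_succ, pow_mul, h, one_pow, one_mul]

theorem pi_zC (S : SDCent H V) : (S.π (zC S)).val = !![2, 0; 0, 2] := by
  have h2 : zC S * zC S = 1 := Subtype.ext (z_sq S)
  refine GL23.central_involution _ (GL23.mem_els _) (fun h => ?_) ?_ (fun g _ => ?_)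
  · have hk : zC S ∈ S.π.ker := Units.ext h
    have := odd_orderOf_ker S hk
    have ho : orderOf (zC S) = 2 := by rw [← Subgroup.orderOf_coe]; exact S.ord
    rw [ho] at this
    exact absurd this (by decide)
  · rw [← map_mul, h2, map_one]; rfl
  · obtain ⟨c, rfl⟩ := S.surj g
    rw [← map_mul, ← map_mul, zC_comm]

theorem ker_comm (S : SDCent H V) {a b : centralizer ({S.z} : Set H)} (ha : a ∈ S.π.ker)
    (hb : b ∈ S.π.ker) : a * b = b * a := by
  obtain ⟨g, -, hg⟩ := exists_det_ne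
  obtain ⟨c, rfl⟩ := S.surj g
  have e := S.outer c (a * b) (mul_mem ha hb) hg
  have e2 : c * (a * b) * c⁻¹ = (c * a * c⁻¹) * (c * b * c⁻¹) := by group
  rw [e2, S.outer c a ha hg, S.outer c b hb hg, ← mul_inv_rev] at e
  exact (inv_injective e).symm

theorem card_C (S : SDCent H V) :
    Nat.card (centralizer ({S.z} : Set H)) = o S * 48 := by
  rw [← GL23.card_eq, ← Nat.card_eq_fintype_card, ← Subgroup.card_mul_index S.π.ker,
    Subgroup.index_ker, MonoidHom.range_eq_top.2 S.surj, Subgroup.card_top]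

theorem card_C_pos (S : SDCent H V) : 0 < o S := Nat.card_pos

/-- Sums of functions of the image. -/
theorem sum_pi (S : SDCent H V) [Fintype (centralizer ({S.z} : Set H))] (F : GL23.H → ℤ) :
    ∑ c : centralizer ({S.z} : Set H), ((F (S.π c) : ℤ) : ℂ) =
      (o S : ℂ) * (((GL23.els.map F).sum : ℤ) : ℂ) := by
  classical
  rw [← GL23.sum_els F, Int.cast_sum, Finset.mul_sum,
    ← Finset.sum_fiberwise Finset.univ S.π (fun c => ((F (S.π c) : ℤ) : ℂ))]
  refine Finset.sum_congr rfl fun g _ => ?_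
  rw [Finset.sum_congr rfl (g := fun _ => ((F g : ℤ) : ℂ)) (fun c hc => by
    rw [(Finset.mem_filter.1 hc).2]), Finset.sum_const, nsmul_eq_mul]
  refine congrArg (· * _) (congrArg Nat.cast ?_)
  obtain ⟨c₀, rfl⟩ := S.surj g
  rw [o, ← Fintype.card_subtype, ← Nat.card_eq_fintype_card]
  refine Nat.card_congr
    { toFun := fun c => ⟨c₀⁻¹ * c.1, by
        rw [MonoidHom.mem_ker, map_mul, map_inv, c.2, inv_mul_cancel]⟩
      invFun := fun a => ⟨c₀ * a.1, by rw [map_mul, MonoidHom.mem_ker.1 a.2, mul_one]⟩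
      left_inv := fun c => Subtype.ext (mul_inv_cancel_left c₀ c.1)
      right_inv := fun a => Subtype.ext (inv_mul_cancel_left c₀ a.1) }

theorem not_two_dvd_o (S : SDCent H V) : ¬ 2 ∣ o S :=
  fun h => (Nat.not_even_iff_odd.2 S.kerOdd) (even_iff_two_dvd.2 h)

theorem isPSolvable_C (S : SDCent H V) [Fact (Nat.Prime 2)] :
    IsPSolvable 2 (centralizer ({S.z} : Set H)) := by
  haveI : Group.IsSolvable GL23.H := AschbacherForm.isSolvable_GL_two (by simp)
  haveI : Group.IsSolvable S.π.ker :=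
    Group.isSolvable_of_comm fun a b => Subtype.ext (ker_comm S a.2 b.2)
  haveI : Group.IsSolvable (centralizer ({S.z} : Set H)) :=
    Group.isSolvable_of_ker_le_range S.π.ker.subtype S.π (by rw [Subgroup.range_subtype])
  exact PLocal.isPSolvable_of_isSolvable

theorem core_le_ker (S : SDCent H V) [Fact (Nat.Prime 2)] :
    pPrimeCore 2 (centralizer ({S.z} : Set H)) ≤ S.π.ker := by
  intro n hn
  by_contra hne
  haveI := pPrimeCore_normal 2 (centralizer ({S.z} : Set H))
  have hodd : ∀ m ∈ pPrimeCore 2 (centralizer ({S.z} : Set H)), ((S.π m) ^ 3).val = 1 :=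
    fun m hm => cube_eq_one_of_odd _ (Odd.of_dvd_nat (Nat.odd_iff.2 (Nat.two_dvd_ne_zero.1
      (Base.not_dvd_card_pPrimeCore 2 (centralizer ({S.z} : Set H)))))
      ((orderOf_map_dvd S.π m).trans (Subgroup.orderOf_dvd_natCard _ hm)))
  obtain ⟨x, -, hx⟩ := odd_normal_trivial _ (GL23.mem_els (S.π n)) (hodd n hn)
    (fun h => hne (Units.ext h))
  obtain ⟨c, rfl⟩ := S.surj x
  refine hx ?_
  have := hodd _ (mul_mem hn ((inferInstance : (pPrimeCore 2
    (centralizer ({S.z} : Set H))).Normal).conj_mem n hn c))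
  simpa using this

/-- The average over the odd kernel at `z` is the part of the principal block. -/
theorem blockPart_avg (S : SDCent H V) [Fact (Nat.Prime 2)] {M : Ideal AlgInt} [M.IsPrime]
    (hM : IsPModular 2 M) {Ψ : H → ℂ} (hΨ : IsClassFunction H Ψ) :
    blockPart (principalBlock M H) Ψ S.z =
      (o S : ℂ)⁻¹ * ∑ᶠ a : S.π.ker, Ψ (S.z * ((a : centralizer ({S.z} : Set H)) : H)) := by
  classical
  haveI := Fintype.ofFinite (centralizer ({S.z} : Set H))
  haveI := irrFintype (centralizer ({S.z} : Set H))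
  haveI := Fintype.ofFinite S.π.ker
  rw [finsum_eq_sum_of_fintype]
  set C := centralizer ({S.z} : Set H) with hC
  set g : C → ℂ := fun c => Ψ (S.z * (c : H)) with hg
  have hz : ∃ k, orderOf S.z = 2 ^ k := ⟨1, S.ord⟩
  have h1o : ¬ 2 ∣ orderOf (1 : C) := by rw [orderOf_one]; norm_num
  have h := blockPart_principalBlock_centralizer hM hΨ hz h1o
  rw [Subgroup.coe_one, mul_one, blockPart_apply_eq_sum (G := C)] at h
  rw [h]
  have hsplit := classFun_eq_sum (isClassFunction_mul_left (z := S.z) hΨ)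
  have hav : ∀ ξ : IrrCharacter C, ξ ∈ principalBlock M C ↔
      ∀ a ∈ S.π.ker, (ξ : C → ℂ) a = (ξ : C → ℂ) 1 := by
    intro ξ
    refine ⟨fun hξ a ha => principalBlock_apply_normal hM.2.2 (not_two_dvd_o S) hξ ha,
      fun hξ => BlockApps.SameZero.mem_principalBlock_of_ker hM.2.2 (isPSolvable_C S)
        fun a ha => CharApps.mem_charKer.2 (hξ a (core_le_ker S ha))⟩
  have havg : ∀ ξ : IrrCharacter C, (o S : ℂ)⁻¹ * ∑ a : S.π.ker, (ξ : C → ℂ) a =
      if ξ ∈ principalBlock M C then (ξ : C → ℂ) 1 else 0 := by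
    intro ξ
    have hω : omega (ξ : C → ℂ) (avgInd S.π.ker) * (ξ : C → ℂ) 1 =
        (o S : ℂ)⁻¹ * ∑ a : S.π.ker, (ξ : C → ℂ) a := by
      rw [omega, div_mul_cancel₀ _ (irr_degree_ne_zero ξ.2),
        ← Finset.sum_filter_add_sum_filter_not Finset.univ (fun c => c ∈ S.π.ker)]
      rw [Finset.sum_eq_zero (s := Finset.univ.filter fun c => ¬ c ∈ S.π.ker) (fun c hc => by
        rw [avgInd_apply, if_neg (Finset.mem_filter.1 hc).2, zero_mul]), add_zero, Finset.mul_sum,
        Finset.sum_subtype (p := fun c => c ∈ S.π.ker) _ (by simp)]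
      exact Finset.sum_congr rfl fun a _ => by rw [avgInd_apply, if_pos a.2]
    rw [← hω]
    split_ifs with hξ
    · rw [(omega_avgInd_eq_one_iff _ ξ).2 ((hav ξ).1 hξ), one_mul]
    · rw [(omega_avgInd_eq_zero_or_one _ ξ).resolve_right fun h1 =>
        hξ ((hav ξ).2 ((omega_avgInd_eq_one_iff _ ξ).1 h1)), zero_mul]
  calc ∑ ξ ∈ Finset.univ.filter (· ∈ principalBlock M C), classInner g (ξ : C → ℂ) * (ξ : C → ℂ) 1
      = ∑ ξ : IrrCharacter C, classInner g (ξ : C → ℂ) *
          ((o S : ℂ)⁻¹ * ∑ a : S.π.ker, (ξ : C → ℂ) a) := by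
        rw [Finset.sum_filter]
        refine Finset.sum_congr rfl fun ξ _ => ?_
        rw [havg ξ]
        split_ifs <;> simp
    _ = (o S : ℂ)⁻¹ * ∑ a : S.π.ker, g a := by
        rw [Finset.mul_sum, Finset.sum_congr rfl (g := fun a : S.π.ker => ∑ ξ : IrrCharacter C,
          (o S : ℂ)⁻¹ * (classInner g (ξ : C → ℂ) * (ξ : C → ℂ) a)) (s₁ := Finset.univ)
          (fun a _ => ?_), Finset.sum_comm]
        · refine Finset.sum_congr rfl fun ξ _ => ?_
          rw [Finset.mul_sum, Finset.mul_sum]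
          exact Finset.sum_congr rfl fun a _ => by ring
        · have e := congrFun hsplit (a : C)
          simp only [hg]
          rw [e, Finset.sum_apply, Finset.mul_sum]
          simp only [Pi.smul_apply, smul_eq_mul]
          rfl

/-- The principal block column at `z` has norm `48`. -/
theorem column_norm (S : SDCent H V) [Fact (Nat.Prime 2)] {M : Ideal AlgInt} [M.IsPrime]
    (hM : IsPModular 2 M) :
    ∑ᶠ χ ∈ principalBlock M H, (χ : H → ℂ) S.z * conj ((χ : H → ℂ) S.z) = 48 := by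
  classical
  haveI := Fintype.ofFinite S.π.ker
  have h := blockPart_avg S hM (isClassFunction_classInd S.z)
  rw [blockPart_classInd, finsum_eq_sum_of_fintype
    (fun a : S.π.ker => classInd S.z (S.z * ((a : centralizer ({S.z} : Set H)) : H))),
    Finset.sum_eq_single (1 : S.π.ker) ?_ (by simp),
    classInd_apply, if_pos (by rw [Subgroup.coe_one, Subgroup.coe_one, mul_one]), card_C,
    Nat.cast_mul, Nat.cast_ofNat] at h
  · have ho : (o S : ℂ) ≠ 0 := Nat.cast_ne_zero.2 (card_C_pos S).ne'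
    field_simp at h
    linear_combination h
  · intro a _ ha
    rw [classInd_apply, if_neg]
    intro hc
    obtain ⟨g, hg⟩ := isConj_iff.1 hc
    have hpow : S.z * ((a : centralizer ({S.z} : Set H)) : H) *
        (S.z * ((a : centralizer ({S.z} : Set H)) : H)) = 1 := by
      rw [← hg, show g * S.z * g⁻¹ * (g * S.z * g⁻¹) = g * (S.z * S.z) * g⁻¹ by group, z_sq]
      group
    have e : ((zC S * a.1) * (zC S * a.1) : centralizer ({S.z} : Set H)) = 1 := Subtype.ext hpow
    have hcm : Commute (zC S) a.1 := zC_comm S a.1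
    rw [← sq, hcm.mul_pow, show zC S ^ 2 = 1 from Subtype.ext (by rw [sq]; exact z_sq S),
      one_mul] at e
    have h2 := orderOf_dvd_of_pow_eq_one e
    have hone : orderOf a.1 = 1 :=
      Nat.eq_one_of_dvd_coprimes (Nat.coprime_two_right.2 (odd_orderOf_ker S a.2)) dvd_rfl h2
    exact ha (Subtype.ext (orderOf_eq_one_iff.1 hone))

/-- `χ(t) ≡ χ(1)` modulo four when linear characters are trivial at `t`. -/
theorem four_dvd (χ : IrrCharacter H) {t : H} (hlin : ∀ f : H →* ℂˣ, f t = 1)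
    (ht : t * t = 1) {m : ℤ} (hm : (m : ℂ) = (χ : H → ℂ) t) :
    (4 : ℤ) ∣ (charDegree (χ : H → ℂ) : ℤ) - m := by
  classical
  obtain ⟨d, ρ, hρ, hρχ⟩ := χ.2
  have hd : charDegree (χ : H → ℂ) = d := by simp [charDegree, ← hρχ]
  obtain ⟨b, μ, hμ, hb⟩ := exists_eigenbasis (ρ t) (N := 2) two_pos
    (by rw [← map_pow, sq, ht, map_one])
  have htr : (χ : H → ℂ) t = ∑ i, μ i := by
    rw [← hρχ]
    exact trace_eq_sum_of_eigenbasis (ρ t) b μ hb
  have hdet : LinearMap.det (ρ t) = ∏ i, μ i := by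
    rw [← LinearMap.det_toMatrix b, show LinearMap.toMatrix b b (ρ t) = Matrix.diagonal μ from
      Matrix.ext fun i j => by
        rw [LinearMap.toMatrix_apply, hb, map_smul, Module.Basis.repr_self]
        by_cases h : i = j
        · subst h; simp
        · simp [Matrix.diagonal_apply_ne _ h, Ne.symm h], Matrix.det_diagonal]
  have hdet1 : LinearMap.det (ρ t) = 1 := by
    have h3 := CharsMore.coe_detHom ρ t
    rw [hlin, Units.val_one] at h3
    exact h3.symm
  have hpm : ∀ i, μ i = 1 ∨ μ i = -1 := fun i => sq_eq_one_iff.mp (hμ i)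
  set T := Finset.univ.filter (fun i => μ i = -1) with hT
  have hout : ∀ i, i ∉ T → μ i = 1 := fun i hi => (hpm i).resolve_right (by simpa [hT] using hi)
  have hprod : ∏ i, μ i = (-1 : ℂ) ^ T.card := by
    rw [← Finset.prod_subset (Finset.subset_univ T) (fun i _ hi => hout i hi),
      Finset.prod_congr rfl (fun i hi => (Finset.mem_filter.mp hi).2), Finset.prod_const]
  rw [hdet, hprod] at hdet1
  obtain ⟨k, hk⟩ : Even T.card := by
    by_contra h
    rw [(Nat.not_even_iff_odd.mp h).neg_one_pow] at hdet1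
    norm_num at hdet1
  have hsum : ∑ i, μ i = (d : ℂ) - 2 * (T.card : ℂ) := by
    have h1 : ∀ i, μ i = 1 - 2 * (if i ∈ T then 1 else 0) := by
      intro i
      by_cases hi : i ∈ T
      · rw [if_pos hi, (Finset.mem_filter.mp hi).2]; norm_num
      · rw [if_neg hi, hout i hi]; norm_num
    rw [Finset.sum_congr rfl (fun i _ => h1 i), Finset.sum_sub_distrib, ← Finset.mul_sum,
      Finset.sum_boole, Finset.sum_const, Finset.card_univ, Fintype.card_fin]
    simp
  rw [htr, hsum, hk] at hm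
  have hm' : m = (d : ℤ) - 4 * k := by
    apply Int.cast_injective (α := ℂ)
    push_cast at hm ⊢
    linear_combination hm
  exact ⟨k, by rw [hd, hm']; ring⟩

/-- Products of two conjugates of `z`. -/
noncomputable def ways (S : SDCent H V) (n : H) : ℕ :=
  Nat.card {ab : H × H // (ab.1 * S.z * ab.1⁻¹) * (ab.2 * S.z * ab.2⁻¹) = n}

theorem ways_eq (S : SDCent H V) (n : H) : ways S n =
    Nat.card (centralizer ({S.z} : Set H)) * Nat.card (centralizer ({S.z} : Set H)) *
      Nat.card {u : H // orderOf u = 2 ∧ orderOf (u * n) = 2} := by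
  classical
  set c := Nat.card (centralizer ({S.z} : Set H)) with hc
  have hordc : ∀ a : H, orderOf (a * S.z * a⁻¹) = 2 := fun a => by
    rw [show a * S.z * a⁻¹ = MulAut.conj a S.z from rfl, MulEquiv.orderOf_eq, S.ord]
  have hfib : ∀ w : H, Nat.card {a : H // a * S.z * a⁻¹ = w} = if orderOf w = 2 then c else 0 := by
    intro w
    split_ifs with hw
    · obtain ⟨d, rfl⟩ := isConj_iff.1 (S.conj w hw)
      refine Nat.card_congr (Equiv.subtypeEquiv (Equiv.mulLeft d⁻¹) fun a => ?_)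
      rw [Equiv.coe_mulLeft, mem_centralizer_singleton_iff]
      constructor
      · intro h
        calc d⁻¹ * a * S.z = d⁻¹ * (a * S.z * a⁻¹) * a := by group
          _ = d⁻¹ * (d * S.z * d⁻¹) * a := by rw [h]
          _ = S.z * (d⁻¹ * a) := by group
      · intro h
        calc a * S.z * a⁻¹ = d * (d⁻¹ * a * S.z) * a⁻¹ := by group
          _ = d * (S.z * (d⁻¹ * a)) * a⁻¹ := by rw [h]
          _ = d * S.z * d⁻¹ := by group
    · haveI : IsEmpty {a : H // a * S.z * a⁻¹ = w} := ⟨fun ⟨a, ha⟩ => hw (by rw [← ha, hordc])⟩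
      exact Nat.card_of_isEmpty
  have hinv : ∀ a : H, (a * S.z * a⁻¹)⁻¹ = a * S.z * a⁻¹ := fun a =>
    inv_eq_of_mul_eq_one_right (by
      rw [← sq, conj_pow, sq, z_sq, mul_one, mul_inv_cancel])
  calc ways S n
      = Nat.card (Σ a : H, {b : H // b * S.z * b⁻¹ = a * S.z * a⁻¹ * n}) := by
        refine Nat.card_congr ((Equiv.subtypeEquivRight fun ab => ?_).trans
          (Equiv.subtypeProdEquivSigmaSubtype fun a b => b * S.z * b⁻¹ = a * S.z * a⁻¹ * n))
        rw [← eq_inv_mul_iff_mul_eq, hinv]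
    _ = ∑ a : H, if orderOf (a * S.z * a⁻¹ * n) = 2 then c else 0 := by
        rw [Nat.card_sigma]
        exact Finset.sum_congr rfl fun a _ => hfib _
    _ = c * Nat.card {a : H // orderOf (a * S.z * a⁻¹ * n) = 2} := by
        rw [Finset.sum_ite, Finset.sum_const, Finset.sum_const_zero, add_zero, smul_eq_mul,
          mul_comm, Nat.card_eq_fintype_card, Fintype.card_subtype]
    _ = c * Nat.card (Σ u : {u : H // orderOf u = 2 ∧ orderOf (u * n) = 2},
          {a : H // a * S.z * a⁻¹ = u.1}) := by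
        congr 1
        refine Nat.card_congr
          { toFun := fun a => ⟨⟨a.1 * S.z * a.1⁻¹, hordc a.1, a.2⟩, ⟨a.1, rfl⟩⟩
            invFun := fun p => ⟨p.2.1, by rw [p.2.2]; exact p.1.2.2⟩
            left_inv := fun a => rfl
            right_inv := fun p => Sigma.subtype_ext (Subtype.ext p.2.2) rfl }
    _ = c * c * Nat.card {u : H // orderOf u = 2 ∧ orderOf (u * n) = 2} := by
        rw [Nat.card_sigma, Finset.sum_congr rfl (g := fun _ => c)
          (fun u _ => by rw [hfib, if_pos u.2.1]), Finset.sum_const, smul_eq_mul, Finset.card_univ,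
          ← Nat.card_eq_fintype_card]
        ring

/-- What a virtual character of norm three vanishing at `1` gives at `z`. -/
structure Pair (S : SDCent H V) (M : Ideal AlgInt) [M.IsPrime] (Φ : H → ℂ) (L : ℂ) where
  χ₁ : IrrCharacter H
  χ₂ : IrrCharacter H
  m₁ : ℤ
  m₂ : ℤ
  d : ℕ
  d_pos : 0 < d
  deg₁ : charDegree (χ₁ : H → ℂ) = d + 1
  deg₂ : charDegree (χ₂ : H → ℂ) = d
  eq : Φ = (fun _ => (1 : ℂ)) - (χ₁ : H → ℂ) + (χ₂ : H → ℂ)
  val₁ : (χ₁ : H → ℂ) S.z = m₁
  val₂ : (χ₂ : H → ℂ) S.z = m₂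
  mod₁ : (4 : ℤ) ∣ (d : ℤ) + 1 - m₁
  mod₂ : (4 : ℤ) ∣ (d : ℤ) - m₂
  formula : (Nat.card H : ℂ) * ((d : ℂ) * (d + 1) + (m₂ : ℂ) ^ 2 * (d + 1) - (m₁ : ℂ) ^ 2 * d) =
    L * (d * (d + 1))
  e₁ : ℤ
  e₂ : ℤ
  e₁_le : e₁ = 0 ∨ e₁ = 1
  e₂_le : e₂ = 0 ∨ e₂ = 1
  avg : (o S : ℂ)⁻¹ * ∑ᶠ a : S.π.ker, Φ (S.z * ((a : centralizer ({S.z} : Set H)) : H)) =
      1 - (e₁ : ℂ) * m₁ + (e₂ : ℂ) * m₂
  norm : 1 + e₁ * m₁ ^ 2 + e₂ * m₂ ^ 2 ≤ 48

theorem exists_pair (hS : Setup H V) (S : SDCent H V) [Fact (Nat.Prime 2)] {M : Ideal AlgInt}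
    [M.IsPrime] (hM : IsPModular 2 M) {Φ : H → ℂ} (hgen : IsGeneralizedCharacter H Φ)
    (h3 : classInner Φ Φ = 3) (h1 : Φ 1 = 0) (hone : classInner Φ (fun _ => 1) = 1) {L : ℂ}
    (hL : classInner Φ (fun n => (ways S n : ℂ)) = L) : Nonempty (Pair S M Φ L) := by
  classical
  haveI := irrFintype H
  obtain ⟨χ₁, χ₂, hne₁, hne₂, hdeg, heq⟩ :=
    CfsgLib.CharsMore.exists_pair_of_norm_three hgen h3 h1 hone
  choose m hm using fun χ : IrrCharacter H => exists_int_apply_involution (z_sq S) χ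
  set d := charDegree (χ₂ : H → ℂ) with hddef
  have hd₁ : charDegree (χ₁ : H → ℂ) = d + 1 := by
    rw [deg_eq, deg_eq, ← hddef] at hdeg
    exact_mod_cast hdeg
  have hd0 : 0 < d := CfsgLib.Blocks.charDegree_pos χ₂
  set e := principal H with he
  have hpe : ((e : IrrCharacter H) : H → ℂ) = fun _ => (1 : ℂ) := funext fun g => principal_apply g
  have hme : m e = 1 := by
    have := hm e
    rw [show ((e : IrrCharacter H) : H → ℂ) S.z = ((1 : ℤ) : ℂ) by rw [hpe]; simp] at this
    exact Int.cast_injective this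
  have he₁ : e ≠ χ₁ := fun h => hne₁ (h ▸ hpe)
  have he₂ : e ≠ χ₂ := fun h => hne₂ (h ▸ hpe)
  have h12 : χ₁ ≠ χ₂ := fun h => by rw [h, ← hddef] at hd₁; omega
  have heB : e ∈ principalBlock M H := principal_mem_principalBlock M
  have hcoef : ∀ χ : IrrCharacter H, classInner Φ (χ : H → ℂ) =
      (if χ = e then 1 else 0) - (if χ = χ₁ then 1 else 0) + (if χ = χ₂ then 1 else 0) := by
    intro χ
    rw [heq, ← hpe, Chars.inner_add_left, Chars.inner_sub_left, inner_irr, inner_irr, inner_irr]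
    simp only [eq_comm (a := χ)]
  refine ⟨⟨χ₁, χ₂, m χ₁, m χ₂, d, hd0, hd₁, rfl, heq, (hm χ₁).symm, (hm χ₂).symm, ?_, ?_, ?_,
    if χ₁ ∈ principalBlock M H then 1 else 0, if χ₂ ∈ principalBlock M H then 1 else 0,
    by split_ifs <;> simp, by split_ifs <;> simp, ?_, ?_⟩⟩
  · have := four_dvd χ₁ (hom_trivial hS S) (z_sq S) (hm χ₁)
    rw [hd₁] at this
    exact_mod_cast this
  · exact four_dvd χ₂ (hom_trivial hS S) (z_sq S) (hm χ₂)
  · let c : IrrCharacter H → ℂ := fun χ => (m χ : ℂ) ^ 2 / (charDegree (χ : H → ℂ) : ℂ)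
    have hW : (fun n => (ways S n : ℂ)) =
        (Nat.card H : ℂ) • ∑ χ : IrrCharacter H, c χ • (χ : H → ℂ) := by
      funext n
      have h := congrArg conj (card_conj_mul_conj S.z S.z n)
      rw [map_natCast, map_mul, map_natCast, map_sum] at h
      show (Nat.card _ : ℂ) = _
      rw [h, Pi.smul_apply, smul_eq_mul, Finset.sum_apply]
      congr 1
      refine Finset.sum_congr rfl fun χ _ => ?_
      rw [Pi.smul_apply, smul_eq_mul, irr_inv]
      simp only [← hm, map_div₀, map_mul, map_intCast, Complex.conj_conj, deg_eq, map_natCast, c]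
      ring
    have hψ : ∀ ψ : IrrCharacter H,
        classInner (ψ : H → ℂ) (fun n => (ways S n : ℂ)) = (Nat.card H : ℂ) * c ψ := by
      intro ψ
      rw [← inner_conj, hW, Chars.inner_smul_left, Chars.inner_sum_left,
        Finset.sum_eq_single ψ (fun χ _ hne => by rw [Chars.inner_smul_left, inner_irr_ne hne, mul_zero])
          (fun h => absurd (Finset.mem_univ ψ) h), Chars.inner_smul_left, inner_irr_self]
      simp [c]
    have hR := hL
    rw [heq, ← hpe, Chars.inner_add_left, Chars.inner_sub_left, hψ, hψ, hψ] at hR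
    simp only [c, hme, hd₁, ← hddef] at hR
    rw [show charDegree (e : H → ℂ) = 1 from (deg_eq_one_iff e).mp (by rw [hpe])] at hR
    have hd' : (d : ℂ) ≠ 0 := Nat.cast_ne_zero.2 (by omega)
    have hd1' : (d : ℂ) + 1 ≠ 0 := by exact_mod_cast Nat.succ_ne_zero d
    push_cast at hR
    rw [← hR]
    field_simp
    ring
  · have hb := blockPart_avg S hM (isGeneralized_iff_inner.1 hgen).1
    rw [blockPart_apply_eq_sum] at hb
    rw [← hb, Finset.sum_congr rfl (g := fun χ : IrrCharacter H =>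
      (if χ = e then (1 : ℂ) else 0) - (if χ = χ₁ then (m χ₁ : ℂ) else 0) +
        (if χ = χ₂ then (m χ₂ : ℂ) else 0)) (fun χ _ => by
      rw [hcoef, ← hm]
      rcases eq_or_ne χ e with rfl | h1
      · simp [he₁, he₂, hme]
      · rcases eq_or_ne χ χ₁ with rfl | h2
        · simp [h1, h12]
        · rcases eq_or_ne χ χ₂ with rfl | h3
          · simp [h1, h2]
          · simp [h1, h2, h3])]
    simp [Finset.sum_add_distrib, Finset.sum_sub_distrib, heB, ite_mul]
  · have hn := column_norm S hM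
    rw [finsum_mem_eq_sum_of_inter_support_eq
      (t := Finset.univ.filter (· ∈ principalBlock M H)) _ (by ext; simp)] at hn
    simp only [← hm, map_intCast] at hn
    have hs : ∑ χ ∈ Finset.univ.filter (· ∈ principalBlock M H), m χ * m χ = (48 : ℤ) := by
      exact_mod_cast hn
    have hle := Finset.sum_le_sum_of_subset_of_nonneg (s := ({e, χ₁, χ₂} : Finset (IrrCharacter H)))
      (Finset.subset_univ _) (f := fun χ => if χ ∈ principalBlock M H then m χ * m χ else 0)
      (fun i _ _ => by split_ifs <;> simp [mul_self_nonneg])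
    rw [← Finset.sum_filter (s := Finset.univ), hs,
      Finset.sum_insert (by simp [he₁, he₂]), Finset.sum_pair h12, if_pos heB, hme] at hle
    split_ifs at hle ⊢ <;> simp only [sq] <;> linarith

end CfsgLib.Subdeg3.Arith
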