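import Cfsg.Agent.Lib.Subdeg3.ArithBase

/-!
# The first exceptional character of an extension of an odd group by `GL(2, 3)`
-/

set_option autoImplicit false
set_option linter.style.haveILetI false
set_option linter.unusedSectionVars false

open Cfsg CfsgLib.Chars CfsgLib.Blocks CfsgLib.CharApps Subgroup
open scoped ComplexConjugate

namespace CfsgLib.Subdeg3.Arith

open CfsgLib.Small

universe u

variable {H : Type u} [Group H] [Fintype H] {V : Subgroup H}

/-- The test character on the centralizer of the involution. -/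
noncomputable def theta (S : SDCent H V) : centralizer ({S.z} : Set H) → ℂ :=
  fun n => (GL23.v (S.π n) : ℂ)

theorem isGeneralized_theta (S : SDCent H V) :
    IsGeneralizedCharacter (centralizer ({S.z} : Set H)) (theta S) := by
  obtain ⟨a, b, ha, hb, hab⟩ := GL23.isGeneralized_v
  refine ⟨_, _, isCharacter_comp S.π ha, isCharacter_comp S.π hb, ?_⟩
  funext n
  exact congrFun hab (S.π n)

theorem root (S : SDCent H V) (n : centralizer ({S.z} : Set H)) (hn : GL23.v (S.π n) ≠ 0) :
    ∃ k : ℕ, (n : H) ^ k = S.z := by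
  obtain ⟨k, -, hk⟩ := GL23.v_root _ (GL23.mem_els _) hn
  refine ⟨k * o S, ?_⟩
  have ha : (zC S)⁻¹ * n ^ k ∈ S.π.ker := by
    rw [MonoidHom.mem_ker, map_mul, map_inv, map_pow,
      show S.π n ^ k = S.π (zC S) from Units.ext (hk.trans (pi_zC S).symm), inv_mul_cancel]
  have hcm : Commute (zC S) ((zC S)⁻¹ * n ^ k) := zC_comm S _
  have e : n ^ (k * o S) = zC S := by
    rw [pow_mul, ← mul_inv_cancel_left (zC S) (n ^ k), hcm.mul_pow, pow_o_eq_one S ha,
      zC_pow_o, mul_one]
  exact congrArg Subtype.val e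

theorem indFun_theta_apply (S : SDCent H V) (n : centralizer ({S.z} : Set H))
    (hn : GL23.v (S.π n) ≠ 0) :
    indFun (centralizer ({S.z} : Set H)) (theta S) (n : H) = theta S n := by
  classical
  have key : ∀ x : H, extendByZero (centralizer ({S.z} : Set H)) (theta S) (x⁻¹ * n * x) =
      if x ∈ (centralizer ({S.z} : Set H)) then theta S n else 0 := by
    intro x
    split_ifs with hx
    · rw [extendByZero_of_mem _ _ (mul_mem (mul_mem (inv_mem hx) n.2) hx)]
      have := (isGeneralized_iff_inner.1 (isGeneralized_theta S)).1 n (⟨x, hx⟩⁻¹ : (centralizer ({S.z} : Set H)))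
      rw [inv_inv] at this
      exact this
    · by_cases hm : x⁻¹ * n * x ∈ (centralizer ({S.z} : Set H))
      · rw [extendByZero_of_mem _ _ hm]
        by_contra hne
        have hv : GL23.v (S.π ⟨_, hm⟩) ≠ 0 := fun h => hne (by simp [theta, h])
        obtain ⟨k, hk⟩ := root S n hn
        obtain ⟨k', hk'⟩ := root S _ hv
        have hk'' : x⁻¹ * (n : H) ^ k' * x = S.z := by
          refine Eq.trans ?_ hk'
          show x⁻¹ * (n : H) ^ k' * x = (x⁻¹ * (n : H) * x) ^ k'
          have := conj_pow (i := k') (a := x⁻¹) (b := (n : H))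
          rw [inv_inv] at this
          exact this.symm
        have ho : orderOf ((n : H) ^ k') = 2 := by
          rw [show (n : H) ^ k' = MulAut.conj x S.z from
            calc (n : H) ^ k' = x * (x⁻¹ * (n : H) ^ k' * x) * x⁻¹ := by group
              _ = x * S.z * x⁻¹ := congrArg (fun t => x * t * x⁻¹) hk'', MulEquiv.orderOf_eq, S.ord]
        rw [GL23.eq_pow_of_involution ho (by rw [hk, S.ord]), hk] at hk''
        exact hx (mem_centralizer_singleton_iff.2 (by
          calc x * S.z = x * (x⁻¹ * S.z * x) := by rw [hk'']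
            _ = S.z * x := by group))
      · rw [extendByZero_of_not_mem _ _ hm]
  rw [indFun_apply, Finset.sum_congr rfl fun x _ => key x, ← Finset.sum_filter,
    Finset.sum_const, nsmul_eq_mul, ← Fintype.card_subtype, ← Nat.card_eq_fintype_card,
    ← mul_assoc, inv_mul_cancel₀ (Chars.card_ne_zero _), one_mul]

theorem indFun_theta_odd (S : SDCent H V) {g : H} (hg : Odd (orderOf g)) :
    indFun (centralizer ({S.z} : Set H)) (theta S) g = 0 := by
  classical
  rw [indFun_apply, Finset.sum_eq_zero, mul_zero]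
  intro x _
  by_cases hm : x⁻¹ * g * x ∈ centralizer ({S.z} : Set H)
  · rw [extendByZero_of_mem _ _ hm]
    by_contra hne
    obtain ⟨k, hk⟩ := root S ⟨_, hm⟩ (fun h => hne (by simp [theta, h]))
    have hd : orderOf S.z ∣ orderOf g := by
      rw [← hk]
      refine (orderOf_pow_dvd _).trans ?_
      show orderOf (x⁻¹ * g * x) ∣ _
      rw [show x⁻¹ * g * x = MulAut.conj x⁻¹ g by rw [MulAut.conj_apply, inv_inv],
        MulEquiv.orderOf_eq]
    rw [S.ord] at hd
    exact (Nat.not_even_iff_odd.2 hg) (even_iff_two_dvd.2 hd)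
  · rw [extendByZero_of_not_mem _ _ hm]

set_option maxRecDepth 4000 in
/-- For a root of `z` every pair of involutions lies in the centralizer. -/
theorem card_pairs_root (S : SDCent H V) (n : centralizer ({S.z} : Set H))
    (hn : GL23.v (S.π n) ≠ 0) :
    (Nat.card {u : H // orderOf u = 2 ∧ orderOf (u * n) = 2} : ℂ) =
      (o S : ℂ) * (GL23.pairs (S.π n) : ℂ) := by
  classical
  haveI := Fintype.ofFinite (centralizer ({S.z} : Set H))
  obtain ⟨k, hk⟩ := root S n hn
  have hmem : ∀ u : H, orderOf u = 2 → orderOf (u * n) = 2 → u ∈ (centralizer ({S.z} : Set H)) := by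
    intro u hu huz
    have h1 : u⁻¹ = u := inv_eq_of_mul_eq_one_right (by rw [← sq, ← hu, pow_orderOf_eq_one])
    have h2 : (u * n) * (u * n) = 1 := by rw [← sq, ← huz, pow_orderOf_eq_one]
    have hzi : u * (n : H) * u⁻¹ = (n : H)⁻¹ := by
      rw [h1]
      exact eq_inv_of_mul_eq_one_left (by rw [← h2]; group)
    have htt : u * S.z * u⁻¹ = S.z := by
      rw [← hk, ← conj_pow, hzi, inv_pow, hk]
      exact inv_eq_of_mul_eq_one_right (z_sq S)
    exact mem_centralizer_singleton_iff.2 (mul_inv_eq_iff_eq_mul.1 htt)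
  -- a lift of a non-central involution is an involution
  have hlift : ∀ w : (centralizer ({S.z} : Set H)), (S.π w).val ≠ 1 → (S.π w * S.π w).val = 1 →
      GL23.det (S.π w) ≠ 1 → orderOf w = 2 := by
    intro w h1 h2 hd
    have hk2 : w * w ∈ S.π.ker := by rw [MonoidHom.mem_ker, map_mul]; exact Units.ext h2
    have e := S.outer w (w * w) hk2 hd
    rw [show w * (w * w) * w⁻¹ = w * w by group] at e
    have e2 : (w * w) ^ 2 = 1 := by rw [sq]; exact mul_eq_one_iff_eq_inv.2 e
    have hone : orderOf (w * w) = 1 :=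
      Nat.eq_one_of_dvd_coprimes (Nat.coprime_two_right.2 (odd_orderOf_ker S hk2)) dvd_rfl
        (orderOf_dvd_of_pow_eq_one e2)
    exact orderOf_eq_prime (by rw [sq]; exact orderOf_eq_one_iff.1 hone)
      (fun h => h1 (by rw [h, map_one]; rfl))
  have hpi : ∀ w : (centralizer ({S.z} : Set H)), orderOf w = 2 → (S.π w).val ≠ 1 ∧ (S.π w * S.π w).val = 1 := by
    intro w hw
    refine ⟨fun h => ?_, ?_⟩
    · have := odd_orderOf_ker S (show w ∈ S.π.ker from Units.ext h)
      rw [hw] at this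
      exact absurd this (by decide)
    · have e : w * w = 1 := by rw [← sq, ← hw, pow_orderOf_eq_one]
      rw [← map_mul, e, map_one]
      rfl
  let P : GL23.H → Prop := fun g => g.val ≠ 1 ∧ (g * g).val = 1 ∧ (g * S.π n).val ≠ 1 ∧
    (g * S.π n * (g * S.π n)).val = 1
  have e1 : Nat.card {u : H // orderOf u = 2 ∧ orderOf (u * n) = 2} =
      Nat.card {w : (centralizer ({S.z} : Set H)) // P (S.π w)} := by
    refine Nat.card_congr
      { toFun := fun u => ⟨⟨u.1, hmem u.1 u.2.1 u.2.2⟩, ?_⟩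
        invFun := fun w => ⟨(w.1 : H), ?_⟩
        left_inv := fun u => rfl
        right_inv := fun w => rfl }
    · have a1 := hpi ⟨u.1, hmem u.1 u.2.1 u.2.2⟩ (by rw [← Subgroup.orderOf_coe]; exact u.2.1)
      have a2 := hpi (⟨u.1, hmem u.1 u.2.1 u.2.2⟩ * n)
        (by rw [← Subgroup.orderOf_coe]; exact u.2.2)
      rw [map_mul] at a2
      exact ⟨a1.1, a1.2, a2.1, a2.2⟩
    · obtain ⟨h1, h2, h3, h4⟩ := w.2
      obtain ⟨g1, g2⟩ :=
        det_of_pairs _ (GL23.mem_els _) hn _ (GL23.mem_els _) h1 h2 h3 h4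
      refine ⟨?_, ?_⟩
      · rw [Subgroup.orderOf_coe]
        exact hlift w.1 h1 h2 (det_of_involution _ (GL23.mem_els _) h1 h2 g1)
      · show orderOf (((w.1 * n : (centralizer ({S.z} : Set H))) : H)) = 2
        rw [Subgroup.orderOf_coe]
        exact hlift _ (by rw [map_mul]; exact h3) (by rw [map_mul]; exact h4)
          (by rw [map_mul]; exact det_of_involution _ (GL23.mem_els _) h3 h4 g2)
  have e2 : (Nat.card {w : (centralizer ({S.z} : Set H)) // P (S.π w)} : ℂ) =
      ∑ c : (centralizer ({S.z} : Set H)), (((if P (S.π c) then 1 else 0 : ℤ)) : ℂ) := by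
    rw [Nat.card_eq_fintype_card, Fintype.card_subtype]
    push_cast
    rw [Finset.sum_boole]
  rw [e1, e2, sum_pi S (fun g => if P g then 1 else 0)]
  congr 1
  rw [← GL23.sum_els, Finset.sum_boole, GL23.pairs, List.countP_eq_length_filter,
    ← List.toFinset_card_of_nodup (GL23.nodup_els.filter _)]
  push_cast
  refine congrArg Nat.cast (congrArg Finset.card ?_)
  ext g
  rw [Finset.mem_filter, List.mem_toFinset, List.mem_filter, decide_eq_true_eq]
  exact ⟨fun h => ⟨GL23.mem_els g, h.2⟩, fun h => ⟨Finset.mem_univ _, h.2⟩⟩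

/-- What the first character gives. -/
theorem theta_facts (hS : Setup H V) (S : SDCent H V) :
    ∃ (χ₁ χ₂ : IrrCharacter H) (X : ℕ) (x : ℤ), 1 ≤ x ∧ x ≤ 6 ∧ (4 : ℤ) ∣ (X : ℤ) - x ∧ 0 < X ∧
      charDegree (χ₁ : H → ℂ) = X + 1 ∧ charDegree (χ₂ : H → ℂ) = X ∧
      (∀ g : H, Odd (orderOf g) → 1 - (χ₁ : H → ℂ) g + (χ₂ : H → ℂ) g = 0) ∧
      (Nat.card H : ℤ) * ((X : ℤ) ^ 2 + (14 * x - 48) * X + x ^ 2) =
        9216 * (o S : ℤ) ^ 3 * ((X : ℤ) * (X + 1)) := by
  classical
  haveI : Fact (Nat.Prime 2) := ⟨Nat.prime_two⟩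
  obtain ⟨M, hM⟩ := exists_pModular 2
  haveI := hM.2.1.isPrime
  haveI := Fintype.ofFinite (centralizer ({S.z} : Set H))
  set C := centralizer ({S.z} : Set H) with hC
  set Θ := indFun C (theta S) with hΘ
  have hgen : IsGeneralizedCharacter H Θ := isGeneralized_indFun C (isGeneralized_theta S)
  have ho : (o S : ℂ) ≠ 0 := Nat.cast_ne_zero.2 (card_C_pos S).ne'
  have hCc : (Nat.card C : ℂ) = (o S : ℂ) * 48 := by
    rw [hC, card_C, Nat.cast_mul, Nat.cast_ofNat]
  have h1 : Θ 1 = 0 := by
    rw [hΘ, indFun_one_apply]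
    simp [theta, map_one, GL23.v_one]
  have h3 : classInner Θ Θ = 3 := by
    rw [hΘ, inner_indFun C (theta S) (isClassFunction_indFun C (theta S)), inner_def,
      Finset.sum_congr rfl (g := fun n : C => (((fun g => GL23.v g * GL23.v g) (S.π n) : ℤ) : ℂ))
      (fun n _ => ?_), sum_pi S (fun g => GL23.v g * GL23.v g), GL23.sum_v_sq, hCc]
    · push_cast
      field_simp
      norm_num
    · by_cases hn : GL23.v (S.π n) = 0
      · simp [theta, hn]
      · rw [indFun_theta_apply S n hn]
        simp [theta]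
  have hone : classInner Θ (fun _ => (1 : ℂ)) = 1 := by
    rw [hΘ, inner_indFun C (theta S) (isClassFunction_of_isCharacter isCharacter_one), inner_def,
      Finset.sum_congr rfl (g := fun n : C => ((GL23.v (S.π n) : ℤ) : ℂ)) (fun n _ => ?_),
      sum_pi S GL23.v, GL23.sum_v, hCc]
    · push_cast
      field_simp
    · simp [theta]
  let W : H → ℂ := fun n => (ways S n : ℂ)
  have hWcl : IsClassFunction H W := by
    intro g x
    show (Nat.card _ : ℂ) = (Nat.card _ : ℂ)
    refine congrArg Nat.cast (Nat.card_congr (Equiv.subtypeEquiv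
      ((Equiv.mulLeft x⁻¹).prodCongr (Equiv.mulLeft x⁻¹)) fun ab => ?_))
    simp only [Equiv.prodCongr_apply, Prod.map_fst, Prod.map_snd, Equiv.coe_mulLeft]
    rw [show x⁻¹ * ab.1 * S.z * (x⁻¹ * ab.1)⁻¹ * (x⁻¹ * ab.2 * S.z * (x⁻¹ * ab.2)⁻¹) =
      x⁻¹ * (ab.1 * S.z * ab.1⁻¹ * (ab.2 * S.z * ab.2⁻¹)) * x by group]
    constructor
    · intro h; rw [h]; group
    · intro h; rw [← h]; group
  have hL : classInner Θ W = 9216 * (o S : ℂ) ^ 3 := by
    rw [hΘ, inner_indFun C (theta S) hWcl, inner_def,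
      Finset.sum_congr rfl (g := fun n : C => (Nat.card C : ℂ) * (Nat.card C : ℂ) * (o S : ℂ) *
        (((fun g => GL23.v g * GL23.pairs g) (S.π n) : ℤ) : ℂ)) (fun n _ => ?_),
      ← Finset.mul_sum, sum_pi S (fun g => GL23.v g * GL23.pairs g), GL23.sum_v_pairs, hCc]
    · push_cast
      field_simp
      norm_num
    · by_cases hn : GL23.v (S.π n) = 0
      · simp [theta, hn]
      · show theta S n * conj (ways S (n : H) : ℂ) = _
        rw [map_natCast, ways_eq, Nat.cast_mul, Nat.cast_mul, card_pairs_root S n hn]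
        simp only [theta]
        push_cast
        ring
  obtain ⟨P⟩ := exists_pair hS S hM hgen h3 h1 hone hL
  have hza : ∀ a : S.π.ker, Θ (S.z * ((a : C) : H)) = 8 := by
    intro a
    have hv : GL23.v (S.π (zC S * a.1)) = 8 := by
      rw [map_mul, MonoidHom.mem_ker.1 a.2, mul_one]
      exact v_neg_one _ (GL23.mem_els _) (pi_zC S)
    have := indFun_theta_apply S (zC S * a.1) (by rw [hv]; norm_num)
    rw [hΘ]
    refine this.trans ?_
    show ((GL23.v (S.π (zC S * a.1)) : ℤ) : ℂ) = 8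
    rw [hv]
    norm_num
  have havg : (8 : ℤ) = 1 - P.e₁ * P.m₁ + P.e₂ * P.m₂ := by
    have h := P.avg
    haveI := Fintype.ofFinite S.π.ker
    rw [finsum_eq_sum_of_fintype, Finset.sum_congr rfl (fun a _ => hza a), Finset.sum_const,
      Finset.card_univ, ← Nat.card_eq_fintype_card, nsmul_eq_mul, ← mul_assoc,
      inv_mul_cancel₀ ho, one_mul] at h
    exact_mod_cast h
  have hn := P.norm
  have hmod₁ := P.mod₁
  have hmod₂ := P.mod₂
  have hm : P.m₂ - P.m₁ = 7 ∧ 1 ≤ P.m₂ ∧ P.m₂ ≤ 6 := by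
    rcases P.e₁_le with h₁ | h₁ <;> rcases P.e₂_le with h₂ | h₂ <;> rw [h₁, h₂] at havg hn
    · omega
    · rw [show P.m₂ = 7 by omega] at hn; norm_num at hn
    · rw [show P.m₁ = -7 by omega] at hn; norm_num at hn
    · refine ⟨by omega, ?_, ?_⟩
      · by_contra hc
        nlinarith
      · by_contra hc
        nlinarith
  refine ⟨P.χ₁, P.χ₂, P.d, P.m₂, hm.2.1, hm.2.2, hmod₂, P.d_pos, P.deg₁, P.deg₂, fun g hg => ?_,
    ?_⟩
  · have h := congrFun P.eq g
    simp only [Pi.add_apply, Pi.sub_apply] at h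
    rw [← h]
    exact indFun_theta_odd S hg
  · apply Int.cast_injective (α := ℂ)
    have hf := P.formula
    rw [show P.m₁ = P.m₂ - 7 by omega] at hf
    push_cast at hf ⊢
    linear_combination hf

end CfsgLib.Subdeg3.Arith
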