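import Mathlib
import Cfsg.Prelude.Def_CaseTheorems
import Cfsg.Prelude.Def_Spor_Mathieu
import Cfsg.Agent.Lib.Small.GLTwoThree

/-!
# Primitive groups with a subdegree three: interface of the proof of S3686

The pieces are proved in separate files.  `Setup` is what the point stabiliser `Sym 4` leaves:
a group with a self-centralising four-group whose normalizer is `Sym 4`.
-/

set_option autoImplicit false

namespace CfsgLib.Subdeg3

open Subgroup

universe u

/-- A finite group with a self-centralising four-group `V` with normalizer of order `24`. -/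
structure Setup (H : Type u) [Group H] (V : Subgroup H) : Prop where
  four : IsKleinFour V
  cent : centralizer (V : Set H) = V
  norm : Nat.card (normalizer (V : Set H)) = 24
  big : 16 ∣ Nat.card H
  rad : ∀ N : Subgroup H, N.Normal → Group.IsSolvable N → N = ⊥
  noW : ∀ W : Subgroup H, Odd (Nat.card W) →
    (∀ φ : MulAut H, V.map φ.toMonoidHom = V → W.map φ.toMonoidHom = W) → W = ⊥
  noIdx : ∀ K : Subgroup H, K.index ≠ 2

/-- The centraliser of an involution in the semidihedral case: an extension of an odd group by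
`GL(2,3)` in which the elements of determinant `1` centralise the odd group and the others invert it. -/
structure SDCent (H : Type u) [Group H] (V : Subgroup H) : Type u where
  z : H
  ord : orderOf z = 2
  mem : z ∈ V
  conj : ∀ w : H, orderOf w = 2 → IsConj z w
  sylow : ¬ 32 ∣ Nat.card H
  π : centralizer ({z} : Set H) →* Small.GL23.H
  surj : Function.Surjective π
  kerOdd : Odd (Nat.card π.ker)
  inner : ∀ (c o : centralizer ({z} : Set H)), o ∈ π.ker → Small.GL23.det (π c) = 1 → c * o * c⁻¹ = o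
  outer : ∀ (c o : centralizer ({z} : Set H)), o ∈ π.ker → Small.GL23.det (π c) ≠ 1 → c * o * c⁻¹ = o⁻¹

/-- The odd kernel, as a subgroup of the group. -/
def SDCent.O {H : Type u} [Group H] {V : Subgroup H} (S : SDCent H V) : Subgroup H :=
  S.π.ker.map (centralizer ({S.z} : Set H)).subtype

/-- What the local analysis gives for the exceptional character: the subgroup `C(O)` has index two in
`N(O)`, has a subgroup `L` through which the test character is defined, and its part outside `L`
is a trivial intersection set. -/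
def TIData {H : Type u} [Group H] {V : Subgroup H} (S : SDCent H V) : Prop :=
  ∃ L : Subgroup H, L ≤ centralizer (S.O : Set H) ∧ normalizer (S.O : Set H) ≤ normalizer (L : Set H) ∧
    S.z ∈ L ∧
    (∀ n ∈ normalizer (S.O : Set H), n ∉ centralizer (S.O : Set H) →
      ∀ c ∈ centralizer (S.O : Set H), n * c * n⁻¹ * c ∈ L) ∧
    ¬ S.O ≤ L ∧
    (centralizer (S.O : Set H)).relIndex (normalizer (S.O : Set H)) = 2 ∧
    (∀ n ∈ normalizer (S.O : Set H), n ∉ centralizer (S.O : Set H) → ∀ a ∈ S.O, n * a * n⁻¹ = a⁻¹) ∧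
    (∀ y ∈ centralizer (S.O : Set H), y ∉ L → ∀ g : H, g * y * g⁻¹ ∈ centralizer (S.O : Set H) →
      g ∈ normalizer (S.O : Set H)) ∧
    Nat.card {w : normalizer (S.O : Set H) // orderOf w = 2 ∧ (w : H) ∉ centralizer (S.O : Set H)} ^ 2 =
      3 * Nat.card S.O * Nat.card (normalizer (S.O : Set H))

/-- Piece P1: shape of a Sylow 2-subgroup. -/
def StmtShape : Prop :=
  ∀ (H : Type u) [Group H] [Finite H] (V : Subgroup H), Setup H V → ∀ T : Sylow 2 H,
    V ≤ (T : Subgroup H) →
    (∃ n : ℕ, 8 ≤ n ∧ Nonempty ((T : Subgroup H) ≃* DihedralGroup n)) ∨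
      Cfsg.IsQuasiDihedral (T : Subgroup H)

/-- Piece P2: dihedral Sylow 2-subgroups give `PSL(2,q)`. -/
def StmtDihedral : Prop :=
  ∀ (H : Type u) [Group H] [Finite H] (V : Subgroup H), Setup H V → ∀ T : Sylow 2 H,
    V ≤ (T : Subgroup H) → ∀ n : ℕ, 8 ≤ n → Nonempty ((T : Subgroup H) ≃* DihedralGroup n) →
    ∃ (F : Type) (_ : Field F) (_ : Fintype F), Odd (Fintype.card F) ∧ 3 < Fintype.card F ∧
      Nonempty (H ≃* Matrix.ProjectiveSpecialLinearGroup (Fin 2) F)

/-- Piece P3: the involution centraliser in the semidihedral case. -/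
def StmtSDCent : Prop :=
  ∀ (H : Type u) [Group H] [Finite H] (V : Subgroup H), Setup H V → ∀ T : Sylow 2 H,
    V ≤ (T : Subgroup H) → Cfsg.IsQuasiDihedral (T : Subgroup H) → Nonempty (SDCent H V)

/-- Piece P4: local analysis of the core. -/
def StmtTI : Prop :=
  ∀ (H : Type u) [Group H] [Finite H] (V : Subgroup H), Setup H V → ∀ S : SDCent H V,
    S.O ≠ ⊥ → TIData S

/-- Piece P5: the characters kill the core. -/
def StmtArith : Prop :=
  ∀ (H : Type u) [Group H] [Finite H] (V : Subgroup H), Setup H V → ∀ S : SDCent H V,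
    TIData S → S.O = ⊥

/-- Piece P6: `PSL(3,3)` in the semidihedral case. -/
def StmtSD : Prop :=
  ∀ (H : Type u) [Group H] [Finite H] (V : Subgroup H), Setup H V → ∀ T : Sylow 2 H,
    V ≤ (T : Subgroup H) → Cfsg.IsQuasiDihedral (T : Subgroup H) →
    Nonempty (H ≃* Matrix.ProjectiveSpecialLinearGroup (Fin 3) (ZMod 3)) ∨ Cfsg.Spor.IsoM11 H

/-- Piece P7: the stabiliser `Sym 4 × 2` reduces to a normal subgroup of index two. -/
def StmtTimesTwo : Prop :=
  ∀ (G : Type u) [Group G] [Finite G], (∀ N : Subgroup G, N.Normal → Group.IsSolvable N → N = ⊥) →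
    ∀ (M M' : Subgroup G), IsCoatom M → M' ≠ M →
      Nonempty (M ≃* Equiv.Perm (Fin 4) × Multiplicative (ZMod 2)) →
      (∃ g : G, M.map (MulAut.conj g).toMonoidHom = M') → Nat.card (M ⊓ M' : Subgroup G) = 16 →
      ∃ (N : Subgroup G) (_ : N.Normal) (t : G) (V : Subgroup N), N.index = 2 ∧
        centralizer (N : Set G) = ⊥ ∧ orderOf t = 2 ∧ t ∉ N ∧
        Nat.card (N ⊓ centralizer ({t} : Set G) : Subgroup G) = 24 ∧
        Setup N V ∧ (∀ v ∈ V, t * (v : G) * t⁻¹ = v) ∧ ¬ 32 ∣ Nat.card N

/-- Piece P8: no `PSL(2,q)` has an outer involution with centraliser `Sym 4` unless its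
Sylow 2-subgroups are small. -/
def StmtNoTwist : Prop :=
  ∀ (G : Type u) [Group G] [Finite G] (N : Subgroup G) [N.Normal] (V : Subgroup N) (t : G),
    centralizer (N : Set G) = ⊥ → orderOf t = 2 → t ∉ N → Setup N V →
    Nat.card (N ⊓ centralizer ({t} : Set G) : Subgroup G) = 24 → ¬ 32 ∣ Nat.card N →
    (∀ v ∈ V, t * (v : G) * t⁻¹ = v) →
    ∀ (F : Type) [Field F] [Fintype F], Odd (Fintype.card F) → 3 < Fintype.card F →
      Nonempty (N ≃* Matrix.ProjectiveSpecialLinearGroup (Fin 2) F) → False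

/-- Piece P9: the field is prime when the normalizer of `V` is maximal. -/
def StmtPrime : Prop :=
  ∀ (G : Type u) [Group G] [Finite G] (V : Subgroup G), Setup G V →
    IsCoatom (normalizer (V : Set G)) →
    ((∀ (F : Type) [Field F] [Fintype F], Odd (Fintype.card F) → 3 < Fintype.card F →
        Nonempty (G ≃* Matrix.ProjectiveSpecialLinearGroup (Fin 2) F) →
        ∃ p : ℕ, p.Prime ∧ (p % 16 = 1 ∨ p % 16 = 15) ∧
          Nonempty (G ≃* Matrix.ProjectiveSpecialLinearGroup (Fin 2) (ZMod p))) ∧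
      ¬ Cfsg.Spor.IsoM11 G)

/-- Piece P10: the small stabilisers. -/
def StmtSmall : Prop :=
  ∀ (G : Type u) [Group G] [Finite G], ¬ Group.IsSolvable G →
    (∀ N : Subgroup G, N.Normal → Group.IsSolvable N → N = ⊥) → ∀ M : Subgroup G, IsCoatom M →
      ((Nonempty (M ≃* Multiplicative (ZMod 3)) → False) ∧
        (Nonempty (M ≃* Equiv.Perm (Fin 3)) → Nonempty (G ≃* alternatingGroup (Fin 5))) ∧
        (Nonempty (M ≃* DihedralGroup 6) →
          Nonempty (G ≃* Equiv.Perm (Fin 5)) ∨
          Nonempty (G ≃* GL (Fin 2) (ZMod 7) ⧸ Subgroup.center (GL (Fin 2) (ZMod 7))) ∨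
          Nonempty (G ≃* Matrix.ProjectiveSpecialLinearGroup (Fin 2) (ZMod 11)) ∨
          Nonempty (G ≃* Matrix.ProjectiveSpecialLinearGroup (Fin 2) (ZMod 13))))

end CfsgLib.Subdeg3
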