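import Cfsg.Agent.Lib.Subdeg3.DihedralCore

/-!
# S3686: dihedral Sylow 2-subgroups give `PSL(2,q)`

If `E = 1` the centraliser of `z` is a D-group and the classification of such groups applies.  If
`E ≠ 1` the elements of the conjugates of `E` centralising the other two conjugates generate a
nontrivial abelian group of odd order invariant under the automorphisms fixing `V`.
-/

set_option autoImplicit false
set_option linter.style.haveILetI false
set_option linter.unusedSectionVars false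

namespace CfsgLib.Subdeg3

open Subgroup CfsgLib.Involutions

universe u

variable {G : Type u} [Group G] [Finite G]

/-- `a` is an element of odd order of `C(v)` inverted by a rotation with `m`-th power `v`. -/
def InvAt (m : ℕ) (v a : G) : Prop :=
  Odd (orderOf a) ∧ Commute v a ∧ ∃ r : G, r ^ m = v ∧ r * a * r⁻¹ = a⁻¹

theorem InvAt.map {m : ℕ} {v a : G} (h : InvAt m v a) (φ : G ≃* G) : InvAt m (φ v) (φ a) := by
  obtain ⟨h1, h2, r, h3, h4⟩ := h
  exact ⟨by rwa [φ.orderOf_eq], h2.map φ.toMonoidHom, φ r, by rw [← map_pow, h3],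
    by rw [← map_inv, ← map_mul, ← map_mul, h4, map_inv]⟩

theorem odd_card_closure {S : Set G} (hc : ∀ a ∈ S, ∀ b ∈ S, Commute a b)
    (ho : ∀ a ∈ S, Odd (orderOf a)) : Odd (Nat.card (closure S)) := by
  haveI hC := Subgroup.isMulCommutative_closure (k := S) fun a ha b hb => (hc a ha b hb).eq
  have key : ∀ a ∈ closure S, Odd (orderOf a) := by
    intro a ha
    induction ha using closure_induction with
    | mem x hx => exact ho x hx
    | one => rw [orderOf_one]; exact odd_one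
    | mul x y hx hy h1 h2 =>
      have hxy : Commute x y :=
        congrArg Subtype.val (hC.is_comm.comm (⟨x, hx⟩ : closure S) ⟨y, hy⟩)
      exact (h1.mul h2).of_dvd_nat hxy.orderOf_mul_dvd_mul_orderOf
    | inv x _ h1 => rwa [orderOf_inv]
  rw [← Nat.not_even_iff_odd]
  intro he
  haveI : Fact (Nat.Prime 2) := ⟨Nat.prime_two⟩
  obtain ⟨⟨a, ha⟩, h2⟩ := exists_prime_orderOf_dvd_card' (G := closure S) 2 he.two_dvd
  rw [Subgroup.orderOf_mk] at h2
  exact (Nat.not_even_iff_odd.2 (key a ha)) (h2 ▸ even_two)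

namespace Cfg

variable {V : Subgroup G} (C : Cfg G V)

theorem invAt_iff {a : G} : InvAt (2 ^ (C.d.n - 1)) C.d.z a ↔ a ∈ C.E := by
  have hz : C.d.x ^ (2 ^ (C.d.n - 1) : ℕ) = C.d.z := by
    rw [DP.z, DP.half, ← zpow_natCast]
    congr 1
  refine ⟨fun ⟨ho, hc, r, hr, hinv⟩ => ?_, fun ha =>
    ⟨(C.mem_O.1 (C.E_le ha)).2, (C.mem_O.1 (C.E_le ha)).1, C.d.x, hz, C.E_inverted ha⟩⟩
  have haO : a ∈ C.O := C.mem_O.2 ⟨hc, ho⟩
  have hrz : Commute C.d.z r := by rw [← hr]; exact (Commute.refl r).pow_left _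
  obtain ⟨o, hoO, t, ht, rfl⟩ := C.exists_mul hrz
  have hta := C.P_conj_O ht haO
  have hinv' : t * a * t⁻¹ = a⁻¹ := by
    rw [← hinv, show o * t * a * (o * t)⁻¹ = o * (t * a * t⁻¹) * o⁻¹ by group,
      (C.O_comm hoO hta).eq, mul_inv_cancel_right]
  rcases C.d.cover t ht with ⟨i, rfl⟩ | ⟨i, rfl⟩
  · rcases Int.even_or_odd i with hi | hi
    · rw [(C.zpow_even_cent hi haO).eq, mul_inv_cancel_right] at hinv'
      rw [eq_one_of_odd_sq ho (mul_eq_one_iff_eq_inv.2 hinv')]
      exact one_mem _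
    · refine C.mem_E_of_inverted haO ?_
      have hxa := C.P_conj_O C.d.x_mem haO
      rwa [show i = (i - 1) + 1 by ring, zpow_add_one,
        show C.d.x ^ (i - 1) * C.d.x * a * (C.d.x ^ (i - 1) * C.d.x)⁻¹ =
          C.d.x ^ (i - 1) * (C.d.x * a * C.d.x⁻¹) * (C.d.x ^ (i - 1))⁻¹ by group,
        (C.zpow_even_cent (hi.sub_odd odd_one) hxa).eq, mul_inv_cancel_right] at hinv'
  · exfalso
    have hconj := C.P_conj_O (C.d.r_mem i) hoO
    have hsq : (o * (C.d.x ^ i * C.d.y)) ^ 2 ∈ C.O := by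
      rw [sq, show C.d.x ^ i * C.d.y = C.d.r i from rfl,
        show o * C.d.r i * (o * C.d.r i) =
          o * (C.d.r i * o * (C.d.r i)⁻¹) * (C.d.r i * C.d.r i) by group,
        invol_mul_self (C.d.orderOf_r i), mul_one]
      exact mul_mem hoO hconj
    obtain ⟨j, hj⟩ : ∃ j, 2 ^ (C.d.n - 1) = 2 * j :=
      ⟨2 ^ (C.d.n - 2), by rw [← pow_succ']; congr 1; have := C.three; omega⟩
    have hzO : C.d.z ∈ C.O := by rw [← hr, hj, pow_mul]; exact pow_mem hsq j
    exact invol_ne_one C.d.orderOf_z (C.disjoint hzO C.d.z_mem)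

theorem invAt_comm {v a b : G} (hv : orderOf v = 2) (ha : InvAt (2 ^ (C.d.n - 1)) v a)
    (hb : InvAt (2 ^ (C.d.n - 1)) v b) : Commute a b := by
  obtain ⟨c, hc⟩ := isConj_iff.1 (C.isConj_z hv)
  have hz : (MulAut.conj c⁻¹) v = C.d.z := by
    rw [MulAut.conj_apply, inv_inv, ← hc]
    group
  have h1 := ha.map (MulAut.conj c⁻¹)
  have h2 := hb.map (MulAut.conj c⁻¹)
  rw [hz, C.invAt_iff] at h1 h2
  have h3 := (C.O_comm (C.E_le h1) (C.E_le h2)).map (MulAut.conj c).toMonoidHom
  simpa [mul_assoc] using h3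

theorem orderOf_s : orderOf C.s = 4 := by
  have h3 := C.three
  have hs : C.s = C.d.x ^ (2 ^ (C.d.n - 2) : ℕ) := by
    rw [s, ← zpow_natCast]
    congr 1
  rw [hs, orderOf_pow, C.d.orderOf_x, Nat.gcd_eq_right (pow_dvd_pow 2 (by omega)),
    Nat.pow_div (by omega) two_pos, show C.d.n - (C.d.n - 2) = 2 by omega]
  rfl

include C in
theorem two_mem {v : G} (hv : v ∈ V) (hv1 : v ≠ 1) : orderOf v = 2 := by
  refine invol_iff.2 ⟨?_, hv1⟩
  exact klein_sq (C.d.isKleinFour_TG 0) (C.eqV.le hv)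

/-- The case `E = 1`. -/
theorem psl_of_bot (rad : ∀ N : Subgroup G, N.Normal → Group.IsSolvable N → N = ⊥)
    (hE : C.E = ⊥) :
    ∃ (F : Type) (_ : Field F) (_ : Fintype F), Odd (Fintype.card F) ∧ 3 < Fintype.card F ∧
      Nonempty (G ≃* Matrix.ProjectiveSpecialLinearGroup (Fin 2) F) := by
  have hns : ¬ Group.IsSolvable (⊤ : Subgroup G) := fun h => by
    have h1 := rad ⊤ inferInstance h
    exact invol_ne_one C.d.orderOf_z (mem_bot.1 (h1.le (mem_top C.d.z)))
  obtain ⟨g, hg1, -, -⟩ := C.exists_fuse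
  obtain ⟨M, hMn, hModd, -, F, iF, iFt, hq3, hiso⟩ := C.classify_quot ⊤ le_top
    (fun k _ e he => by
      rw [hE, mem_bot] at he ⊢
      rw [he]; group)
    (mem_top g) hg1 hns
  haveI := hMn
  have hMbot : M = ⊥ := by
    have hN : (M.map (topEquiv (G := G)).toMonoidHom).Normal :=
      hMn.map _ (topEquiv (G := G)).surjective
    have h := rad _ hN (CfsgLib.FT.isSolvable_of_odd (by
      rw [Nat.card_congr (M.equivMapOfInjective _
        (topEquiv (G := G)).injective).symm.toEquiv]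
      exact hModd))
    exact (map_eq_bot_iff_of_injective _ (topEquiv (G := G)).injective).1 h
  subst hMbot
  let e : G ≃* (⊤ : Subgroup G) ⧸ (⊥ : Subgroup (⊤ : Subgroup G)) :=
    (topEquiv (G := G)).symm.trans QuotientGroup.quotientBot.symm
  rcases hiso with ⟨⟨f⟩⟩ | ⟨⟨f⟩⟩
  · refine ⟨F, iF, iFt, ?_, hq3, ⟨e.trans f⟩⟩
    rw [← Nat.not_even_iff_odd, ← Nat.card_eq_fintype_card]
    intro heven
    refine not_orderOf_four_of_even heven
      (Matrix.ProjectiveSpecialLinearGroup.toPGL ((e.trans f) C.s)) ?_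
    rw [orderOf_injective _ Matrix.ProjectiveSpecialLinearGroup.toPGL_injective,
      MulEquiv.orderOf_eq, C.orderOf_s]
  · exfalso
    rcases Nat.even_or_odd (Nat.card F) with heven | hodd
    · exact not_orderOf_four_of_even heven ((e.trans f) C.s) (by
        rw [MulEquiv.orderOf_eq, C.orderOf_s])
    · apply C.noIdx ((PSL2.pslRange F).comap (e.trans f).toMonoidHom)
      rw [index_comap_of_surjective _ (e.trans f).surjective]
      haveI : Fact (Nat.Prime (ringChar F)) := ⟨CharP.char_is_prime F _⟩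
      rw [PSL2.index_pslRange, Classical.gcd_two_card_sub_one_of_odd hodd]

/-- The case `E ≠ 1`. -/
theorem false_of_ne_bot (noW : ∀ W : Subgroup G, Odd (Nat.card W) →
    (∀ φ : MulAut G, V.map φ.toMonoidHom = V → W.map φ.toMonoidHom = W) → W = ⊥)
    (hE : C.E ≠ ⊥) : False := by
  obtain ⟨h, hh, hs⟩ := C.exists_turn
  obtain ⟨a, ha1, haE, hac⟩ := C.exists_witness hE hh
  set m := 2 ^ (C.d.n - 1) with hm
  let S : Set G := {b | ∃ v ∈ V, v ≠ 1 ∧ InvAt m v b ∧
    ∀ w ∈ V, w ≠ 1 → w ≠ v → ∀ c, InvAt m w c → Commute b c}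
  have hcomm : ∀ p ∈ S, ∀ q ∈ S, Commute p q := by
    rintro p ⟨v, hv, hv1, hp, hp'⟩ q ⟨w, hw, hw1, hq, -⟩
    by_cases hwv : w = v
    · subst hwv; exact C.invAt_comm (C.two_mem hw hw1) hp hq
    · exact hp' w hw hw1 hwv q hq
  have hodd : ∀ p ∈ S, Odd (orderOf p) := by
    rintro p ⟨v, -, -, hp, -⟩
    exact hp.1
  have hinv : ∀ φ : MulAut G, V.map φ.toMonoidHom = V →
      (closure S).map φ.toMonoidHom = closure S := by
    intro φ hφ
    have hV : ∀ v, v ∈ V → φ v ∈ V := fun v hv => hφ.le ⟨v, hv, rfl⟩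
    have hV' : ∀ v, v ∈ V → φ.symm v ∈ V := fun v hv => by
      obtain ⟨w, hw, rfl⟩ := hφ.ge hv
      rwa [show φ.symm (φ.toMonoidHom w) = w from φ.symm_apply_apply w]
    refine eq_of_le_of_card_ge ?_ ?_
    · rw [MonoidHom.map_closure, closure_le]
      rintro _ ⟨b, ⟨v, hv, hv1, hb, hb'⟩, rfl⟩
      refine subset_closure ⟨φ v, hV v hv, fun e => hv1 (φ.injective (by rw [e, map_one])),
        hb.map φ, fun w hw hw1 hwv c hc => ?_⟩
      have h1 := hb' (φ.symm w) (hV' w hw)
        (fun e => hw1 (by rw [← φ.apply_symm_apply w, e, map_one]))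
        (fun e => hwv (by rw [← φ.apply_symm_apply w, e])) (φ.symm c) (hc.map φ.symm)
      have h2 := h1.map φ.toMonoidHom
      rwa [show φ.toMonoidHom (φ.symm c) = c from φ.apply_symm_apply c] at h2
    · exact (card_map_of_injective φ.injective).ge
  have hW := noW (closure S) (odd_card_closure hcomm hodd) hinv
  -- the witness lies in `S`
  refine ha1 (mem_bot.1 (hW.le (subset_closure ?_)))
  have hy1 : C.d.y ≠ 1 := invol_ne_one C.d.orderOf_y
  have hya : InvAt m C.d.y a := by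
    have h1 := (C.invAt_iff.2 haE).map (MulAut.conj h)
    rwa [MulAut.conj_apply, MulAut.conj_apply, hh,
      show h * (h⁻¹ * a * h) * h⁻¹ = a by group] at h1
  refine ⟨C.d.y, C.y_mem_V, hy1, hya, fun w hw hw1 hwy c hc => ?_⟩
  rcases C.mem_V.1 hw with rfl | rfl | rfl | rfl
  · exact absurd rfl hw1
  · exact hac c (C.invAt_iff.1 hc)
  · exact absurd rfl hwy
  · set t := h * C.s * h⁻¹ with ht
    have hta : t * a * t⁻¹ = a := by
      rw [ht, show h * C.s * h⁻¹ * a * (h * C.s * h⁻¹)⁻¹ =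
        h * (C.s * (h⁻¹ * a * h) * C.s⁻¹) * h⁻¹ by group,
        mul_inv_eq_iff_eq_mul.2 (C.s_cent (C.E_le haE)).eq]
      group
    have hc' := hc.map (MulAut.conj t⁻¹)
    rw [MulAut.conj_apply, MulAut.conj_apply, inv_inv,
      show t⁻¹ * (C.d.z * C.d.y) * t = C.d.z by rw [← hs]; group] at hc'
    have h1 := (hac _ (C.invAt_iff.1 hc')).map (MulAut.conj t).toMonoidHom
    simp only [MulEquiv.coe_toMonoidHom, MulAut.conj_apply] at h1
    rwa [hta, show t * (t⁻¹ * c * t) * t⁻¹ = c by group] at h1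

end Cfg

theorem dihedral : StmtDihedral.{u} := by
  intro H _ _ V hS T hVT n hn hiso
  obtain ⟨e⟩ := hiso
  obtain ⟨d₀⟩ := nonempty_dp T.isPGroup' (by omega : 2 ≤ n) e
  obtain ⟨i, hi⟩ := d₀.klein_eq hVT hS.four
  have hcard : Nat.card (T : Subgroup H) = 2 * n := by
    rw [Nat.card_congr e.toEquiv, DihedralGroup.nat_card]
  have h3 : 3 ≤ d₀.n := by
    rw [d₀.card_eq] at hcard
    by_contra h
    have : 2 ^ d₀.n ≤ 2 ^ 2 := Nat.pow_le_pow_right two_pos (by omega)
    omega
  let d : DP (T : Subgroup H) :=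
    { d₀ with
      y := d₀.r i
      y_mem := d₀.r_mem i
      orderOf_y := d₀.orderOf_r i
      conj_y := by
        have := d₀.r_mul_zpow i 1
        rw [zpow_one] at this
        rw [this, d₀.r_inv, d₀.r_mul_r]
        norm_num
      y_not := d₀.r_not_mem i
      cover := fun g hg => by
        rcases d₀.cover g hg with h | ⟨j, rfl⟩
        · exact Or.inl h
        · refine Or.inr ⟨j - i, ?_⟩
          rw [DP.r, ← mul_assoc, ← zpow_add, sub_add_cancel] }
  have hr : d.r 0 = d₀.r i := by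
    show d₀.x ^ (0 : ℤ) * d₀.r i = d₀.r i
    rw [zpow_zero, one_mul]
  let C : Cfg H V :=
    { P := T, d := d, three := h3
      eqV := by
        rw [hi]
        show Subgroup.closure _ = Subgroup.closure _
        rw [hr]
        rfl
      cent := hS.cent, noIdx := hS.noIdx, m := n, two_le := by omega, iso := ⟨e⟩ }
  by_cases hE : C.E = ⊥
  · exact C.psl_of_bot hS.rad hE
  · exact (C.false_of_ne_bot hS.noW hE).elim

end CfsgLib.Subdeg3
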