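import Cfsg.Agent.Lib.Subdeg3.Defs
import Cfsg.Agent.Lib.Involutions.DihedralClasses
import Cfsg.Agent.Lib.CentFour.Tools
import Cfsg.Agent.S0514

/-!
# S3686: centralisers in a group with a self-centralising four-group and dihedral Sylow 2-subgroups

`C(z) = O T` with `O` abelian, inverted by the reflection `u ∈ V`.  The subgroup `E` of `O` fixed
by the other reflection `x u` is inverted by the rotation `x`, and an element moving `z` to `x u`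
centralises it.
-/

set_option autoImplicit false
set_option linter.style.haveILetI false
set_option linter.unusedSectionVars false

namespace CfsgLib.Subdeg3

open Subgroup CfsgLib.Involutions

universe u

variable {G : Type u} [Group G]

theorem eq_one_of_odd_of_two {T : Subgroup G} (hT : IsPGroup 2 T) {g : G} (hg : g ∈ T)
    (ho : Odd (orderOf g)) : g = 1 := by
  obtain ⟨k, hk⟩ := IsPGroup.iff_orderOf.1 hT ⟨g, hg⟩
  rw [Subgroup.orderOf_mk] at hk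
  rw [← orderOf_eq_one_iff, hk]
  rw [hk] at ho
  rcases k with _ | k
  · rfl
  · exact absurd ho (by simp [Nat.odd_pow_iff])

theorem odd_orderOf_of_mem [Finite G] {K : Subgroup G} (hK : Odd (Nat.card K)) {a : G}
    (ha : a ∈ K) : Odd (orderOf a) :=
  hK.of_dvd_nat (K.orderOf_dvd_natCard ha)

theorem eq_one_of_odd_sq {a : G} (ha : Odd (orderOf a)) (h : a * a = 1) : a = 1 := by
  obtain ⟨k, hk⟩ := ha
  have h2 : a ^ (2 * k + 1) = a := by rw [pow_succ, pow_mul, sq, h, one_pow, one_mul]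
  rw [← h2, ← hk, pow_orderOf_eq_one]

/-- An element commuting with an involution modulo an odd normal subgroup can be corrected. -/
theorem exists_commuting_translate [Finite G] (M : Subgroup G) [M.Normal] (hM : Odd (Nat.card M))
    {w : G} (hw : orderOf w = 2) {y : G} (hy : y * w * y⁻¹ * w⁻¹ ∈ M) :
    ∃ o ∈ M, Commute (o⁻¹ * y) w := by
  have hw' := conj_invol y hw
  have hmem : w * (y * w * y⁻¹) ∈ M := by
    have := ‹M.Normal›.conj_mem _ hy w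
    rwa [show w * (y * w * y⁻¹ * w⁻¹) * w⁻¹ = w * (y * w * y⁻¹) * (w⁻¹ * w⁻¹) by group,
      invol_inv hw, invol_mul_self hw, mul_one] at this
  obtain ⟨k, hk⟩ := exists_zpow_conj_of_odd hw hw' (odd_orderOf_of_mem hM hmem)
  refine ⟨_, zpow_mem hmem k, ?_⟩
  set o := (w * (y * w * y⁻¹)) ^ k
  show o⁻¹ * y * w = w * (o⁻¹ * y)
  calc o⁻¹ * y * w = o⁻¹ * (y * w * y⁻¹) * y := by group
    _ = o⁻¹ * (o * w * o⁻¹) * y := by rw [hk]
    _ = w * (o⁻¹ * y) := by group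

/-- An element whose square lies in an odd subgroup has an odd power with square `1`. -/
theorem exists_sq_one_translate [Finite G] (M : Subgroup G) (hM : Odd (Nat.card M)) {y : G}
    (hy : y * y ∈ M) : ∃ l : ℕ, y ^ (2 * l + 1) * y ^ (2 * l + 1) = 1 ∧ (y ^ 2) ^ l ∈ M := by
  obtain ⟨l, hl⟩ := odd_orderOf_of_mem hM hy
  refine ⟨l, ?_, M.pow_mem (by rwa [sq]) l⟩
  rw [← (Commute.refl y).mul_pow, ← hl, pow_orderOf_eq_one]

/-- The configuration: `V` is the four-group `⟨z, u⟩` of a dihedral Sylow 2-subgroup. -/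
structure Cfg (G : Type u) [Group G] (V : Subgroup G) where
  P : Sylow 2 G
  d : DP (P : Subgroup G)
  three : 3 ≤ d.n
  eqV : V = d.TG 0
  cent : centralizer (V : Set G) = V
  noIdx : ∀ K : Subgroup G, K.index ≠ 2
  m : ℕ
  two_le : 2 ≤ m
  iso : Nonempty ((P : Subgroup G) ≃* DihedralGroup m)

namespace Cfg

variable [Finite G] {V : Subgroup G} (C : Cfg G V)

theorem r_zero : C.d.r 0 = C.d.y := by rw [DP.r, zpow_zero, one_mul]

theorem r_one : C.d.r 1 = C.d.x * C.d.y := by rw [DP.r, zpow_one]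

theorem z_mem_V : C.d.z ∈ V := C.eqV.ge (C.d.z_mem_TG 0)

theorem y_mem_V : C.d.y ∈ V := C.r_zero ▸ C.eqV.ge (C.d.r_mem_TG 0)

theorem mem_V {g : G} : g ∈ V ↔ g = 1 ∨ g = C.d.z ∨ g = C.d.y ∨ g = C.d.z * C.d.y := by
  rw [SetLike.ext_iff.1 C.eqV g, C.d.mem_TG, C.r_zero]

include C in
theorem isPGroup_V : IsPGroup 2 V := by
  exact C.P.isPGroup'.to_le (C.eqV.le.trans (C.d.TG_le 0))

theorem comm_zy : Commute C.d.z C.d.y := C.d.commute_z C.d.y_mem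

theorem not_F2 (i : ℤ) : ¬ C.d.F2 i := fun h => by
  obtain ⟨K, hK⟩ := C.d.exists_index_two h
  exact C.noIdx K hK

theorem isConj_z {t : G} (ht : orderOf t = 2) : IsConj C.d.z t := C.d.isConj_z C.not_F2 ht

theorem exists_core : ∃ N : Subgroup (centralizer ({C.d.z} : Set G)),
    N.Normal ∧ Odd (Nat.card N) ∧ ∃ k : ℕ, N.index = 2 ^ k :=
  Cfsg.Agent.S0514.result C.P C.m C.two_le C.iso C.d.z C.d.orderOf_z

/-- The odd core of `C(z)`. -/
noncomputable def O : Subgroup G :=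
  C.exists_core.choose.map (centralizer ({C.d.z} : Set G)).subtype

theorem mem_cz {x : G} : x ∈ centralizer ({C.d.z} : Set G) ↔ Commute C.d.z x :=
  ⟨fun h => (mem_centralizer_singleton_iff.1 h).symm,
    fun h => mem_centralizer_singleton_iff.2 h.eq.symm⟩

theorem P_le_cz : (C.P : Subgroup G) ≤ centralizer ({C.d.z} : Set G) := fun _ ht =>
  C.mem_cz.2 (C.d.commute_z ht)

theorem O_le_cz : C.O ≤ centralizer ({C.d.z} : Set G) := map_subtype_le _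

theorem odd_O : Odd (Nat.card C.O) := by
  rw [O, Nat.card_congr ((C.exists_core.choose.equivMapOfInjective _
    (subtype_injective _)).symm.toEquiv)]
  exact C.exists_core.choose_spec.2.1

/-- `O` consists of the elements of odd order of `C(z)`. -/
theorem mem_O {x : G} : x ∈ C.O ↔ Commute C.d.z x ∧ Odd (orderOf x) := by
  refine ⟨fun h => ⟨C.mem_cz.1 (C.O_le_cz h), odd_orderOf_of_mem C.odd_O h⟩, fun ⟨hc, ho⟩ => ?_⟩
  obtain ⟨hn, -, k, hk⟩ := C.exists_core.choose_spec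
  haveI := hn
  refine ⟨⟨x, C.mem_cz.2 hc⟩, ?_, rfl⟩
  have hcop : Nat.Coprime (2 ^ k) (orderOf (⟨x, C.mem_cz.2 hc⟩ : centralizer ({C.d.z} : Set G))) := by
    rw [Subgroup.orderOf_mk]; exact (Nat.coprime_two_left.2 ho).pow_left k
  obtain ⟨m, hm⟩ := exists_pow_eq_self_of_coprime hcop
  rw [SetLike.mem_coe, ← hm, ← hk]
  exact pow_mem (Subgroup.pow_index_mem _ _) m

theorem O_conj {c x : G} (hc : Commute C.d.z c) (hx : x ∈ C.O) : c * x * c⁻¹ ∈ C.O := by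
  obtain ⟨h1, h2⟩ := C.mem_O.1 hx
  exact C.mem_O.2 ⟨(hc.mul_right h1).mul_right hc.inv_right, by rwa [orderOf_conj_eq]⟩

theorem disjoint {g : G} (hO : g ∈ C.O) (hP : g ∈ (C.P : Subgroup G)) : g = 1 :=
  eq_one_of_odd_of_two C.P.isPGroup' hP (C.mem_O.1 hO).2

theorem exists_mul {c : G} (hc : Commute C.d.z c) :
    ∃ o ∈ C.O, ∃ t ∈ (C.P : Subgroup G), c = o * t := by
  obtain ⟨hn, -, k, hk⟩ := C.exists_core.choose_spec
  haveI : Fact (Nat.Prime 2) := ⟨Nat.prime_two⟩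
  set N := C.exists_core.choose
  haveI := hn
  have hp : IsPGroup 2 (centralizer ({C.d.z} : Set G) ⧸ N) := IsPGroup.of_card hk
  set Q := C.P.subtype C.P_le_cz
  have htop : ((Q.mapSurjective (QuotientGroup.mk'_surjective N) :
      Sylow 2 (centralizer ({C.d.z} : Set G) ⧸ N)) : Subgroup (centralizer ({C.d.z} : Set G) ⧸ N)) =
      (⊤ : Subgroup (centralizer ({C.d.z} : Set G) ⧸ N)) :=
    ((Q.mapSurjective (QuotientGroup.mk'_surjective N)).is_maximal'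
      (IsPGroup.of_card (by rw [card_top]; exact hk)) le_top).symm
  obtain ⟨t, ht, e⟩ : QuotientGroup.mk' N ⟨c, C.mem_cz.2 hc⟩ ∈
      (Q : Subgroup (centralizer ({C.d.z} : Set G))).map (QuotientGroup.mk' N) := by
    rw [← Sylow.coe_mapSurjective (QuotientGroup.mk'_surjective N), htop]; trivial
  have ht' : (t : G) ∈ (C.P : Subgroup G) := by
    rw [SetLike.mem_coe] at ht
    simpa [Q, Sylow.coe_subtype, mem_subgroupOf] using ht
  refine ⟨c * (t : G)⁻¹, ⟨⟨c, C.mem_cz.2 hc⟩ * t⁻¹, ?_, rfl⟩, t, ht', by group⟩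
  rw [SetLike.mem_coe, ← QuotientGroup.eq_one_iff]
  exact mul_inv_eq_one.2 e.symm

theorem P_conj_O {t x : G} (ht : t ∈ (C.P : Subgroup G)) (hx : x ∈ C.O) : t * x * t⁻¹ ∈ C.O :=
  C.O_conj (C.d.commute_z ht) hx

theorem y_inv {o : G} (ho : o ∈ C.O) : C.d.y * o * C.d.y⁻¹ = o⁻¹ := by
  refine CentFour.conj_eq_inv_of_fpf C.O C.odd_O (invol_mul_self C.d.orderOf_y)
    (fun w hw => C.P_conj_O C.d.y_mem hw) (fun w hw hc => ?_) o ho
  obtain ⟨hz, hodd⟩ := C.mem_O.1 hw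
  have hwV : w ∈ V := by
    rw [← C.cent, mem_centralizer_iff]
    intro v hv
    rcases C.mem_V.1 hv with rfl | rfl | rfl | rfl
    · rw [one_mul, mul_one]
    · exact hz.eq
    · exact hc.eq
    · exact (hz.mul_left hc).eq
  exact eq_one_of_odd_of_two C.isPGroup_V hwV hodd

theorem O_comm {a b : G} (ha : a ∈ C.O) (hb : b ∈ C.O) : Commute a b := by
  have e : C.d.y * (a * b) * C.d.y⁻¹ = C.d.y * a * C.d.y⁻¹ * (C.d.y * b * C.d.y⁻¹) := by group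
  rw [C.y_inv ha, C.y_inv hb, C.y_inv (mul_mem ha hb), ← mul_inv_rev, inv_inj] at e
  exact e

theorem x_sq_cent {o : G} (ho : o ∈ C.O) : Commute (C.d.x ^ (2 : ℤ)) o := by
  have h1 : C.d.r 2 * o * (C.d.r 2)⁻¹ = o⁻¹ := by
    have e : C.d.x ^ (1 : ℤ) * C.d.r 0 * (C.d.x ^ (1 : ℤ))⁻¹ = C.d.r 2 := by rw [C.d.conj_r]; rfl
    rw [zpow_one, C.r_zero] at e
    have hx : C.d.x⁻¹ * o * C.d.x ∈ C.O := by
      simpa using C.P_conj_O (inv_mem C.d.x_mem) ho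
    calc C.d.r 2 * o * (C.d.r 2)⁻¹
        = C.d.x * (C.d.y * (C.d.x⁻¹ * o * C.d.x) * C.d.y⁻¹) * C.d.x⁻¹ := by rw [← e]; group
      _ = o⁻¹ := by rw [C.y_inv hx]; group
  have hx2 : C.d.x ^ (2 : ℤ) = C.d.r 2 * C.d.y := by rw [← C.r_zero, C.d.r_mul_r, sub_zero]
  refine mul_inv_eq_iff_eq_mul.1 ?_
  rw [hx2, show C.d.r 2 * C.d.y * o * (C.d.r 2 * C.d.y)⁻¹ =
    C.d.r 2 * (C.d.y * o * C.d.y⁻¹) * (C.d.r 2)⁻¹ by group, C.y_inv ho]
  calc C.d.r 2 * o⁻¹ * (C.d.r 2)⁻¹ = (C.d.r 2 * o * (C.d.r 2)⁻¹)⁻¹ := by group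
    _ = o := by rw [h1, inv_inv]

theorem zpow_even_cent {i : ℤ} (hi : Even i) {o : G} (ho : o ∈ C.O) :
    Commute (C.d.x ^ i) o := by
  obtain ⟨j, rfl⟩ := hi
  rw [← two_mul, zpow_mul]
  exact (C.x_sq_cent ho).zpow_left j

theorem r_even_inv {i : ℤ} (hi : Even i) {o : G} (ho : o ∈ C.O) :
    C.d.r i * o * (C.d.r i)⁻¹ = o⁻¹ := by
  rw [DP.r, show C.d.x ^ i * C.d.y * o * (C.d.x ^ i * C.d.y)⁻¹ =
    C.d.x ^ i * (C.d.y * o * C.d.y⁻¹) * (C.d.x ^ i)⁻¹ by group, C.y_inv ho,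
    (C.zpow_even_cent hi (inv_mem ho)).eq, mul_inv_cancel_right]

theorem r_odd_act {i : ℤ} (hi : Odd i) {o : G} (ho : o ∈ C.O) :
    C.d.r i * o * (C.d.r i)⁻¹ = C.d.r 1 * o * (C.d.r 1)⁻¹ := by
  have hmem := C.P_conj_O (C.d.r_mem 1) ho
  have he : C.d.r i = C.d.x ^ (i - 1) * C.d.r 1 := by rw [C.d.zpow_mul_r, sub_add_cancel]
  rw [he, show C.d.x ^ (i - 1) * C.d.r 1 * o * (C.d.x ^ (i - 1) * C.d.r 1)⁻¹ =
    C.d.x ^ (i - 1) * (C.d.r 1 * o * (C.d.r 1)⁻¹) * (C.d.x ^ (i - 1))⁻¹ by group,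
    (C.zpow_even_cent (hi.sub_odd odd_one) hmem).eq, mul_inv_cancel_right]

/-- The part of `O` fixed by the reflection `x u`. -/
noncomputable def E : Subgroup G := C.O ⊓ centralizer ({C.d.r 1} : Set G)

theorem mem_E {e : G} : e ∈ C.E ↔ e ∈ C.O ∧ Commute (C.d.r 1) e :=
  ⟨fun h => ⟨h.1, (mem_centralizer_singleton_iff.1 h.2).symm⟩,
    fun h => ⟨h.1, mem_centralizer_singleton_iff.2 h.2.eq.symm⟩⟩

theorem E_le : C.E ≤ C.O := inf_le_left

theorem odd_E : Odd (Nat.card C.E) := C.odd_O.of_dvd_nat (card_dvd_of_le C.E_le)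

theorem E_inverted {e : G} (he : e ∈ C.E) : C.d.x * e * C.d.x⁻¹ = e⁻¹ := by
  obtain ⟨hO, hc⟩ := C.mem_E.1 he
  have e1 : C.d.x = C.d.r 1 * C.d.y := by
    rw [← C.r_zero, C.d.r_mul_r, sub_zero, zpow_one]
  rw [e1, show C.d.r 1 * C.d.y * e * (C.d.r 1 * C.d.y)⁻¹ =
    C.d.r 1 * (C.d.y * e * C.d.y⁻¹) * (C.d.r 1)⁻¹ by group, C.y_inv hO, hc.inv_right.eq,
    mul_inv_cancel_right]

theorem mem_E_of_inverted {o : G} (ho : o ∈ C.O) (h : C.d.x * o * C.d.x⁻¹ = o⁻¹) : o ∈ C.E := by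
  refine C.mem_E.2 ⟨ho, mul_inv_eq_iff_eq_mul.1 ?_⟩
  rw [C.r_one, show C.d.x * C.d.y * o * (C.d.x * C.d.y)⁻¹ =
    C.d.x * (C.d.y * o * C.d.y⁻¹) * C.d.x⁻¹ by group, C.y_inv ho]
  calc C.d.x * o⁻¹ * C.d.x⁻¹ = (C.d.x * o * C.d.x⁻¹)⁻¹ := by group
    _ = o := by rw [h, inv_inv]

/-- Every reflection inverts `O` modulo `E`. -/
theorem r_conj_mul (i : ℤ) {o : G} (ho : o ∈ C.O) :
    C.d.r i * o * (C.d.r i)⁻¹ * o ∈ C.E := by
  rcases Int.even_or_odd i with hi | hi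
  · rw [C.r_even_inv hi ho, inv_mul_cancel]; exact one_mem _
  rw [C.r_odd_act hi ho]
  have hmem := C.P_conj_O (C.d.r_mem 1) ho
  refine C.mem_E.2 ⟨mul_mem hmem ho, mul_inv_eq_iff_eq_mul.1 ?_⟩
  calc C.d.r 1 * (C.d.r 1 * o * (C.d.r 1)⁻¹ * o) * (C.d.r 1)⁻¹
      = C.d.r 1 * C.d.r 1 * o * (C.d.r 1 * C.d.r 1)⁻¹ *
          (C.d.r 1 * o * (C.d.r 1)⁻¹) := by group
    _ = o * (C.d.r 1 * o * (C.d.r 1)⁻¹) := by
      rw [invol_mul_self (C.d.orderOf_r 1), one_mul, inv_one, mul_one]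
    _ = _ := (C.O_comm hmem ho).eq.symm

theorem even_half : Even C.d.half := C.d.even_half (by have := C.three; omega)

/-- The quarter rotation. -/
def s : G := C.d.x ^ (2 ^ (C.d.n - 2) : ℤ)

theorem s_mem : C.s ∈ (C.P : Subgroup G) := zpow_mem C.d.x_mem _

theorem s_cent {o : G} (ho : o ∈ C.O) : Commute C.s o := by
  refine C.zpow_even_cent ?_ ho
  exact even_iff_two_dvd.2 (dvd_pow_self 2 (by have := C.three; omega))

theorem s_conj (i : ℤ) : C.s * C.d.r i * C.s⁻¹ = C.d.z * C.d.r i := by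
  rw [s, C.d.conj_r, C.d.z_mul_r]
  congr 1
  rw [DP.half, show C.d.n - 1 = (C.d.n - 2) + 1 by have := C.three; omega, pow_succ]
  ring

theorem s_conj_mul (i : ℤ) : C.s * (C.d.z * C.d.r i) * C.s⁻¹ = C.d.r i := by
  rw [show C.s * (C.d.z * C.d.r i) * C.s⁻¹ = C.s * C.d.z * C.s⁻¹ * (C.s * C.d.r i * C.s⁻¹) by group,
    C.s_conj, ← (C.d.commute_z C.s_mem).eq, mul_inv_cancel_right, ← mul_assoc,
    invol_mul_self C.d.orderOf_z, one_mul]

/-- An element fusing `x u` with `z` centralises `E`. -/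
theorem exists_fuse : ∃ c : G, c * C.d.z * c⁻¹ = C.d.r 1 ∧
    c * C.d.r 1 * c⁻¹ = C.d.z * C.d.r 1 ∧ ∀ e ∈ C.E, Commute c e := by
  obtain ⟨c, -, -, h1, h2⟩ := C.d.exists_cycle (C.not_F2 1)
  refine ⟨c, h1, h2, ?_⟩
  have hzr : c * (C.d.z * C.d.r 1) * c⁻¹ = C.d.z := by
    rw [← conj_mul, h1, h2, ← mul_assoc, ← (C.d.commute_z (C.d.r_mem 1)).eq, mul_assoc,
      invol_mul_self (C.d.orderOf_r 1), mul_one]
  -- elements of `C(z, x u)` centralise `E`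
  have hcent : ∀ w : G, Commute C.d.z w → Commute (C.d.r 1) w → ∀ e ∈ C.E, Commute w e := by
    intro w hwz hwr e he
    obtain ⟨heO, her⟩ := C.mem_E.1 he
    obtain ⟨o, ho, t, ht, rfl⟩ := C.exists_mul hwz
    refine (C.O_comm ho heO).mul_left ?_
    have hr1 := C.d.r_mem 1
    have e1 : o⁻¹ * (C.d.r 1 * o * (C.d.r 1)⁻¹) = t * (C.d.r 1 * t⁻¹ * (C.d.r 1)⁻¹) := by
      calc o⁻¹ * (C.d.r 1 * o * (C.d.r 1)⁻¹)
          = o⁻¹ * (C.d.r 1 * (o * t)) * t⁻¹ * (C.d.r 1)⁻¹ := by group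
        _ = t * (C.d.r 1 * t⁻¹ * (C.d.r 1)⁻¹) := by rw [hwr.eq]; group
    have h3 := C.disjoint (mul_mem (inv_mem ho) (C.P_conj_O hr1 ho))
      (e1 ▸ mul_mem ht (mul_mem (mul_mem hr1 (inv_mem ht)) (inv_mem hr1)))
    rw [h3] at e1
    have htr : Commute t (C.d.r 1) := by
      show t * C.d.r 1 = C.d.r 1 * t
      calc t * C.d.r 1
          = t * (C.d.r 1 * t⁻¹ * (C.d.r 1)⁻¹) * (C.d.r 1 * t) := by group
        _ = C.d.r 1 * t := by rw [← e1, one_mul]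
    have hez := (C.mem_O.1 heO).1
    rcases C.d.mem_TG.1 (C.d.mem_TG_of_commute ht htr) with rfl | rfl | rfl | rfl
    · exact Commute.one_left e
    · exact hez
    · exact her
    · exact hez.mul_left her
  have hnorm : ∀ e ∈ C.E, c * e * c⁻¹ ∈ C.E := by
    intro e he
    obtain ⟨heO, her⟩ := C.mem_E.1 he
    have hez := (C.mem_O.1 heO).1
    have hconj : ∀ a : G, Commute a e → Commute (c * a * c⁻¹) (c * e * c⁻¹) := fun a ha =>
      ha.map (MulAut.conj c).toMonoidHom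
    have hz := hconj _ (hez.mul_left her)
    rw [hzr] at hz
    have hr := hconj _ hez
    rw [h1] at hr
    exact C.mem_E.2 ⟨C.mem_O.2 ⟨hz, by rw [orderOf_conj_eq]; exact (C.mem_O.1 heO).2⟩, hr⟩
  intro e he
  have hs : ∀ e ∈ C.E, C.s * e * C.s⁻¹ = e := fun e he =>
    mul_inv_eq_iff_eq_mul.2 (C.s_cent (C.E_le he)).eq
  have key : ∀ w : G, w * C.d.z * w⁻¹ = C.d.z → w * C.d.r 1 * w⁻¹ = C.d.r 1 → w * e * w⁻¹ = e :=
    fun w hz hr => mul_inv_eq_iff_eq_mul.2 (hcent w (mul_inv_eq_iff_eq_mul.1 hz).symm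
      (mul_inv_eq_iff_eq_mul.1 hr).symm e he).eq
  have hsz : C.s * C.d.z * C.s⁻¹ = C.d.z := by
    rw [← (C.d.commute_z C.s_mem).eq, mul_inv_cancel_right]
  have k1 : c * (C.s * (c * C.d.z * c⁻¹) * C.s⁻¹) * c⁻¹ = C.d.z := by rw [h1, C.s_conj, hzr]
  have k2 : C.s * (c * (C.s * (c * C.d.r 1 * c⁻¹) * C.s⁻¹) * c⁻¹) * C.s⁻¹ = C.d.r 1 := by
    rw [h2, C.s_conj_mul, h2, C.s_conj_mul]
  have hcsc : (C.s * c * C.s * c) * e * (C.s * c * C.s * c)⁻¹ = e := by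
    refine key _ ?_ ?_
    · rw [show (C.s * c * C.s * c) * C.d.z * (C.s * c * C.s * c)⁻¹ =
        C.s * (c * (C.s * (c * C.d.z * c⁻¹) * C.s⁻¹) * c⁻¹) * C.s⁻¹ by group, k1, hsz]
    · rw [show (C.s * c * C.s * c) * C.d.r 1 * (C.s * c * C.s * c)⁻¹ =
        C.s * (c * (C.s * (c * C.d.r 1 * c⁻¹) * C.s⁻¹) * c⁻¹) * C.s⁻¹ by group, k2]
  have h2e : c * (c * e * c⁻¹) * c⁻¹ = e := by
    rw [show (C.s * c * C.s * c) * e * (C.s * c * C.s * c)⁻¹ =
      C.s * (c * (C.s * (c * e * c⁻¹) * C.s⁻¹) * c⁻¹) * C.s⁻¹ by group,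
      hs _ (hnorm e he), hs _ (hnorm _ (hnorm e he))] at hcsc
    exact hcsc
  have h3e : c * (c * (c * e * c⁻¹) * c⁻¹) * c⁻¹ = e := by
    rw [show c * (c * (c * e * c⁻¹) * c⁻¹) * c⁻¹ = (c * c * c) * e * (c * c * c)⁻¹ by group]
    refine key _ ?_ ?_
    · rw [show (c * c * c) * C.d.z * (c * c * c)⁻¹ = c * (c * (c * C.d.z * c⁻¹) * c⁻¹) * c⁻¹ by group,
        h1, h2, hzr]
    · rw [show (c * c * c) * C.d.r 1 * (c * c * c)⁻¹ =
        c * (c * (c * C.d.r 1 * c⁻¹) * c⁻¹) * c⁻¹ by group, h2, hzr, h1]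
  rw [h2e] at h3e
  exact mul_inv_eq_iff_eq_mul.1 h3e

/-- An element of `N(V)` moving `z` to `u`, and the induced transposition fixing `u`. -/
theorem exists_turn : ∃ h : G, h * C.d.z * h⁻¹ = C.d.y ∧
    (h * C.s * h⁻¹) * C.d.z * (h * C.s * h⁻¹)⁻¹ = C.d.z * C.d.y := by
  obtain ⟨c, -, -, h1, h2⟩ := C.d.exists_cycle (C.not_F2 0)
  rw [C.r_zero] at h1 h2
  have hzr : c * (C.d.z * C.d.y) * c⁻¹ = C.d.z := by
    rw [← conj_mul, h1, h2, ← mul_assoc, ← C.comm_zy.eq, mul_assoc,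
      invol_mul_self C.d.orderOf_y, mul_one]
  refine ⟨c, h1, ?_⟩
  have hzr' : c⁻¹ * C.d.z * c = C.d.z * C.d.y := by
    conv_lhs => rw [← hzr]
    group
  have hsy := C.s_conj_mul 0
  rw [C.r_zero] at hsy
  calc (c * C.s * c⁻¹) * C.d.z * (c * C.s * c⁻¹)⁻¹
      = c * (C.s * (c⁻¹ * C.d.z * c) * C.s⁻¹) * c⁻¹ := by group
    _ = C.d.z * C.d.y := by rw [hzr', hsy, h2]

end Cfg

end CfsgLib.Subdeg3
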