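import Cfsg.Agent.Lib.PSL2.Tori

/-!
# S3686: the facts on `PGL(2,q)` used in the dihedral case
-/

set_option autoImplicit false
set_option linter.style.haveILetI false
set_option linter.unusedSectionVars false

namespace CfsgLib.Subdeg3

open Matrix MulAction CfsgLib.Classical CfsgLib.PSL2
open scoped LinearAlgebra.Projectivization

variable {F : Type*} [Field F] [Finite F]

local notation "PG" => Matrix.ProjGenLinGroup (Fin 2) F

theorem card_pgl_eq : Nat.card PG = (Nat.card F + 1) * (Nat.card F * (Nat.card F - 1)) := by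
  obtain ⟨p, hc⟩ := CharP.exists F
  haveI : Fact p.Prime := ⟨CharP.char_is_prime F p⟩
  exact card_pgl_two rfl

theorem isSimpleGroup_pslRange (hq : 3 < Nat.card F) : IsSimpleGroup (pslRange F) := by
  haveI := Matrix.ProjectiveSpecialLinearGroup.rank_two_simple (F := F) (by omega)
  exact (MonoidHom.ofInjective (f := ProjectiveSpecialLinearGroup.toPGL (n := Fin 2) (R := F))
    ProjectiveSpecialLinearGroup.toPGL_injective).isSimpleGroup_congr.1 inferInstance

theorem five_le_card_pslRange (hq : 3 < Nat.card F) : 5 ≤ Nat.card (pslRange F) := by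
  have h := (pslRange F).card_mul_index
  rw [index_pslRange, card_pgl_eq] at h
  have h2 : Nat.gcd 2 (Nat.card F - 1) ≤ 2 := Nat.gcd_le_left _ two_pos
  have h3 : 5 * (4 * 3) ≤ (Nat.card F + 1) * (Nat.card F * (Nat.card F - 1)) :=
    Nat.mul_le_mul (by omega) (Nat.mul_le_mul (by omega) (by omega))
  by_contra hlt
  have := Nat.mul_le_mul (show Nat.card (pslRange F) ≤ 4 by omega) h2
  omega

/-- The only possible subgroup of index two is `PSL(2,q)`. -/
theorem eq_pslRange_of_index_two (hq : 3 < Nat.card F) {L : Subgroup PG} (hL : L.index = 2) :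
    L = pslRange F := by
  haveI := isSimpleGroup_pslRange hq
  haveI := Subgroup.normal_of_index_eq_two hL
  rcases IsSimpleGroup.eq_bot_or_eq_top_of_normal (L.subgroupOf (pslRange F)) inferInstance with h | h
  · exfalso
    have h1 : L.relIndex (pslRange F) ≤ 2 := by
      refine (Nat.le_of_dvd ?_ (L.relIndex_dvd_index_of_normal (pslRange F))).trans hL.le
      omega
    rw [Subgroup.relIndex, h, Subgroup.index_bot] at h1
    have := five_le_card_pslRange (F := F) hq
    omega
  · have hle : pslRange F ≤ L := Subgroup.subgroupOf_eq_top.1 h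
    refine (Subgroup.eq_of_le_of_card_ge hle ?_).symm
    have h1 := L.card_mul_index
    have h2 := (pslRange F).card_mul_index
    rw [hL] at h1
    have h3 : (pslRange F).index ≤ 2 := by rw [index_pslRange]; exact Nat.gcd_le_left _ two_pos
    by_contra hlt
    have := Nat.mul_le_mul (show Nat.card (pslRange F) + 1 ≤ Nat.card L by omega)
      (show (pslRange F).index ≤ 2 from h3)
    nlinarith

theorem index_two_false_of_even (hq : 3 < Nat.card F) (he : Even (Nat.card F)) (L : Subgroup PG) :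
    L.index ≠ 2 := fun hL => by
  have h := eq_pslRange_of_index_two hq hL
  rw [pslRange_eq_top_of_even he] at h
  rw [h, Subgroup.index_top] at hL
  omega

/-- In characteristic two there is no element of order four. -/
theorem not_orderOf_four_of_even (he : Even (Nat.card F)) (g : PG) : orderOf g ≠ 4 := by
  intro hg
  obtain ⟨p, hc⟩ := CharP.exists F
  haveI : Fact p.Prime := ⟨CharP.char_is_prime F p⟩
  obtain ⟨k, hk0, hk⟩ := card_eq_charPow (F := F) (p := p)
  have hp2 : p = 2 := by
    rw [hk] at he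
    have := (Nat.even_pow.1 he).1
    exact ((Fact.out : p.Prime).eq_two_or_odd').resolve_right (Nat.not_odd_iff_even.2 this)
  subst hp2
  haveI := charP_ext2 (F := F) (p := 2)
  have hPE : P1Like 2 PG (ℙ (Ext2 F 2) (Fin 2 → Ext2 F 2)) := p1Like_ext
  have hg1 : g ≠ 1 := fun e => by rw [e, orderOf_one] at hg; omega
  have hg2 : g ^ 2 ≠ 1 := fun e => by
    have := orderOf_le_of_pow_eq_one two_pos e
    omega
  obtain ⟨a, ha⟩ := exists_fix_ext (p := 2) g
  obtain ⟨b, hb, hgb⟩ := hPE.exists_other hg2 ha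
  have hgp := goodPair_of_fixed hg1 (Ne.symm hb) ha hgb
  have hdvd : orderOf g ∣ torusCard (F := F) (p := 2) a := by
    rw [← card_torus hgp]
    exact (stabilizer PG a ⊓ stabilizer PG b).orderOf_dvd_natCard ⟨ha, hgb⟩
  have h1 : 1 < Nat.card F := Finite.one_lt_card
  obtain ⟨j, hj⟩ := he
  obtain ⟨m, hm⟩ := hdvd
  rw [hg] at hm
  rw [torusCard] at hm
  split_ifs at hm <;> omega

/-- The torus of twice odd order: its odd part centralises an involution outside `PSL(2,q)` and
is prime to the centralisers of the involutions of `PSL(2,q)`. -/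
theorem exists_outer (hodd : Odd (Nat.card F)) (hq : 3 < Nat.card F) :
    ∃ k : ℕ, Odd k ∧ 1 < k ∧
      (∃ w x : PG, orderOf w = 2 ∧ w ∉ pslRange F ∧ orderOf x = k ∧ Commute x w) ∧
      ∀ z : PG, z ∈ pslRange F → orderOf z = 2 →
        Nat.Coprime k (Nat.card (Subgroup.centralizer ({z} : Set PG))) := by
  obtain ⟨p, hc⟩ := CharP.exists F
  haveI : Fact p.Prime := ⟨CharP.char_is_prime F p⟩
  haveI := charP_ext2 (F := F) (p := p)
  have hPE : P1Like p PG (ℙ (Ext2 F p) (Fin 2 → Ext2 F p)) := p1Like_ext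
  obtain ⟨f, hf0, hf⟩ := card_eq_charPow (F := F) (p := p)
  have hidx : (pslRange F).index = 2 := by
    rw [index_pslRange, gcd_two_card_sub_one_of_odd hodd]
  -- in a torus of twice odd order the involution lies outside `PSL(2,q)`
  have key : ∀ a b : ℙ (Ext2 F p) (Fin 2 → Ext2 F p), GoodPair a b →
      ∀ k : ℕ, Odd k → torusCard (F := F) (p := p) a = 2 * k →
      (∀ z ∈ stabilizer PG a ⊓ stabilizer PG b, orderOf z = 2 → z ∉ pslRange F) ∧
      ∃ r ∈ stabilizer PG a ⊓ stabilizer PG b, orderOf r = 2 * k := by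
    intro a b hg k hk htc
    haveI := hPE.two_cyclic hg.1
    set S := stabilizer PG a ⊓ stabilizer PG b with hS
    obtain ⟨⟨r, hr⟩, hro⟩ := IsCyclic.exists_ofOrder_eq_natCard (α := S)
    rw [Subgroup.orderOf_mk, card_torus hg, htc] at hro
    have hgen : ∀ y ∈ S, y ∈ Subgroup.zpowers r := by
      intro y hy
      have h : Subgroup.zpowers r = S := Subgroup.eq_of_le_of_card_ge (Subgroup.zpowers_le.2 hr)
        (by rw [Nat.card_zpowers, hro, card_torus hg, htc])
      rw [h]; exact hy
    have hk0 : 0 < k := hk.pos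
    have hp : ¬ p ∣ 2 * k := by
      intro hd
      have h1 : p ∣ Nat.card F := by rw [hf]; exact dvd_pow_self p hf0.ne'
      have hp2 := (Fact.out : p.Prime).two_le
      have h2 : p ∣ 1 := by
        rw [← htc, torusCard] at hd
        split_ifs at hd
        · exact (Nat.dvd_add_right hd).1 (by rwa [Nat.sub_add_cancel Finite.one_lt_card.le])
        · exact (Nat.dvd_add_right h1).1 hd
      exact (Fact.out : p.Prime).not_dvd_one h2
    have hrout : r ∉ pslRange F := by
      intro hin
      have h := order_dvd_pslRange p hin (hro ▸ hp)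
      rw [hro, gcd_two_card_sub_one_of_odd hodd] at h
      obtain ⟨j, hj⟩ := hodd
      rw [torusCard] at htc
      split_ifs at htc <;> rcases h with h | h <;> have := Nat.le_of_dvd (by omega) h <;> omega
    refine ⟨fun z hz hzo => ?_, r, hr, hro⟩
    obtain ⟨i, rfl⟩ : ∃ i : ℤ, r ^ i = z := Subgroup.mem_zpowers_iff.1 (hgen z hz)
    intro hin
    have h1 : (r ^ i) ^ 2 = 1 := orderOf_dvd_iff_pow_eq_one.1 hzo.dvd
    rw [← zpow_natCast, ← _root_.zpow_mul, ← orderOf_dvd_iff_zpow_eq_one, hro] at h1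
    obtain ⟨c, hc⟩ := h1
    push_cast at hc
    have hi : i = (k : ℤ) * c := by linarith
    have hrs : r ^ (2 : ℤ) ∈ pslRange F := by
      have := (pslRange F).pow_index_mem r
      rw [hidx] at this
      exact_mod_cast this
    rcases Int.even_or_odd i with ⟨j, hj⟩ | ⟨j, hj⟩
    · have hce : Even c := by
        have : Even ((k : ℤ) * c) := hi ▸ ⟨j, hj⟩
        exact (Int.even_mul.1 this).resolve_left (by
          rw [Int.not_even_iff_odd]; exact_mod_cast hk)
      obtain ⟨c', rfl⟩ := hce
      have h0 : r ^ i = 1 := by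
        rw [← orderOf_dvd_iff_zpow_eq_one, hro, hi]
        exact ⟨c', by push_cast; ring⟩
      exact (by rw [h0, orderOf_one] at hzo; omega : False)
    · refine hrout ?_
      rw [hj, _root_.zpow_add, zpow_one, _root_.zpow_mul] at hin
      exact (Subgroup.mul_mem_cancel_left _ (zpow_mem hrs j)).1 hin
  -- choose the torus of twice odd order
  obtain ⟨a, b, hg, k, hk, hk1, htc⟩ : ∃ a b : ℙ (Ext2 F p) (Fin 2 → Ext2 F p), GoodPair a b ∧
      ∃ k, Odd k ∧ 1 < k ∧ torusCard (F := F) (p := p) a = 2 * k := by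
    obtain ⟨j, hj⟩ := hodd
    rcases Nat.even_or_odd j with hje | hjo
    · obtain ⟨a, ha⟩ : ∃ a : ℙ (Ext2 F p) (Fin 2 → Ext2 F p), ¬ IsRat a := by
        by_contra h
        push Not at h
        have := Nat.card_le_card_of_surjective (embP (F := F) p) h
        rw [card_pline_ext, card_proj_line] at this
        nlinarith
      obtain ⟨b, hba, hb, hst, -⟩ := exists_conj_point ha
      exact ⟨a, b, ⟨Ne.symm hba, .inr ⟨ha, hb, hst⟩⟩, j + 1, hje.add_one, by omega, by
        rw [torusCard, if_neg ha]; omega⟩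
    · obtain ⟨a, b, hg, ha⟩ := exists_goodPair (F := F) (p := p)
      exact ⟨a, b, hg, j, hjo, by omega, by rw [torusCard, if_pos ha]; omega⟩
  obtain ⟨hinv, r, hr, hro⟩ := key a b hg k hk htc
  have hw : orderOf (r ^ k) = 2 := by
    rw [orderOf_pow' r (by omega), hro, Nat.gcd_eq_right (Dvd.intro_left 2 rfl),
      Nat.mul_div_cancel _ (by omega : 0 < k)]
  refine ⟨k, hk, hk1, ⟨r ^ k, r ^ 2, hw, hinv _ (Subgroup.pow_mem _ hr k) hw, ?_,
    (Commute.refl r).pow_pow _ _⟩, ?_⟩
  · rw [orderOf_pow' r two_ne_zero, hro, Nat.gcd_eq_right (Dvd.intro k rfl),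
      Nat.mul_div_cancel_left _ two_pos]
  intro z hzL hzo
  rw [Nat.coprime_iff_gcd_eq_one]
  by_contra hne
  obtain ⟨l, hl, hld⟩ := Nat.exists_prime_and_dvd hne
  haveI : Fact l.Prime := ⟨hl⟩
  have hlk := hld.trans (Nat.gcd_dvd_left _ _)
  have hl2 : l ≠ 2 := by
    rintro rfl
    exact (Nat.not_even_iff_odd.2 hk) (even_iff_two_dvd.2 hlk)
  obtain ⟨⟨y, hyz⟩, hy⟩ := exists_prime_orderOf_dvd_card' (G := Subgroup.centralizer ({z} : Set PG)) l
    (hld.trans (Nat.gcd_dvd_right _ _))
  rw [Subgroup.orderOf_mk] at hy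
  have hcomm : y * z = z * y := Subgroup.mem_centralizer_singleton_iff.1 hyz
  have hy1 : y ≠ 1 := fun e => hl.ne_one (by rw [← hy, e, orderOf_one])
  have hlq : l ∣ Nat.card F + 1 ∨ l ∣ Nat.card F - 1 := by
    rw [torusCard] at htc
    split_ifs at htc
    · exact .inr (htc ▸ dvd_mul_of_dvd_right hlk 2)
    · exact .inl (htc ▸ dvd_mul_of_dvd_right hlk 2)
  have hlp : ¬ l ∣ p := by
    intro h
    have h1 : l ∣ Nat.card F := by rw [hf]; exact h.trans (dvd_pow_self p hf0.ne')
    rcases hlq with h2 | h2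
    · exact hl.not_dvd_one ((Nat.dvd_add_right h1).1 h2)
    · exact hl.not_dvd_one ((Nat.dvd_add_right h2).1
        (by rwa [Nat.sub_add_cancel Finite.one_lt_card.le]))
  have hyp : y ^ p ≠ 1 := fun e => hlp (hy ▸ orderOf_dvd_of_pow_eq_one e)
  obtain ⟨a', ha'⟩ := exists_fix_ext (p := p) y
  obtain ⟨b', hb', hyb'⟩ := hPE.exists_other hyp ha'
  have hg' := goodPair_of_fixed hy1 (Ne.symm hb') ha' hyb'
  have hl' : l ∣ torusCard (F := F) (p := p) a' := by
    rw [← hy, ← card_torus hg']
    exact Subgroup.orderOf_dvd_natCard _ ⟨ha', hyb'⟩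
  have htc' : torusCard (F := F) (p := p) a' = 2 * k := by
    have hnb : ¬ (l ∣ Nat.card F + 1 ∧ l ∣ Nat.card F - 1) := by
      rintro ⟨h1, h2⟩
      have h3 := Nat.dvd_sub h1 h2
      rw [show Nat.card F + 1 - (Nat.card F - 1) = 2 by have := Finite.one_lt_card (α := F); omega] at h3
      exact hl2 ((Nat.prime_dvd_prime_iff_eq hl Nat.prime_two).1 h3)
    have hlt := dvd_mul_of_dvd_right hlk 2
    rw [← htc] at hlt ⊢
    rw [torusCard] at hlt hl' ⊢
    rw [torusCard]
    split_ifs at hlt hl' ⊢ <;> first | rfl | exact (hnb ⟨hl', hlt⟩).elim | exact (hnb ⟨hlt, hl'⟩).elim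
  have hfix : ∀ c : ℙ (Ext2 F p) (Fin 2 → Ext2 F p), y • c = c → c = a' ∨ c = b' := fun c hc => by
    by_contra hne
    push Not at hne
    exact hy1 (hPE.sharp (Ne.symm hb') hne.1.symm hne.2.symm ha' hyb' hc)
  have hmove : ∀ c : ℙ (Ext2 F p) (Fin 2 → Ext2 F p), y • c = c → y • z • c = z • c := fun c hc => by
    rw [← mul_smul, hcomm, mul_smul, hc]
  have hz : z • a' = a' ∧ z • b' = b' := by
    rcases hfix _ (hmove a' ha') with h1 | h1 <;> rcases hfix _ (hmove b' hyb') with h2 | h2
    · exact absurd (smul_left_cancel z (h2.trans h1.symm)) hb'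
    · exact ⟨h1, h2⟩
    · exfalso
      have hzz := hPE.swap_sq (Ne.symm hb') h1 h2
      have hzy := hPE.swap_sq (g := z * y) (Ne.symm hb') (by rw [mul_smul, ha', h1])
        (by rw [mul_smul, hyb', h2])
      have hyy : y * y = 1 := by
        calc y * y = (z * z) * (y * y) := by rw [hzz, one_mul]
          _ = z * (z * y) * y := by group
          _ = z * (y * z) * y := by rw [hcomm]
          _ = 1 := by rw [← hzy]; group
      have := orderOf_le_of_pow_eq_one two_pos (by rw [sq]; exact hyy : y ^ 2 = 1)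
      rw [hy] at this
      have := hl.two_le
      omega
    · exact absurd (smul_left_cancel z (h2.trans h1.symm)) hb'
  exact (key a' b' hg' k hk htc').1 z ⟨hz.1, hz.2⟩ hzo hzL

end CfsgLib.Subdeg3
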