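import Cfsg.Agent.Lib.Subdeg3.DihedralQuot
import Cfsg.Agent.Lib.Subdeg3.DihedralPGL
import Cfsg.Agent.Lib.Base.MinimalNormal

/-!
# S3686: the dihedral case with `E ≠ 1`

In `K = {g | g centralises or inverts E}` modulo its odd core `M` the involution `u` is the outer
involution of `PGL(2,q)`; counting fixed points of `⟨z,u⟩` and `⟨z,xu⟩` on `M` shows that some
nontrivial element of the conjugate of `E` in `C(u)` centralises `E`.
-/

set_option autoImplicit false
set_option linter.style.haveILetI false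
set_option linter.unusedSectionVars false

namespace CfsgLib.Subdeg3.Cfg

open Subgroup CfsgLib.Involutions

universe u

variable {G : Type u} [Group G] [Finite G] {V : Subgroup G} (C : Cfg G V)

theorem E_comm {a b : G} (ha : a ∈ C.E) (hb : b ∈ C.E) : Commute a b :=
  C.O_comm (C.E_le ha) (C.E_le hb)

/-- The elements centralising or inverting `E`. -/
noncomputable def K : Subgroup G where
  carrier := {g | (∀ e ∈ C.E, g * e * g⁻¹ = e) ∨ ∀ e ∈ C.E, g * e * g⁻¹ = e⁻¹}
  one_mem' := Or.inl fun e _ => by group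
  mul_mem' := by
    intro a b ha hb
    have h : ∀ e, a * b * e * (a * b)⁻¹ = a * (b * e * b⁻¹) * a⁻¹ := fun e => by group
    rcases ha with ha | ha <;> rcases hb with hb | hb
    · exact Or.inl fun e he => by rw [h, hb e he, ha e he]
    · exact Or.inr fun e he => by rw [h, hb e he, ha _ (inv_mem he)]
    · exact Or.inr fun e he => by rw [h, hb e he, ha e he]
    · exact Or.inl fun e he => by rw [h, hb e he, ha _ (inv_mem he), inv_inv]
  inv_mem' := by
    intro a ha
    rcases ha with ha | ha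
    · refine Or.inl fun e he => ?_
      conv_lhs => rw [← ha e he]
      group
    · refine Or.inr fun e he => ?_
      have := ha _ (inv_mem he)
      rw [inv_inv] at this
      conv_lhs => rw [← this]
      group

theorem mem_cE {g : G} : g ∈ centralizer (C.E : Set G) ↔ ∀ e ∈ C.E, g * e * g⁻¹ = e := by
  rw [mem_centralizer_iff]
  exact ⟨fun h e he => mul_inv_eq_iff_eq_mul.2 (h e he).symm,
    fun h e he => (mul_inv_eq_iff_eq_mul.1 (h e he)).symm⟩

theorem cE_le_K : centralizer (C.E : Set G) ≤ C.K := fun _ hg => Or.inl (C.mem_cE.1 hg)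

theorem O_le_cE : C.O ≤ centralizer (C.E : Set G) := fun o ho =>
  mem_centralizer_iff.2 fun _ he => (C.O_comm (C.E_le he) ho).eq

theorem x_mem_K : C.d.x ∈ C.K := Or.inr fun _ he => C.E_inverted he

theorem y_mem_K : C.d.y ∈ C.K := Or.inr fun _ he => C.y_inv (C.E_le he)

theorem P_le_K : (C.P : Subgroup G) ≤ C.K := by
  intro t ht
  rcases C.d.cover t ht with ⟨i, rfl⟩ | ⟨i, rfl⟩
  · exact zpow_mem C.x_mem_K i
  · exact mul_mem (zpow_mem C.x_mem_K i) C.y_mem_K

theorem cz_le_K : centralizer ({C.d.z} : Set G) ≤ C.K := fun c hc => by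
  obtain ⟨o, ho, t, ht, rfl⟩ := C.exists_mul (C.mem_cz.1 hc)
  exact mul_mem (C.cE_le_K (C.O_le_cE ho)) (C.P_le_K ht)

theorem K_conj_E {k : G} (hk : k ∈ C.K) {e : G} (he : e ∈ C.E) : k * e * k⁻¹ ∈ C.E := by
  rcases hk with hk | hk <;> rw [hk e he]
  · exact he
  · exact inv_mem he

theorem z_mem_cE : C.d.z ∈ centralizer (C.E : Set G) :=
  mem_centralizer_iff.2 fun _ he => (C.mem_O.1 (C.E_le he)).1.eq.symm

theorem y_not_cE (hE : C.E ≠ ⊥) : C.d.y ∉ centralizer (C.E : Set G) := fun h => by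
  refine hE ((eq_bot_iff_forall _).2 fun e he => ?_)
  have h1 := C.mem_cE.1 h e he
  rw [C.y_inv (C.E_le he)] at h1
  exact eq_one_of_odd_sq (C.mem_O.1 (C.E_le he)).2 (mul_eq_one_iff_eq_inv.2 h1.symm)

theorem r_odd_cE {i : ℤ} (hi : Odd i) : C.d.r i ∈ centralizer (C.E : Set G) := by
  refine C.mem_cE.2 fun e he => ?_
  rw [C.r_odd_act hi (C.E_le he)]
  exact mul_inv_eq_iff_eq_mul.2 (C.mem_E.1 he).2.eq

theorem index_cE (hE : C.E ≠ ⊥) : ((centralizer (C.E : Set G)).subgroupOf C.K).index = 2 := by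
  rw [index_eq_two_iff]
  refine ⟨⟨C.d.y, C.y_mem_K⟩, fun b => ?_⟩
  rcases b.2 with hb | hb
  · refine Or.inr ⟨C.mem_cE.2 hb, fun h => C.y_not_cE hE ?_⟩
    have h' := mul_mem (inv_mem (C.mem_cE.2 hb)) (mem_subgroupOf.1 h)
    simpa using h'
  · refine Or.inl ⟨?_, fun h => C.y_not_cE hE (C.mem_cE.2 fun e he => ?_)⟩
    · rw [mem_subgroupOf]
      refine C.mem_cE.2 fun e he => ?_
      push_cast
      rw [show (b : G) * C.d.y * e * ((b : G) * C.d.y)⁻¹ =
        (b : G) * (C.d.y * e * C.d.y⁻¹) * (b : G)⁻¹ by group, C.y_inv (C.E_le he),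
        hb _ (inv_mem he), inv_inv]
    · exfalso
      refine hE ((eq_bot_iff_forall _).2 fun a ha => ?_)
      have h1 := C.mem_cE.1 (mem_subgroupOf.1 h) a ha
      rw [hb a ha] at h1
      exact eq_one_of_odd_sq (C.mem_O.1 (C.E_le ha)).2 (mul_eq_one_iff_eq_inv.2 h1.symm)

/-- A normal subgroup of `K` with an involution of `P` contains `z`. -/
theorem z_mem_of_invol {N : Subgroup C.K} [hN : N.Normal] {t : C.K}
    (htP : (t : G) ∈ (C.P : Subgroup G)) (ht : orderOf t = 2) (htN : t ∈ N) :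
    (⟨C.d.z, C.P_le_K C.d.z_mem⟩ : C.K) ∈ N := by
  have htt := invol_mul_self ht
  rcases C.d.cover _ htP with ⟨i, hi⟩ | ⟨i, hi⟩
  · have htt' : C.d.x ^ i * C.d.x ^ i = 1 := by rw [← hi, ← Subgroup.coe_mul, htt, Subgroup.coe_one]
    rw [← zpow_add, C.d.zpow_eq_one, ← two_mul] at htt'
    rcases C.d.zpow_of_half_dvd ((Int.mul_dvd_mul_iff_left two_ne_zero).1 htt') with h | h
    · exact absurd (Subtype.ext (hi.trans h)) (invol_ne_one ht)
    · rwa [show (⟨C.d.z, C.P_le_K C.d.z_mem⟩ : C.K) = t from Subtype.ext (hi.trans h).symm]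
  · have hx2 := mul_mem (hN.conj_mem _ htN ⟨C.d.x, C.x_mem_K⟩) htN
    have e : (((⟨C.d.x, C.x_mem_K⟩ : C.K) * t * (⟨C.d.x, C.x_mem_K⟩ : C.K)⁻¹ * t : C.K) : G) =
        C.d.x ^ (2 : ℤ) := by
      push_cast
      rw [show (t : G) = C.d.r i from hi]
      have h5 := C.d.conj_r 1 i
      rw [zpow_one] at h5
      rw [h5, C.d.r_mul_r]
      congr 1
      ring
    have := zpow_mem hx2 (2 ^ (C.d.n - 2) : ℤ)
    convert this using 1
    refine Subtype.ext ?_
    rw [SubgroupClass.coe_zpow, e, ← C.z_eq_sq_pow]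

theorem not_solvable_K {g : G} (hgK : g ∈ C.K) (hg : g * C.d.z * g⁻¹ = C.d.r 1) :
    ¬ Group.IsSolvable C.K := by
  intro hs
  haveI : Fact (Nat.Prime 2) := ⟨Nat.prime_two⟩
  set Om := Cfsg.oddCore C.K with hOm
  haveI hOn : Om.Normal := by rw [hOm]; unfold Cfsg.oddCore; infer_instance
  have hOodd : Odd (Nat.card Om) := Base.odd_card_oddCore _
  set π := QuotientGroup.mk' Om with hπ
  have hπs : Function.Surjective π := QuotientGroup.mk'_surjective Om
  have hinj : ∀ t : C.K, (t : G) ∈ (C.P : Subgroup G) → π t = 1 → t = 1 := fun t ht h =>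
    Subtype.ext (eq_one_of_odd_of_two C.P.isPGroup' ht (by
      rw [Subgroup.orderOf_coe]
      exact odd_orderOf_of_mem hOodd ((QuotientGroup.eq_one_iff t).1 h)))
  let zK : C.K := ⟨C.d.z, C.P_le_K C.d.z_mem⟩
  have hz1 : π zK ≠ 1 := fun h =>
    invol_ne_one C.d.orderOf_z (congrArg Subtype.val (hinj zK C.d.z_mem h))
  haveI : Nontrivial (C.K ⧸ Om) := ⟨⟨_, _, hz1⟩⟩
  obtain ⟨p, hp, hne⟩ := Base.exists_prime_pCore_ne_bot (G := C.K ⧸ Om)
  haveI := Fact.mk hp
  haveI hNn : (Cfsg.pCore p (C.K ⧸ Om)).Normal := Cfsg.pCore_normal p _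
  set N := Cfsg.pCore p (C.K ⧸ Om)
  have hNp : IsPGroup p N := Base.isPGroup_pCore p (C.K ⧸ Om)
  have hp2 : p = 2 := by
    by_contra hp2
    obtain ⟨j, hj⟩ := IsPGroup.iff_card.1 hNp
    have hNodd : Odd (Nat.card N) := hj ▸ (hp.odd_of_ne_two hp2).pow
    haveI : (N.comap π).Normal := hNn.comap π
    have hle : N.comap π ≤ Om := by
      refine Base.le_oddCore ?_
      have h1 : (N.comap π).index = N.index := N.index_comap_of_surjective hπs
      have h2 : Nat.card (N.comap π) = Nat.card N * Nat.card Om := by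
        refine Nat.eq_of_mul_eq_mul_right (Nat.pos_of_ne_zero N.index_ne_zero_of_finite) ?_
        rw [← h1, (N.comap π).card_mul_index, Subgroup.card_eq_card_quotient_mul_card_subgroup Om,
          ← N.card_mul_index, h1]
        ring
      rw [h2]; exact hNodd.mul hOodd
    refine hne ((eq_bot_iff_forall _).2 fun a ha => ?_)
    obtain ⟨v, rfl⟩ := hπs a
    exact (QuotientGroup.eq_one_iff v).2 (hle ha)
  subst hp2
  -- `N` lies in the image of `P`
  set S := (C.P.subtype C.P_le_K).mapSurjective hπs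
  have hNS : N ≤ (S : Subgroup (C.K ⧸ Om)) := by
    have h := S.is_maximal' (hNp.to_sup_of_normal_left S.isPGroup') le_sup_right
    exact sup_eq_right.1 h
  have hlift : ∀ a ∈ N, ∃ t : C.K, (t : G) ∈ (C.P : Subgroup G) ∧ π t = a := fun a ha => by
    have h := hNS ha
    rw [Sylow.coe_mapSurjective] at h
    obtain ⟨t, ht, e⟩ := h
    exact ⟨t, ht, e⟩
  obtain ⟨⟨w, hwN⟩, hw⟩ := exists_prime_orderOf_dvd_card' (G := N) 2 (by
    obtain ⟨j, hj⟩ := IsPGroup.iff_card.1 hNp
    rw [hj]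
    exact dvd_pow_self 2 fun h0 => hne (Subgroup.eq_bot_of_card_eq N (by rw [hj, h0, pow_zero])))
  rw [Subgroup.orderOf_mk] at hw
  obtain ⟨t, htP, rfl⟩ := hlift w hwN
  have hto : orderOf t = 2 := by
    refine orderOf_eq_prime (hinj _ ?_ ?_) (fun e => ?_)
    · rw [SubmonoidClass.coe_pow]; exact pow_mem htP 2
    · rw [map_pow, ← hw, pow_orderOf_eq_one]
    · rw [e, map_one, orderOf_one] at hw; omega
  haveI : (N.comap π).Normal := hNn.comap π
  have hz : zK ∈ N.comap π := C.z_mem_of_invol (N := N.comap π) htP hto hwN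
  have hr : (⟨C.d.r 1, C.P_le_K (C.d.r_mem 1)⟩ : C.K) ∈ N.comap π := by
    have := (‹(N.comap π).Normal›).conj_mem _ hz ⟨g, hgK⟩
    convert this using 1
    exact Subtype.ext hg.symm
  let xK : C.K := ⟨C.d.x, C.x_mem_K⟩
  let rK : C.K := ⟨C.d.r 1, C.P_le_K (C.d.r_mem 1)⟩
  let gK : C.K := ⟨g, hgK⟩
  set q := xK * rK * xK⁻¹ * rK with hq
  have hqN : q ∈ N.comap π := mul_mem ((‹(N.comap π).Normal›).conj_mem _ hr xK) hr
  -- `π z` is central in `N`, hence so is its conjugate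
  have hcent : ∀ a ∈ N, Commute (π zK) a := fun a ha => by
    obtain ⟨v, hv, rfl⟩ := hlift a ha
    exact ((show Commute zK v from Subtype.ext (C.d.commute_z hv).eq)).map π
  have h1 : Commute (π rK) (π q) := by
    have h := (hcent _ (hNn.conj_mem _ hqN (π gK)⁻¹)).map (MulAut.conj (π gK)).toMonoidHom
    simp only [MulEquiv.coe_toMonoidHom, MulAut.conj_apply, inv_inv] at h
    rw [show π gK * ((π gK)⁻¹ * π q * π gK) * (π gK)⁻¹ = π q by group, ← map_inv, ← map_mul,
      ← map_mul] at h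
    rwa [show gK * zK * gK⁻¹ = rK from Subtype.ext hg] at h
  have h2 : rK * q * rK⁻¹ * q⁻¹ = 1 := by
    refine hinj _ ?_ ?_
    · have hxP := C.d.x_mem
      have hrP := C.d.r_mem 1
      simp only [hq, xK, rK, Subgroup.coe_mul, InvMemClass.coe_inv]
      have hq' := mul_mem (mul_mem (mul_mem hxP hrP) (inv_mem hxP)) hrP
      exact mul_mem (mul_mem (mul_mem hrP hq') (inv_mem hrP)) (inv_mem hq')
    · rw [map_mul, map_mul, map_mul, map_inv, map_inv, h1.eq, mul_inv_cancel_right, mul_inv_cancel]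
  have hq2 : (q : G) = C.d.x ^ (2 : ℤ) := by
    simp only [hq, xK, rK, Subgroup.coe_mul, InvMemClass.coe_inv]
    have h5 := C.d.conj_r 1 1
    rw [zpow_one] at h5
    rw [h5, C.d.r_mul_r]
    norm_num
  have h3 : Commute (C.d.x ^ (2 : ℤ)) (C.d.r 1) := by
    have h := congrArg Subtype.val (mul_inv_eq_iff_eq_mul.1 (mul_inv_eq_one.1 h2))
    rw [Subgroup.coe_mul C.K rK q, Subgroup.coe_mul C.K q rK, hq2] at h
    exact h.symm
  have h4 := Int.le_of_dvd two_pos (C.d.commute_zpow_r h3)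
  have h5 : (2 : ℤ) ^ 2 ≤ C.d.half := pow_le_pow_right₀ (by norm_num) (by have := C.three; omega)
  omega

/-- Fixed-point numbers of conjugate elements on a normalised subgroup. -/
theorem card_fix_conj {M : Subgroup G} {k v w : G} (hM : k ∈ normalizer (M : Set G))
    (h : k * v * k⁻¹ = w) :
    Nat.card (M ⊓ centralizer ({v} : Set G) : Subgroup G) =
      Nat.card (M ⊓ centralizer ({w} : Set G) : Subgroup G) := by
  have e : (M ⊓ centralizer ({v} : Set G)).map (MulAut.conj k).toMonoidHom =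
      M ⊓ centralizer ({w} : Set G) := by
    refine SetLike.ext fun a => ?_
    constructor
    · rintro ⟨b, ⟨hb, hbv⟩, rfl⟩
      refine ⟨(mem_normalizer_iff.1 hM b).1 hb, mem_centralizer_singleton_iff.2 ?_⟩
      rw [← h]
      exact ((show Commute b v from mem_centralizer_singleton_iff.1 hbv).map
        (MulAut.conj k).toMonoidHom).eq
    · rintro ⟨ha, haw⟩
      refine ⟨k⁻¹ * a * k, ⟨(mem_normalizer_iff.1 hM _).2 ?_, mem_centralizer_singleton_iff.2 ?_⟩, ?_⟩
      · simpa [mul_assoc] using ha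
      · have h2 := (show Commute a w from mem_centralizer_singleton_iff.1 haw).map
          (MulAut.conj k⁻¹).toMonoidHom
        simp only [MulEquiv.coe_toMonoidHom, MulAut.conj_apply, inv_inv] at h2
        rw [← h, show k⁻¹ * (k * v * k⁻¹) * k = v by group] at h2
        exact h2.eq
      · show k * (k⁻¹ * a * k) * k⁻¹ = a
        group
  rw [← e]
  exact Nat.card_congr ((M ⊓ centralizer ({v} : Set G)).equivMapOfInjective _
    (MulAut.conj k).injective).toEquiv

theorem odd_fix_arith {cz cy e M : ℕ} (h1 : M * 1 ^ 2 = cz * cy * cy)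
    (h2 : M * e ^ 2 = cz * cz * cz) (hz : 0 < cz) : cy * e = cz := by
  have h : cz * ((cy * e) * (cy * e)) = cz * (cz * cz) := by
    rw [one_pow, mul_one] at h1
    calc cz * ((cy * e) * (cy * e)) = (cz * cy * cy) * e ^ 2 := by ring
      _ = _ := by rw [← h1, h2]; ring
  exact Nat.mul_self_inj.1 (Nat.eq_of_mul_eq_mul_left hz h)

theorem card_ker_mul_range {A : Type*} {B : Type*} [Group A] [Group B] (f : A →* B) :
    Nat.card A = Nat.card f.ker * Nat.card f.range := by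
  rw [Subgroup.card_eq_card_quotient_mul_card_subgroup f.ker,
    Nat.card_congr (QuotientGroup.quotientKerEquivRange f).toEquiv, mul_comm]

/-- With `E ≠ 1`, a nontrivial element of the conjugate of `E` in `C(u)` centralises `E`. -/
theorem exists_witness (hE : C.E ≠ ⊥) {h : G} (hh : h * C.d.z * h⁻¹ = C.d.y) :
    ∃ a : G, a ≠ 1 ∧ h⁻¹ * a * h ∈ C.E ∧ ∀ b ∈ C.E, Commute a b := by
  classical
  by_contra hcon
  push Not at hcon
  obtain ⟨g, hg1, hg2, hgE⟩ := C.exists_fuse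
  have hgL : g ∈ centralizer (C.E : Set G) :=
    mem_centralizer_iff.2 fun e he => (hgE e he).eq.symm
  have hgK : g ∈ C.K := C.cE_le_K hgL
  obtain ⟨M, hMn, hModd, hEM, F, iF, iFt, hq3, hiso⟩ := C.classify_quot C.K C.cz_le_K
    (fun k hk e he => C.K_conj_E hk he) hgK hg1 (C.not_solvable_K hgK hg1)
  haveI := hMn
  rw [← Nat.card_eq_fintype_card] at hq3
  set L := (centralizer (C.E : Set G)).subgroupOf C.K with hL
  have hL2 : L.index = 2 := C.index_cE hE
  have hoddL : ∀ v : C.K, Odd (orderOf v) → v ∈ L := fun v hv => by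
    haveI := Subgroup.normal_of_index_eq_two hL2
    have h1 : v ^ 2 ∈ L := by have := L.pow_index_mem v; rwa [hL2] at this
    obtain ⟨j, hj⟩ := hv
    have h2 : v ^ (2 * (j + 1)) ∈ L := by rw [pow_mul]; exact pow_mem h1 _
    rwa [show 2 * (j + 1) = (2 * j + 1) + 1 by ring, pow_succ, ← hj, pow_orderOf_eq_one,
      one_mul] at h2
  have hML : M ≤ L := fun v hv => hoddL v (odd_orderOf_of_mem hModd hv)
  set L' := L.map (QuotientGroup.mk' M) with hL'
  have hL'2 : L'.index = 2 := by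
    rw [hL', Subgroup.index_map_eq _ (QuotientGroup.mk'_surjective M)
      (by rwa [QuotientGroup.ker_mk']), hL2]
  -- the quotient is `PGL(2,q)` with `q` odd
  rcases hiso with ⟨⟨f⟩⟩ | ⟨⟨f⟩⟩
  · haveI := Matrix.ProjectiveSpecialLinearGroup.rank_two_simple (F := F) (by omega)
    have h2 : (L'.map f.toMonoidHom).index = 2 := (Subgroup.index_map_equiv L' f).trans hL'2
    rcases (Subgroup.normal_of_index_eq_two h2).eq_bot_or_eq_top with e | e
    · rw [e, Subgroup.index_bot] at h2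
      have h5 := five_le_card_pslRange (F := F) hq3
      rw [show Nat.card (PSL2.pslRange F) = Nat.card (Matrix.ProjectiveSpecialLinearGroup (Fin 2) F)
        from (Nat.card_congr (MonoidHom.ofInjective
          (f := Matrix.ProjectiveSpecialLinearGroup.toPGL (n := Fin 2) (R := F))
          Matrix.ProjectiveSpecialLinearGroup.toPGL_injective).toEquiv).symm, h2] at h5
      omega
    · rw [e, Subgroup.index_top] at h2; omega
  have h2 : (L'.map f.toMonoidHom).index = 2 := (Subgroup.index_map_equiv L' f).trans hL'2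
  rcases Nat.even_or_odd (Nat.card F) with hev | hodd
  · exact index_two_false_of_even hq3 hev _ h2
  have hpsl := eq_pslRange_of_index_two hq3 h2
  set ρ : C.K →* Matrix.ProjGenLinGroup (Fin 2) F := f.toMonoidHom.comp (QuotientGroup.mk' M) with hρ
  have hρs : Function.Surjective ρ := f.surjective.comp (QuotientGroup.mk'_surjective M)
  have hρk : ∀ v : C.K, ρ v = 1 ↔ v ∈ M := fun v => by
    show f (QuotientGroup.mk' M v) = 1 ↔ _
    rw [map_eq_one_iff f f.injective]
    exact QuotientGroup.eq_one_iff v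
  have hρL : ∀ v : C.K, ρ v ∈ PSL2.pslRange F ↔ v ∈ L := by
    intro v
    rw [← hpsl]
    show f (QuotientGroup.mk' M v) ∈ L'.map f.toMonoidHom ↔ _
    constructor
    · rintro ⟨a, ⟨b, hb, rfl⟩, e⟩
      have h1 : b⁻¹ * v ∈ M := QuotientGroup.eq.1 (f.injective e)
      have := mul_mem hb (hML h1)
      rwa [mul_inv_cancel_left] at this
    · exact fun hv => ⟨_, ⟨v, hv, rfl⟩, rfl⟩
  obtain ⟨k, hk, hk1, ⟨w, x₀, hwo, hwout, hxo, hxw⟩, hcop⟩ := exists_outer hodd hq3
  let yK : C.K := ⟨C.d.y, C.y_mem_K⟩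
  let zK : C.K := ⟨C.d.z, C.P_le_K C.d.z_mem⟩
  have hyo : orderOf yK = 2 := by rw [← Subgroup.orderOf_coe]; exact C.d.orderOf_y
  -- the outer involution is a conjugate of the image of `y`
  obtain ⟨c, hc⟩ : ∃ c, c * w * c⁻¹ = ρ yK := by
    obtain ⟨v, rfl⟩ := hρs w
    have hv2 : v * v ∈ M := by rw [← hρk, map_mul]; exact invol_mul_self hwo
    obtain ⟨l, hl1, hl2⟩ := exists_sq_one_translate M hModd hv2
    set v' := v ^ (2 * l + 1) with hv'
    have hρv : ρ v' = ρ v := by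
      rw [hv', pow_succ, pow_mul, map_mul, (hρk _).2 hl2, one_mul]
    have hvo : orderOf v' = 2 := orderOf_eq_prime (by rw [sq]; exact hl1) (fun e => by
      rw [e, map_one] at hρv
      exact invol_ne_one hwo hρv.symm)
    obtain ⟨k', hk'⟩ := exists_conj_mem_sylow_one (C.P.subtype C.P_le_K) hvo
    have htP : ((k' * v' * k'⁻¹ : C.K) : G) ∈ (C.P : Subgroup G) := hk'
    have hto := conj_invol k' hvo
    have htL : k' * v' * k'⁻¹ ∉ L := fun h => hwout (by
      haveI := Subgroup.normal_of_index_eq_two hL2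
      have := ‹L.Normal›.conj_mem _ h k'⁻¹
      rw [inv_inv, show k'⁻¹ * (k' * v' * k'⁻¹) * k' = v' by group] at this
      rw [← hρv]
      exact (hρL _).2 this)
    rcases C.d.cover _ htP with ⟨i, hi⟩ | ⟨i, hi⟩
    · exfalso
      apply htL
      have htt' : C.d.x ^ i * C.d.x ^ i = 1 := by
        rw [← hi, ← Subgroup.coe_mul, invol_mul_self hto, Subgroup.coe_one]
      rw [← zpow_add, C.d.zpow_eq_one, ← two_mul] at htt'
      rw [hL, mem_subgroupOf, hi]
      rcases C.d.zpow_of_half_dvd ((Int.mul_dvd_mul_iff_left two_ne_zero).1 htt') with h | h <;> rw [h]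
      · exact one_mem _
      · exact C.z_mem_cE
    · rcases Int.even_or_odd i with ⟨j, hj⟩ | ho
      · let xK : C.K := ⟨C.d.x ^ (-j), C.P_le_K (zpow_mem C.d.x_mem _)⟩
        have e : xK * (k' * v' * k'⁻¹) * xK⁻¹ = yK := by
          refine Subtype.ext ?_
          rw [Subgroup.coe_mul, Subgroup.coe_mul, InvMemClass.coe_inv,
            show ((k' * v' * k'⁻¹ : C.K) : G) = C.d.r i from hi]
          show C.d.x ^ (-j) * C.d.r i * (C.d.x ^ (-j))⁻¹ = C.d.y
          rw [C.d.conj_r, show i + 2 * -j = 0 by omega, C.r_zero]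
        refine ⟨ρ (xK * k'), ?_⟩
        rw [← hρv, ← map_inv, ← map_mul, ← map_mul, ← e]
        congr 1
        group
      · exfalso
        apply htL
        rw [hL, mem_subgroupOf, hi]
        exact C.r_odd_cE ho
  set x₁ := c * x₀ * c⁻¹ with hx₁
  have hx₁o : orderOf x₁ = k := by rw [hx₁, orderOf_conj_eq, hxo]
  have hx₁y : Commute x₁ (ρ yK) := by
    rw [← hc]
    exact hxw.map (MulAut.conj c).toMonoidHom
  -- lift it into `C(y)` with odd order
  obtain ⟨v₂, hv₂o, hv₂c, hv₂k⟩ :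
      ∃ v : C.K, Odd (orderOf v) ∧ Commute v yK ∧ orderOf (ρ v) = k := by
    obtain ⟨v, hv⟩ := hρs x₁
    have h1 : v * yK * v⁻¹ * yK⁻¹ ∈ M := by
      rw [← hρk, map_mul, map_mul, map_mul, map_inv, map_inv, hv, hx₁y.eq, mul_inv_cancel_right,
        mul_inv_cancel]
    obtain ⟨o, hoM, hoc⟩ := exists_commuting_translate M hModd hyo h1
    have h3 : ρ (o⁻¹ * v) = x₁ := by rw [map_mul, map_inv, (hρk o).2 hoM, inv_one, one_mul, hv]
    obtain ⟨j, m, hm2, hjm⟩ :=
      Nat.exists_eq_pow_mul_and_not_dvd (orderOf_pos (o⁻¹ * v)).ne' 2 (by norm_num)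
    refine ⟨(o⁻¹ * v) ^ 2 ^ j, ?_, hoc.pow_left _, ?_⟩
    · refine Odd.of_dvd_nat (Nat.odd_iff.2 (Nat.two_dvd_ne_zero.1 hm2))
        (orderOf_dvd_of_pow_eq_one ?_)
      rw [← pow_mul, ← hjm, pow_orderOf_eq_one]
    · rw [map_pow, h3, Nat.Coprime.orderOf_pow, hx₁o]
      rw [hx₁o]
      exact (Nat.coprime_two_right.2 hk).pow_right j
  set MG := M.map C.K.subtype with hMG
  have hMGmem : ∀ {v : C.K}, (v : G) ∈ MG ↔ v ∈ M := fun {v} => by
    rw [hMG, mem_map]
    exact ⟨fun ⟨b, hb, e⟩ => (Subtype.ext e : b = v) ▸ hb, fun hv => ⟨v, hv, rfl⟩⟩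
  have hMGK : MG ≤ C.K := map_subtype_le M
  have hMGodd : Odd (Nat.card MG) := by
    rw [hMG, Nat.card_congr (M.equivMapOfInjective _ (subtype_injective _)).symm.toEquiv]
    exact hModd
  have hMnorm : C.K ≤ normalizer (MG : Set G) := fun a ha => by
    rw [mem_normalizer_iff]
    intro b
    refine ⟨?_, fun hb => ?_⟩
    · rintro ⟨v, hv, rfl⟩
      exact ⟨⟨a, ha⟩ * v * ⟨a, ha⟩⁻¹, hMn.conj_mem _ hv _, rfl⟩
    · obtain ⟨v, hv, e⟩ := hb
      refine ⟨⟨a, ha⟩⁻¹ * v * ⟨a, ha⟩, ?_, ?_⟩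
      · simpa using hMn.conj_mem _ hv (⟨a, ha⟩⁻¹ : C.K)
      · change (a⁻¹ * (v : G) * a) = b
        rw [show (v : G) = a * b * a⁻¹ from e]; group
  have hEMG : C.E ≤ MG := fun e he =>
    hMGmem.2 (hEM ⟨e, C.cz_le_K (C.O_le_cz (C.E_le he))⟩ he)
  set cz := Nat.card (MG ⊓ centralizer ({C.d.z} : Set G) : Subgroup G) with hcz
  set cy := Nat.card (MG ⊓ centralizer ({C.d.y} : Set G) : Subgroup G) with hcy
  have hsK : C.s ∈ C.K := C.P_le_K C.s_mem
  have hczy : Nat.card (MG ⊓ centralizer ({C.d.z * C.d.y} : Set G) : Subgroup G) = cy :=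
    card_fix_conj (hMnorm hsK) (by have := C.s_conj_mul 0; rwa [C.r_zero] at this)
  have hcr : Nat.card (MG ⊓ centralizer ({C.d.r 1} : Set G) : Subgroup G) = cz :=
    (card_fix_conj (hMnorm hgK) hg1).symm
  have hczr : Nat.card (MG ⊓ centralizer ({C.d.z * C.d.r 1} : Set G) : Subgroup G) = cz :=
    (card_fix_conj (hMnorm hsK) (C.s_conj_mul 1)).trans hcr
  have hnz : ∀ a ∈ C.K, ∀ v ∈ MG, a * v * a⁻¹ ∈ MG := fun a ha v hv =>
    (mem_normalizer_iff.1 (hMnorm ha) v).1 hv
  have hzy : (MG ⊓ centralizer ({C.d.z, C.d.y} : Set G) : Subgroup G) = ⊥ := by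
    refine (eq_bot_iff_forall _).2 fun v hv => ?_
    have hzv : C.d.z * v = v * C.d.z := mem_centralizer_iff.1 hv.2 _ (by simp)
    have hyv : C.d.y * v = v * C.d.y := mem_centralizer_iff.1 hv.2 _ (by simp)
    have hvV : v ∈ V := by
      rw [← C.cent, mem_centralizer_iff]
      intro a ha
      rcases C.mem_V.1 ha with rfl | rfl | rfl | rfl
      · rw [one_mul, mul_one]
      · exact hzv
      · exact hyv
      · exact (show Commute (C.d.z * C.d.y) v from Commute.mul_left hzv hyv).eq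
    exact eq_one_of_odd_of_two C.isPGroup_V hvV (odd_orderOf_of_mem hMGodd hv.1)
  have hzr : (MG ⊓ centralizer ({C.d.z, C.d.r 1} : Set G) : Subgroup G) = C.E := by
    refine Subgroup.ext fun v => ⟨fun hv => ?_, fun he => ⟨hEMG he, ?_⟩⟩
    · have hzv : C.d.z * v = v * C.d.z := mem_centralizer_iff.1 hv.2 _ (by simp)
      have hrv : C.d.r 1 * v = v * C.d.r 1 := mem_centralizer_iff.1 hv.2 _ (by simp)
      exact C.mem_E.2 ⟨C.mem_O.2 ⟨hzv, odd_orderOf_of_mem hMGodd hv.1⟩, hrv⟩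
    · show v ∈ centralizer ({C.d.z, C.d.r 1} : Set G)
      rw [mem_centralizer_iff]
      rintro a (rfl | rfl)
      · exact (C.mem_O.1 (C.E_le he)).1.eq
      · exact (C.mem_E.1 he).2.eq
  have f1 := CentFour.four_formula_subgroup MG hMGodd (invol_mul_self C.d.orderOf_z)
    (invol_mul_self C.d.orderOf_y) C.comm_zy (hnz _ (C.P_le_K C.d.z_mem)) (hnz _ C.y_mem_K)
  rw [hzy, Subgroup.card_bot, hczy] at f1
  have f2 := CentFour.four_formula_subgroup MG hMGodd (invol_mul_self C.d.orderOf_z)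
    (invol_mul_self (C.d.orderOf_r 1)) (C.d.commute_z (C.d.r_mem 1))
    (hnz _ (C.P_le_K C.d.z_mem)) (hnz _ (C.P_le_K (C.d.r_mem 1)))
  rw [hzr, hcr, hczr] at f2
  have hkey : cy * Nat.card C.E = cz := odd_fix_arith f1 f2 (hcz ▸ Nat.card_pos)
  -- images of `O` and of the odd part of `C_L(y)`
  let ψO : C.O →* Matrix.ProjGenLinGroup (Fin 2) F :=
    ρ.comp (inclusion (C.O_le_cz.trans C.cz_le_K))
  have hkerO : Nat.card ψO.ker = cz := by
    rw [hcz, ← Nat.card_congr (ψO.ker.equivMapOfInjective _ (subtype_injective _)).symm.toEquiv]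
    refine congrArg (fun S : Subgroup G => Nat.card S) (Subgroup.ext fun v => ⟨?_, fun hv => ?_⟩)
    · rintro ⟨⟨b, hb⟩, hb', rfl⟩
      exact ⟨hMGmem.2 ((hρk _).1 hb'), C.O_le_cz hb⟩
    · have hvO : v ∈ C.O := C.mem_O.2 ⟨C.mem_cz.1 hv.2, odd_orderOf_of_mem hMGodd hv.1⟩
      exact ⟨⟨v, hvO⟩, (hρk _).2 (hMGmem.1 hv.1), rfl⟩
  have hrangeO : Nat.Coprime k (Nat.card ψO.range) := by
    have hzL : zK ∈ L := mem_subgroupOf.2 C.z_mem_cE
    have hzo : orderOf (ρ zK) = 2 := by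
      haveI : Fact (Nat.Prime 2) := ⟨Nat.prime_two⟩
      have h1 : orderOf zK = 2 := by rw [← Subgroup.orderOf_coe]; exact C.d.orderOf_z
      refine orderOf_eq_prime (by rw [← map_pow, orderOf_dvd_iff_pow_eq_one.1 h1.dvd, map_one]) fun e => ?_
      have h2 := odd_orderOf_of_mem hModd ((hρk _).1 e)
      rw [h1] at h2
      exact (Nat.not_even_iff_odd.2 h2) even_two
    refine Nat.Coprime.coprime_dvd_right (card_dvd_of_le ?_) (hcop _ ((hρL _).2 hzL) hzo)
    rintro _ ⟨o, rfl⟩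
    rw [mem_centralizer_singleton_iff]
    refine (Commute.map ?_ ρ).eq
    exact Subtype.ext (C.mem_cz.1 (C.O_le_cz o.2)).eq.symm
  set Ou := C.O.map (MulAut.conj h).toMonoidHom with hOu
  set Eu := C.E.map (MulAut.conj h).toMonoidHom with hEu
  set Pu := Ou ⊓ centralizer (C.E : Set G) with hPu
  have hOumem : ∀ v, v ∈ Ou ↔ Commute C.d.y v ∧ Odd (orderOf v) := by
    intro v
    rw [hOu, mem_map]
    constructor
    · rintro ⟨o, ho, rfl⟩
      obtain ⟨hc, hd⟩ := C.mem_O.1 ho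
      refine ⟨?_, ?_⟩
      · rw [← hh]; exact hc.map (MulAut.conj h).toMonoidHom
      · show Odd (orderOf (h * o * h⁻¹))
        rwa [orderOf_conj_eq]
    · rintro ⟨hc, hd⟩
      refine ⟨h⁻¹ * v * h, C.mem_O.2 ⟨?_, ?_⟩, ?_⟩
      · have h2 := hc.map (MulAut.conj h⁻¹).toMonoidHom
        simp only [MulEquiv.coe_toMonoidHom, MulAut.conj_apply, inv_inv] at h2
        rwa [← hh, show h⁻¹ * (h * C.d.z * h⁻¹) * h = C.d.z by group] at h2
      · have := orderOf_conj_eq h⁻¹ v
        rw [inv_inv] at this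
        rwa [this]
      · show h * (h⁻¹ * v * h) * h⁻¹ = v
        group
  let ψ : Pu →* Matrix.ProjGenLinGroup (Fin 2) F :=
    ρ.comp (inclusion ((inf_le_right : Pu ≤ centralizer (C.E : Set G)).trans C.cE_le_K))
  have hkerP : Nat.card ψ.ker = cy := by
    rw [hcy, ← Nat.card_congr (ψ.ker.equivMapOfInjective _ (subtype_injective _)).symm.toEquiv]
    refine congrArg (fun S : Subgroup G => Nat.card S) (Subgroup.ext fun v => ⟨?_, fun hv => ?_⟩)
    · rintro ⟨⟨b, hb⟩, hb', rfl⟩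
      exact ⟨hMGmem.2 ((hρk _).1 hb'),
        mem_centralizer_singleton_iff.2 ((hOumem b).1 hb.1).1.eq.symm⟩
    · have hvK : v ∈ C.K := hMGK hv.1
      have hvL : (⟨v, hvK⟩ : C.K) ∈ L := hML (hMGmem.1 hv.1)
      have hvP : v ∈ Pu := ⟨(hOumem v).2 ⟨(mem_centralizer_singleton_iff.1 hv.2).symm,
        odd_orderOf_of_mem hMGodd hv.1⟩, mem_subgroupOf.1 hvL⟩
      exact ⟨⟨v, hvP⟩, (hρk ⟨v, hvK⟩).2 (hMGmem.1 hv.1), rfl⟩
  have hkP : k ∣ Nat.card ψ.range := by
    have hvP : (v₂ : G) ∈ Pu :=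
      ⟨(hOumem _).2 ⟨(congrArg Subtype.val hv₂c.eq).symm, by rw [Subgroup.orderOf_coe]; exact hv₂o⟩,
        mem_subgroupOf.1 (hoddL _ hv₂o)⟩
    rw [← hv₂k]
    exact Subgroup.orderOf_dvd_natCard _ ⟨⟨(v₂ : G), hvP⟩, rfl⟩
  -- `Pu` meets the conjugate of `E` trivially
  have hdisj : ∀ v ∈ Pu, v ∈ Eu → v = 1 := by
    rintro v hv ⟨e, he, rfl⟩
    by_contra hne
    obtain ⟨b, hb, hnc⟩ := hcon _ hne (by
      show h⁻¹ * (h * e * h⁻¹) * h ∈ C.E
      rwa [show h⁻¹ * (h * e * h⁻¹) * h = e by group])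
    exact hnc (show Commute _ _ from (mem_centralizer_iff.1 hv.2 b hb).symm)
  have hOuc : ∀ a ∈ Ou, ∀ b ∈ Ou, Commute a b := by
    rintro _ ⟨a, ha, rfl⟩ _ ⟨b, hb, rfl⟩
    exact (C.O_comm ha hb).map _
  have hEuO : Eu ≤ Ou := map_mono C.E_le
  let μ : Pu × Eu →* Ou := MonoidHom.mk'
    (fun p => ⟨(p.1 : G) * p.2, mul_mem (inf_le_left (a := Ou) p.1.2) (hEuO p.2.2)⟩)
    (fun p q => Subtype.ext (by
      show (p.1 : G) * q.1 * ((p.2 : G) * q.2) = (p.1 : G) * p.2 * ((q.1 : G) * q.2)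
      rw [mul_assoc, ← mul_assoc (q.1 : G), (hOuc _ (inf_le_left (a := Ou) q.1.2) _ (hEuO p.2.2)).eq]
      group))
  have hμ : Function.Injective μ := by
    rw [injective_iff_map_eq_one]
    rintro ⟨⟨a, ha⟩, ⟨b, hb⟩⟩ e
    have e1 : a * b = 1 := congrArg Subtype.val e
    have ha1 : a = 1 := hdisj a ha (by rw [eq_inv_of_mul_eq_one_left e1]; exact inv_mem hb)
    subst ha1
    rw [one_mul] at e1
    subst e1
    rfl
  have hdvd := card_dvd_of_le (le_top : μ.range ≤ ⊤)
  rw [Subgroup.card_top, ← Nat.card_congr (MonoidHom.ofInjective hμ).toEquiv, Nat.card_prod,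
    card_ker_mul_range ψ, hkerP] at hdvd
  have hcard : Nat.card Ou = Nat.card C.O :=
    Nat.card_congr (C.O.equivMapOfInjective _ (MulAut.conj h).injective).symm.toEquiv
  have hcardE : Nat.card Eu = Nat.card C.E :=
    Nat.card_congr (C.E.equivMapOfInjective _ (MulAut.conj h).injective).symm.toEquiv
  rw [hcard, hcardE, card_ker_mul_range ψO, hkerO, ← hkey,
    show cy * Nat.card ψ.range * Nat.card C.E = (cy * Nat.card C.E) * Nat.card ψ.range by ring]
    at hdvd
  have hpos : 0 < cy * Nat.card C.E := hkey ▸ hcz ▸ Nat.card_pos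
  have hki := hkP.trans (Nat.dvd_of_mul_dvd_mul_left hpos hdvd)
  have h1 : k = 1 := Nat.Coprime.eq_one_of_dvd hrangeO hki
  omega

end CfsgLib.Subdeg3.Cfg
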