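import Cfsg.Agent.Lib.Subdeg3.DihedralBasic
import Cfsg.Agent.Lib.DGroup.Main

/-!
# S3686: the D-group centraliser modulo `E`

A subgroup `K` containing `C(z)` and an element fusing `z` with `x u`, in which `E` is normal,
is `PSL(2,q)` or `PGL(2,q)` over a normal subgroup of odd order containing `E`.
-/

set_option autoImplicit false
set_option linter.style.haveILetI false
set_option linter.unusedSectionVars false

namespace CfsgLib.Subdeg3.Cfg

open Subgroup CfsgLib.Involutions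

universe u

variable {G : Type u} [Group G] [Finite G] {V : Subgroup G} (C : Cfg G V)

theorem mem_AT {a : G} (ha : a ∈ C.O ⊔ zpowers C.d.x) : ∃ o ∈ C.O, ∃ i : ℤ, a = o * C.d.x ^ i := by
  have hn : zpowers C.d.x ≤ normalizer (C.O : Set G) := by
    rw [zpowers_le, mem_normalizer_iff]
    intro b
    refine ⟨fun hb => C.P_conj_O C.d.x_mem hb, fun hb => ?_⟩
    have := C.P_conj_O (inv_mem C.d.x_mem) hb
    simpa [mul_assoc] using this
  rw [← SetLike.mem_coe, coe_mul_of_right_le_normalizer_left _ _ hn] at ha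
  obtain ⟨o, ho, b, hb, rfl⟩ := ha
  obtain ⟨i, rfl⟩ := mem_zpowers_iff.1 hb
  exact ⟨o, ho, i, rfl⟩

theorem z_eq_sq_pow : C.d.z = (C.d.x ^ (2 : ℤ)) ^ (2 ^ (C.d.n - 2) : ℤ) := by
  rw [← zpow_mul, DP.z, DP.half]
  congr 1
  rw [show C.d.n - 1 = (C.d.n - 2) + 1 by have := C.three; omega, pow_succ, mul_comm]

theorem classify_quot (K : Subgroup G) (hK : centralizer ({C.d.z} : Set G) ≤ K)
    (hEK : ∀ k ∈ K, ∀ e ∈ C.E, k * e * k⁻¹ ∈ C.E)
    {g : G} (hgK : g ∈ K) (hg : g * C.d.z * g⁻¹ = C.d.r 1) (hns : ¬ Group.IsSolvable K) :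
    ∃ (M : Subgroup K) (_ : M.Normal), Odd (Nat.card M) ∧ (∀ x : K, (x : G) ∈ C.E → x ∈ M) ∧
      ∃ (F : Type) (_ : Field F) (_ : Fintype F), 3 < Fintype.card F ∧
        (Nonempty (K ⧸ M ≃* Matrix.ProjectiveSpecialLinearGroup (Fin 2) F) ∨
          Nonempty (K ⧸ M ≃* Matrix.ProjGenLinGroup (Fin 2) F)) := by
  classical
  have hPK : (C.P : Subgroup G) ≤ K := C.P_le_cz.trans hK
  have hOK : C.O ≤ K := C.O_le_cz.trans hK
  have hEK' : C.E ≤ K := C.E_le.trans hOK
  set E' := C.E.subgroupOf K with hE'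
  haveI hE'n : E'.Normal := ⟨fun n hn k => by
    rw [hE', mem_subgroupOf] at hn ⊢
    exact hEK k k.2 n hn⟩
  have hE'odd : Odd (Nat.card E') := by
    rw [hE', Nat.card_congr (subgroupOfEquivOfLe hEK').toEquiv]
    exact C.odd_E
  set π := QuotientGroup.mk' E' with hπ
  have hπs : Function.Surjective π := QuotientGroup.mk'_surjective E'
  have hker : ∀ v : K, π v = 1 ↔ (v : G) ∈ C.E := fun v =>
    (QuotientGroup.eq_one_iff v).trans mem_subgroupOf
  have hPE : ∀ v : G, v ∈ (C.P : Subgroup G) → v ∈ C.E → v = 1 := fun v hv hE =>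
    C.disjoint (C.E_le hE) hv
  -- commutators
  have hcomm : ∀ a b : K, Commute (π a) (π b) ↔ (a : G) * b * (a : G)⁻¹ * (b : G)⁻¹ ∈ C.E := by
    intro a b
    have h := hker (a * b * a⁻¹ * b⁻¹)
    push_cast at h
    rw [← h, map_mul, map_mul, map_mul, map_inv, map_inv, mul_inv_eq_one, mul_inv_eq_iff_eq_mul]
    exact Iff.rfl
  let zK : K := ⟨C.d.z, hPK C.d.z_mem⟩
  have hcent : ∀ y : K, Commute (π zK) (π y) → Commute C.d.z (y : G) := by
    intro y hy
    have h := (hcomm y zK).1 hy.symm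
    change (y : G) * C.d.z * (y : G)⁻¹ * C.d.z⁻¹ ∈ C.E at h
    obtain ⟨hez, heo⟩ := C.mem_O.1 (C.E_le h)
    set e := (y : G) * C.d.z * (y : G)⁻¹ * C.d.z⁻¹ with he
    have h1 : e * C.d.z = (y : G) * C.d.z * (y : G)⁻¹ := by rw [he]; group
    have h2 : e * C.d.z * (e * C.d.z) = 1 := by
      rw [h1]
      exact invol_mul_self (conj_invol _ C.d.orderOf_z)
    rw [show e * C.d.z * (e * C.d.z) = e * (C.d.z * e) * C.d.z by group, hez.eq,
      show e * (e * C.d.z) * C.d.z = e * e * (C.d.z * C.d.z) by group,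
      invol_mul_self C.d.orderOf_z, mul_one] at h2
    have h3 := eq_one_of_odd_sq heo h2
    rw [h3, one_mul] at h1
    exact ((mul_inv_eq_iff_eq_mul.1 h1.symm).symm)
  set Hb := ((centralizer ({C.d.z} : Set G)).subgroupOf K).map π with hHb
  set A := ((C.O ⊔ zpowers C.d.x).subgroupOf K).map π with hA
  have hATcz : C.O ⊔ zpowers C.d.x ≤ centralizer ({C.d.z} : Set G) :=
    sup_le C.O_le_cz (zpowers_le.2 (C.P_le_cz C.d.x_mem))
  have hAle : A ≤ Hb := map_mono fun a ha => hATcz ha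
  have hyA : π ⟨C.d.y, hPK C.d.y_mem⟩ ∉ A := by
    rintro ⟨a, ha, e⟩
    have hmem : (a : G)⁻¹ * C.d.y ∈ C.E := by
      have h := (hker (a⁻¹ * ⟨C.d.y, hPK C.d.y_mem⟩)).1 (by rw [map_mul, map_inv, e, inv_mul_cancel])
      exact h
    have hy : C.d.y ∈ C.O ⊔ zpowers C.d.x := by
      have hO : (a : G)⁻¹ * C.d.y ∈ C.O := C.E_le hmem
      have h1 : (a : G) ∈ C.O ⊔ zpowers C.d.x := ha
      have h2 : (a : G)⁻¹ * C.d.y ∈ C.O ⊔ zpowers C.d.x := mem_sup_left hO
      have := mul_mem h1 h2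
      rwa [mul_inv_cancel_left] at this
    obtain ⟨o, ho, i, hi⟩ := C.mem_AT hy
    have h1 : o = 1 := C.disjoint ho (by
      have : o = C.d.y * (C.d.x ^ i)⁻¹ := by rw [hi, mul_inv_cancel_right]
      rw [this]
      exact mul_mem C.d.y_mem (inv_mem (zpow_mem C.d.x_mem i)))
    rw [h1, one_mul] at hi
    exact C.d.y_not (hi ▸ zpow_mem (mem_zpowers _) i)
  have hlt : A < Hb := lt_of_le_of_ne hAle fun e =>
    hyA (e.ge ⟨⟨C.d.y, hPK C.d.y_mem⟩, C.P_le_cz C.d.y_mem, rfl⟩)
  have hD : ∀ q ∈ Hb, q ∉ A → q ^ 2 = 1 := by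
    rintro _ ⟨c, hc, rfl⟩ hcA
    obtain ⟨o, ho, t, ht, hct⟩ := C.exists_mul (c := (c : G)) (C.mem_cz.1 hc)
    rcases C.d.cover t ht with ⟨i, rfl⟩ | ⟨i, rfl⟩
    · exact absurd ⟨c, show (c : G) ∈ C.O ⊔ zpowers C.d.x from hct ▸
        mul_mem (mem_sup_left ho) (mem_sup_right (zpow_mem (mem_zpowers _) i)), rfl⟩ hcA
    rw [← map_pow, hker, SubmonoidClass.coe_pow, hct, sq, show C.d.x ^ i * C.d.y = C.d.r i from rfl]
    have h := C.r_conj_mul i ho
    have hconj := C.P_conj_O (C.d.r_mem i) ho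
    have e : o * C.d.r i * (o * C.d.r i) =
        o * (C.d.r i * o * (C.d.r i)⁻¹) * (C.d.r i * C.d.r i) := by group
    rw [e, invol_mul_self (C.d.orderOf_r i), mul_one, (C.O_comm ho hconj).eq]
    exact h
  have h4 : 4 ∣ Nat.card Hb := by
    set f : (C.P : Subgroup G) →* (K ⧸ E') := π.comp (inclusion hPK)
    have hf : Function.Injective f := by
      rw [injective_iff_map_eq_one]
      exact fun a ha => Subtype.ext (hPE _ a.2 ((hker _).1 ha))
    have hle : f.range ≤ Hb := by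
      rintro _ ⟨a, rfl⟩
      exact ⟨inclusion hPK a, C.P_le_cz a.2, rfl⟩
    have hc := card_dvd_of_le hle
    rw [← Nat.card_congr (MonoidHom.ofInjective hf).toEquiv, C.d.card_eq] at hc
    refine (Dvd.intro (2 ^ (C.d.n - 1)) ?_).trans hc
    obtain ⟨j, hj⟩ : ∃ j, C.d.n = j + 1 := ⟨C.d.n - 1, by have := C.three; omega⟩
    rw [hj, Nat.add_sub_cancel, pow_succ]
    ring
  have hC : ∀ j ∈ Hb, orderOf j = 2 → (∀ h ∈ Hb, h * j = j * h) →
      centralizer ({j} : Set (K ⧸ E')) = Hb := by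
    rintro _ ⟨c, hc, rfl⟩ hjo hjc
    have hcE : (c : G) * (c : G) ∈ C.E := by
      have := invol_mul_self hjo
      rw [← map_mul, hker] at this
      exact this
    obtain ⟨l, hl1, hl2⟩ := exists_sq_one_translate C.E C.odd_E hcE
    set c' := c ^ (2 * l + 1) with hc'
    have hπc : π c' = π c := by
      have h1 : π ((c ^ 2) ^ l) = 1 := (hker _).2 (by push_cast; exact hl2)
      rw [hc', pow_succ, pow_mul, map_mul, h1, one_mul]
    have hc'z : Commute C.d.z (c' : G) := by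
      rw [hc', SubmonoidClass.coe_pow]
      exact (C.mem_cz.1 hc).pow_right _
    obtain ⟨o, ho, t, ht, hct⟩ := C.exists_mul hc'z
    have hsq : (o * t) * (o * t) = 1 := by rw [← hct, hc', SubmonoidClass.coe_pow]; exact hl1
    have hto := C.P_conj_O ht ho
    have hsq' : o * (t * o * t⁻¹) * (t * t) = 1 := by rw [← hsq]; group
    have htt : t * t = 1 := C.disjoint (by
      rw [show t * t = (o * (t * o * t⁻¹))⁻¹ from eq_inv_of_mul_eq_one_right hsq']
      exact inv_mem (mul_mem ho hto)) (mul_mem ht ht)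
    have hinv : t * o * t⁻¹ = o⁻¹ := by
      rw [htt, mul_one] at hsq'
      exact eq_inv_of_mul_eq_one_right hsq'
    obtain ⟨m, hm⟩ := (C.mem_O.1 ho).2
    set a := o ^ (m + 1) with ha
    have haa : a * a = o := by
      rw [ha, ← pow_add, show m + 1 + (m + 1) = (2 * m + 1) + 1 by ring, pow_succ, ← hm,
        pow_orderOf_eq_one, one_mul]
    have hat : t * a⁻¹ * t⁻¹ = a := by
      rw [ha, ← inv_pow, ← conj_pow, show t * o⁻¹ * t⁻¹ = (t * o * t⁻¹)⁻¹ by group, hinv, inv_inv]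
    have hconj : a * t * a⁻¹ = o * t := by
      rw [← haa]
      calc a * t * a⁻¹ = a * (t * a⁻¹ * t⁻¹) * t := by group
        _ = a * a * t := by rw [hat]
    have haK : a ∈ K := hOK (pow_mem ho _)
    have hπt : π ⟨t, hPK ht⟩ = π c := by
      rw [← hπc]
      have e : π c' = π ⟨a, haK⟩ * π ⟨t, hPK ht⟩ * (π ⟨a, haK⟩)⁻¹ := by
        rw [← map_inv, ← map_mul, ← map_mul]
        exact congrArg π (Subtype.ext (by push_cast; rw [hconj, hct]))
      have h2 := hjc (π ⟨a, haK⟩) ⟨⟨a, haK⟩, C.O_le_cz (pow_mem ho _), rfl⟩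
      rw [← hπc] at h2
      calc π ⟨t, hPK ht⟩ = (π ⟨a, haK⟩)⁻¹ * π c' * π ⟨a, haK⟩ := by rw [e]; group
        _ = π c' := by rw [mul_assoc, ← h2, inv_mul_cancel_left]
    have ht1 : t ≠ 1 := by
      intro e
      apply invol_ne_one hjo
      rw [← hπt, show (⟨t, hPK ht⟩ : K) = 1 from Subtype.ext e, map_one]
    have htx : Commute t C.d.x := by
      have h : Commute (π ⟨t, hPK ht⟩) (π ⟨C.d.x, hPK C.d.x_mem⟩) := by
        rw [hπt]
        exact (hjc _ ⟨⟨C.d.x, hPK C.d.x_mem⟩, C.P_le_cz C.d.x_mem, rfl⟩).symm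
      have h' := (hcomm _ _).1 h
      have := hPE _ (mul_mem (mul_mem (mul_mem ht C.d.x_mem) (inv_mem ht)) (inv_mem C.d.x_mem)) h'
      exact mul_inv_eq_iff_eq_mul.1 (mul_inv_eq_one.1 this)
    have htz : t = C.d.z := by
      rcases C.d.cover t ht with ⟨i, rfl⟩ | ⟨i, rfl⟩
      · rw [← zpow_add, C.d.zpow_eq_one, ← two_mul] at htt
        exact (C.d.zpow_of_half_dvd ((Int.mul_dvd_mul_iff_left two_ne_zero).1 htt)).resolve_left ht1
      · exfalso
        have h1 := C.d.commute_zpow_r (i := i) (j := 1) (by rw [zpow_one]; exact htx.symm)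
        have h2 := Int.le_of_dvd one_pos h1
        have h3 : (2 : ℤ) ^ 1 ≤ C.d.half :=
          pow_le_pow_right₀ (by norm_num) (by have := C.three; omega)
        omega
    rw [← hπt, show (⟨t, hPK ht⟩ : K) = zK from Subtype.ext htz]
    refine le_antisymm (fun q hq => ?_) ?_
    · obtain ⟨y, rfl⟩ := hπs q
      exact ⟨y, C.mem_cz.2 (hcent y (mem_centralizer_singleton_iff.1 hq).symm), rfl⟩
    · rintro _ ⟨y, hy, rfl⟩
      refine mem_centralizer_singleton_iff.2 ?_
      rw [← map_mul, ← map_mul]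
      exact congrArg π (Subtype.ext (mem_centralizer_singleton_iff.1 hy))
  have hnsQ : ¬ Group.IsSolvable (K ⧸ E') := fun hs =>
    hns (Base.isSolvable_of_normal E' (CfsgLib.FT.isSolvable_of_odd hE'odd) hs)
  obtain ⟨N, hN, hcardN, F, iF, iFt, h3, hiso⟩ := DGroup.classify Hb A hlt hD h4 hC hnsQ
  haveI := hN
  haveI hMn : (N.comap π).Normal := hN.comap π
  have hEM : ∀ v : K, (v : G) ∈ C.E → v ∈ N.comap π := fun v hv => by
    rw [mem_comap, (hker v).2 hv]; exact one_mem N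
  have hcard : Nat.card (N.comap π) = Nat.card N * Nat.card E' := by
    have h1 : (N.comap π).index = N.index := N.index_comap_of_surjective hπs
    refine Nat.eq_of_mul_eq_mul_right (Nat.pos_of_ne_zero N.index_ne_zero_of_finite) ?_
    rw [← h1, (N.comap π).card_mul_index, Subgroup.card_eq_card_quotient_mul_card_subgroup E',
      ← N.card_mul_index, h1]
    ring
  have hodd : Odd (Nat.card (N.comap π)) := by
    rcases hcardN with h | ⟨m, hm, hm2⟩
    · rw [hcard]; exact h.mul hE'odd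
    exfalso
    haveI : Fact (Nat.Prime 2) := ⟨Nat.prime_two⟩
    obtain ⟨⟨w, hwM⟩, hw⟩ := exists_prime_orderOf_dvd_card' (G := N.comap π) 2
      (by rw [hcard, hm2, mul_assoc]; exact dvd_mul_right 2 _)
    rw [Subgroup.orderOf_mk] at hw
    obtain ⟨k, hk⟩ := exists_conj_mem_sylow_one (C.P.subtype hPK) hw
    have hwk : k * w * k⁻¹ ∈ N.comap π := hMn.conj_mem _ hwM k
    have hto := conj_invol k hw
    have hkP : ((k * w * k⁻¹ : K) : G) ∈ (C.P : Subgroup G) := by
      exact hk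
    have hzM : zK ∈ N.comap π := by
      rcases C.d.cover _ hkP with ⟨i, hi⟩ | ⟨i, hi⟩
      · have htt := invol_mul_self hto
        have htt' : C.d.x ^ i * C.d.x ^ i = 1 := by
          rw [← hi, ← Subgroup.coe_mul, htt, Subgroup.coe_one]
        rw [← zpow_add, C.d.zpow_eq_one, ← two_mul] at htt'
        rcases C.d.zpow_of_half_dvd ((Int.mul_dvd_mul_iff_left two_ne_zero).1 htt') with h | h
        · exact absurd (Subtype.ext (hi.trans h)) (invol_ne_one hto)
        · rwa [show zK = k * w * k⁻¹ from Subtype.ext (hi.trans h).symm]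
      · set t := k * w * k⁻¹ with ht'
        have hx2 := mul_mem (hMn.conj_mem _ hwk ⟨C.d.x, hPK C.d.x_mem⟩) hwk
        have e : (((⟨C.d.x, hPK C.d.x_mem⟩ : K) * t * (⟨C.d.x, hPK C.d.x_mem⟩ : K)⁻¹ * t : K) : G) =
            C.d.x ^ (2 : ℤ) := by
          push_cast
          rw [show (t : G) = C.d.r i from hi]
          have h5 := C.d.conj_r 1 i
          rw [zpow_one] at h5
          rw [h5, C.d.r_mul_r]
          congr 1
          ring
        have := zpow_mem hx2 (2 ^ (C.d.n - 2) : ℤ)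
        convert this using 1
        refine Subtype.ext ?_
        rw [SubgroupClass.coe_zpow, e, ← C.z_eq_sq_pow]
    have hrM : (⟨C.d.r 1, hPK (C.d.r_mem 1)⟩ : K) ∈ N.comap π := by
      have := hMn.conj_mem _ hzM ⟨g, hgK⟩
      convert this using 1
      exact Subtype.ext hg.symm
    have hle : C.d.TG 1 ≤ (N.comap π).map K.subtype := by
      rw [DP.TG, closure_le]
      rintro a (rfl | rfl)
      · exact ⟨_, hzM, rfl⟩
      · exact ⟨_, hrM, rfl⟩
    have h2 := card_dvd_of_le hle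
    rw [(C.d.isKleinFour_TG 1).card_four,
      Nat.card_congr ((N.comap π).equivMapOfInjective _ (subtype_injective _)).symm.toEquiv, hcard,
      hm2, mul_assoc] at h2
    have h5 : 2 ∣ m * Nat.card E' := Nat.dvd_of_mul_dvd_mul_left two_pos h2
    exact (Nat.not_even_iff_odd.2 (hm.mul hE'odd)) (even_iff_two_dvd.2 h5)
  refine ⟨N.comap π, hMn, hodd, hEM, F, iF, iFt, h3, ?_⟩
  have hk : ((QuotientGroup.mk' N).comp π).ker = N.comap π := by
    rw [← MonoidHom.comap_ker, QuotientGroup.ker_mk']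
  let e := (QuotientGroup.quotientMulEquivOfEq hk.symm).trans
    (QuotientGroup.quotientKerEquivOfSurjective ((QuotientGroup.mk' N).comp π)
      ((QuotientGroup.mk'_surjective N).comp hπs))
  exact hiso.imp (fun ⟨f⟩ => ⟨e.trans f⟩) fun ⟨f⟩ => ⟨e.trans f⟩

end CfsgLib.Subdeg3.Cfg
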