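import Cfsg.Agent.Lib.Subdeg3.Defs
import Cfsg.Agent.S2916
import Cfsg.Agent.Lib.PSL2.Congr
import Cfsg.Agent.Lib.Transfer.NormalPComplement

/-!
# The semidihedral case is `PSL(3,3)` or `M11`
-/

set_option autoImplicit false
set_option linter.style.haveILetI false

namespace CfsgLib.Subdeg3

open Subgroup

universe u

theorem pResidual_two_eq_top {H : Type*} [Group H] [Finite H] (h : ∀ K : Subgroup H, K.index ≠ 2) :
    Cfsg.pResidual 2 H = ⊤ := by
  classical
  haveI : Fact (Nat.Prime 2) := ⟨Nat.prime_two⟩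
  haveI := CfsgLib.Transfer.pResidual_normal (G := H) (p := 2)
  set N := Cfsg.pResidual 2 H with hN
  have hq : IsPGroup 2 (H ⧸ N) := CfsgLib.Transfer.isPGroup_quotient_pResidual (G := H) (p := 2)
  by_contra hne
  obtain ⟨k, hk⟩ := IsPGroup.iff_card.1 hq
  have hk0 : k ≠ 0 := by
    rintro rfl
    rw [pow_zero, ← index_eq_card, index_eq_one] at hk
    exact hne hk
  obtain ⟨K, hK⟩ := Sylow.exists_subgroup_card_pow_prime 2
    (show 2 ^ (k - 1) ∣ Nat.card (H ⧸ N) from hk ▸ pow_dvd_pow 2 (by omega))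
  refine h (K.comap (QuotientGroup.mk' N)) ?_
  rw [index_comap_of_surjective _ (QuotientGroup.mk'_surjective N)]
  have h1 := K.card_mul_index
  rw [hK, hk, show 2 ^ k = 2 ^ (k - 1) * 2 by rw [← pow_succ]; congr 1; omega] at h1
  exact Nat.eq_of_mul_eq_mul_left (pow_pos two_pos _) h1

/-- A finite group with an involution centraliser `GL(2,3)` in the semidihedral situation. -/
theorem sd (hc : StmtSDCent.{u}) (hti : StmtTI.{u}) (har : StmtArith.{u}) : StmtSD.{u} := by
  intro H _ _ V hV T hVT hT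
  obtain ⟨S⟩ := hc H V hV T hVT hT
  have hO : S.O = ⊥ := by
    by_contra hne
    exact hne (har H V hV S (hti H V hV S hne))
  have hker : S.π.ker = ⊥ := by
    rw [← Subgroup.map_eq_bot_iff_of_injective S.π.ker
      (Subgroup.subtype_injective (centralizer ({S.z} : Set H)))]
    exact hO
  let e : centralizer ({S.z} : Set H) ≃* CfsgLib.Small.GL23.H :=
    MulEquiv.ofBijective S.π ⟨(MonoidHom.ker_eq_bot_iff S.π).1 hker, S.surj⟩
  rcases Cfsg.Agent.S2916.result (pResidual_two_eq_top hV.noIdx) S.z S.ord ⟨e⟩ with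
    ⟨F, hF, hF', hF3, ⟨i⟩⟩ | h
  · left
    haveI : Fact (Nat.Prime 3) := ⟨Nat.prime_three⟩
    obtain ⟨j⟩ := CfsgLib.PSL2.nonempty_psl_congr (n := Fin 3)
      (FiniteField.ringEquivOfCardEq (show Fintype.card F = Fintype.card (ZMod 3) by
        rw [ZMod.card]; exact hF3))
    exact ⟨i.trans j⟩
  · exact Or.inr h

end CfsgLib.Subdeg3
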