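import Cfsg.Agent.Lib.Subdeg3.Defs
import Cfsg.Agent.Lib.PGroups.MaximalClassTwo

/-!
# The Sylow 2-subgroups of a group with a self-centralising four-group
-/

set_option autoImplicit false
set_option linter.style.haveILetI false

namespace CfsgLib.Subdeg3

open Subgroup

universe u

theorem quaternion_unique_involution {S : Type*} [Group S] [Finite S] {k : ℕ}
    (e : S ≃* QuaternionGroup (2 ^ (k + 1))) {a b : S} (ha : orderOf a = 2) (hb : orderOf b = 2) :
    a = b := by
  haveI : NeZero (2 ^ (k + 1)) := ⟨pow_ne_zero _ two_ne_zero⟩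
  have key : ∀ g : QuaternionGroup (2 ^ (k + 1)), orderOf g = 2 →
      ∃ i : ZMod (2 * 2 ^ (k + 1)), g = QuaternionGroup.a i ∧ 2 * i = 0 ∧ i ≠ 0 := by
    intro g hg
    cases g with
    | a i =>
      refine ⟨i, rfl, ?_, fun h => ?_⟩
      · have h1 := pow_orderOf_eq_one (QuaternionGroup.a i)
        rw [hg, sq, QuaternionGroup.a_mul_a, QuaternionGroup.one_def] at h1
        exact (two_mul i).trans (QuaternionGroup.a.inj h1)
      · rw [h, ← QuaternionGroup.one_def, orderOf_one] at hg
        omega
    | xa i => rw [QuaternionGroup.orderOf_xa] at hg; omega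
  obtain ⟨i, hi, hi2, hi0⟩ := key _ ((e.orderOf_eq a).trans ha)
  obtain ⟨j, hj, hj2, hj0⟩ := key _ ((e.orderOf_eq b).trans hb)
  have h : ∀ i : ZMod (2 * 2 ^ (k + 1)), 2 * i = 0 → i ≠ 0 → i.val = 2 ^ (k + 1) := by
    intro i hi hi0
    have hlt := ZMod.val_lt i
    have hpos : 0 < i.val := Nat.pos_of_ne_zero fun h => hi0 ((ZMod.val_eq_zero i).1 h)
    have hd : 2 * 2 ^ (k + 1) ∣ 2 * i.val := by
      rw [← ZMod.natCast_eq_zero_iff, Nat.cast_mul, ZMod.natCast_zmod_val]
      exact_mod_cast hi
    have hd' : 2 ^ (k + 1) ∣ i.val := (Nat.mul_dvd_mul_iff_left two_pos).1 hd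
    obtain ⟨c, hc⟩ := hd'
    rw [hc] at hlt hpos ⊢
    have : c = 1 := by
      rcases c with _ | _ | c
      · simp at hpos
      · rfl
      · exfalso; nlinarith
    rw [this, mul_one]
  exact e.injective (by rw [hi, hj, ZMod.val_injective _ ((h i hi2 hi0).trans (h j hj2 hj0).symm)])

theorem shape : StmtShape.{u} := by
  intro H _ _ V hV T hVT
  classical
  haveI : Fact (Nat.Prime 2) := ⟨Nat.prime_two⟩
  obtain ⟨n, hn⟩ := IsPGroup.iff_card.1 T.isPGroup'
  have hn4 : 4 ≤ n := by
    have h : 2 ^ 4 ∣ Nat.card (T : Subgroup H) := by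
      rw [T.card_eq_multiplicity]
      exact pow_dvd_pow 2
        ((Nat.prime_two.pow_dvd_iff_le_factorization Nat.card_pos.ne').1 (by simpa using hV.big))
    rw [hn] at h
    exact (Nat.pow_dvd_pow_iff_le_right (by norm_num)).1 h
  set A : Subgroup (T : Subgroup H) := V.subgroupOf (T : Subgroup H) with hA
  have hA4 : Nat.card A = 2 ^ 2 := by
    rw [Nat.card_congr (Subgroup.subgroupOfEquivOfLe hVT).toEquiv, hV.four.card_four]
    norm_num
  have hCA : centralizer (A : Set (T : Subgroup H)) = A := by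
    ext g
    rw [mem_centralizer_iff, hA, mem_subgroupOf]
    constructor
    · intro h
      rw [← hV.cent, mem_centralizer_iff]
      intro v hv
      exact congrArg Subtype.val (h ⟨v, hVT hv⟩ (mem_subgroupOf.2 hv))
    · intro h v hv
      refine Subtype.ext ?_
      have hg : (g : H) ∈ centralizer (V : Set H) := hV.cent.symm ▸ h
      exact mem_centralizer_iff.1 hg _ (mem_subgroupOf.1 hv)
  have hcl := CfsgLib.PGroups.maximalClass_of_centralizer_eq (p := 2) hn hA4 hCA
  rcases CfsgLib.PGroups.maximalClass_two_classification (by omega) hn hcl with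
    ⟨k, ⟨e⟩⟩ | ⟨k, hk, a, b, ha, hb, hba⟩ | ⟨k, ⟨e⟩⟩
  · refine Or.inl ⟨2 ^ (k + 2), ?_, ⟨e⟩⟩
    have h := Nat.card_congr e.toEquiv
    rw [hn, DihedralGroup.nat_card] at h
    have h16 : 2 ^ 4 ≤ 2 ^ n := Nat.pow_le_pow_right (by norm_num) hn4
    omega
  · exact Or.inr ⟨k + 3, by omega, by simpa using hk, a, b, ha, hb, by simpa using hba⟩
  · exfalso
    haveI := hV.four
    haveI : Fintype V := Fintype.ofFinite V
    have h4 : Nat.card V = 4 := hV.four.card_four
    obtain ⟨x, y, hxy, hx, hy⟩ : ∃ x y : V, x ≠ y ∧ x ≠ 1 ∧ y ≠ 1 := by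
      by_contra hno
      push Not at hno
      have : Nat.card V ≤ 2 := by
        by_cases hex : ∃ x : V, x ≠ 1
        · obtain ⟨x, hx⟩ := hex
          calc Nat.card V = Fintype.card V := Nat.card_eq_fintype_card
            _ ≤ ({1, x} : Finset V).card := Finset.card_le_card fun y _ => by
                rw [Finset.mem_insert, Finset.mem_singleton]
                by_cases hy : y = x
                · exact Or.inr hy
                · exact Or.inl (hno x y (Ne.symm hy) hx)
            _ ≤ 2 := Finset.card_le_two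
        · push Not at hex
          haveI : Subsingleton V := ⟨fun a b => (hex a).trans (hex b).symm⟩
          rw [Nat.card_of_subsingleton (1 : V)]
          norm_num
      omega
    have ho : ∀ w : V, w ≠ 1 → orderOf (⟨(w : H), hVT w.2⟩ : (T : Subgroup H)) = 2 := by
      intro w hw
      rw [Subgroup.orderOf_mk, Subgroup.orderOf_coe]
      exact orderOf_eq_prime (by rw [sq]; exact IsKleinFour.mul_self w) hw
    have := quaternion_unique_involution e (ho x hx) (ho y hy)
    exact hxy (Subtype.ext (congrArg (fun t : (T : Subgroup H) => (t : H)) this))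

end CfsgLib.Subdeg3
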