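import Cfsg.Agent.Lib.Subdeg3.SetupSymFour
import Cfsg.Agent.Lib.Subdeg3.Shape
import Cfsg.Agent.Lib.Subdeg3.SD
import Cfsg.Agent.Lib.Recog.OrderSixty
import Cfsg.Agent.S2060
import Cfsg.Agent.S3685
import Cfsg.Prelude.Def_KGroupFacts

/-!
# Primitive groups with a subdegree three: assembly of the pieces
-/

set_option autoImplicit false
set_option linter.style.haveILetI false

namespace CfsgLib.Subdeg3

open Subgroup MulAction

universe u v

variable {G : Type u} [Group G] [Finite G]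

theorem not_isoM11_of_outer (N : Subgroup G) [N.Normal] (hc : centralizer (N : Set G) = ⊥) {t : G}
    (ht : t ∉ N) : ¬ Cfsg.Spor.IsoM11 N := by
  rintro ⟨e⟩
  have hI : Cfsg.Inn ↥Cfsg.Spor.M11 = ⊤ := index_eq_one.1 (Cfsg.Agent.S2060.result : _)
  obtain ⟨m, hm⟩ := (hI.ge (mem_top (MulAut.congr e (MulAut.conjNormal t))) :
    MulAut.congr e (MulAut.conjNormal t) ∈ Cfsg.Inn ↥Cfsg.Spor.M11)
  have hn : ∀ x : N, t * (x : G) * t⁻¹ = (e.symm m : N) * (x : G) * ((e.symm m : N) : G)⁻¹ := by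
    intro x
    have h := congrArg (fun φ : MulAut _ => e.symm (φ (e x))) hm
    simp [MulAut.congr] at h
    rw [← Subgroup.coe_inv, ← Subgroup.coe_mul, ← Subgroup.coe_mul, h, MulAut.conjNormal_apply]
  set n : G := ((e.symm m : N) : G) with hndef
  have hmem : n⁻¹ * t ∈ centralizer (N : Set G) := by
    refine mem_centralizer_iff.2 fun x hx => ?_
    have h := hn ⟨x, hx⟩
    simp only at h
    calc x * (n⁻¹ * t) = n⁻¹ * (n * x * n⁻¹) * t := by group
      _ = n⁻¹ * (t * x * t⁻¹) * t := by rw [h]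
      _ = n⁻¹ * t * x := by group
  rw [hc, mem_bot] at hmem
  exact ht (by rw [show t = n from (inv_mul_eq_one.1 hmem).symm]; exact (e.symm m).2)

theorem card_inf_mul_three {Ω : Type v} [MulAction G Ω] (a b : Ω)
    (h3 : Nat.card (orbit (stabilizer G a) b) = 3) :
    Nat.card (stabilizer G a ⊓ stabilizer G b : Subgroup G) * 3 = Nat.card (stabilizer G a) := by
  set M := stabilizer G a with hM
  have he : stabilizer M b = (stabilizer G b).subgroupOf M := by
    ext x
    rfl
  have h := (stabilizer M b).card_mul_index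
  have hi : (stabilizer M b).index = 3 := by
    rw [index_stabilizer, ← Nat.card_coe_set_eq]; exact h3
  rw [hi, he, ← inf_subgroupOf_left, Nat.card_congr (subgroupOfEquivOfLe inf_le_left).toEquiv] at h
  exact h

theorem stabilizer_isSolvable {M : Type*} [Group M]
    (h : Nonempty (M ≃* Multiplicative (ZMod 3)) ∨ Nonempty (M ≃* Equiv.Perm (Fin 3)) ∨
      Nonempty (M ≃* DihedralGroup 6) ∨ Nonempty (M ≃* Equiv.Perm (Fin 4)) ∨
      Nonempty (M ≃* Equiv.Perm (Fin 4) × Multiplicative (ZMod 2))) : Group.IsSolvable M := by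
  have key : ∀ (L : Type) [Group L] [Finite L], Nat.card L < 60 → Nonempty (M ≃* L) →
      Group.IsSolvable M := by
    intro L _ _ hL ⟨e⟩
    haveI := CfsgLib.Recog.isSolvable_of_card_lt_sixty hL
    exact Group.isSolvable_of_isSolvable_injective (f := e.toMonoidHom) e.injective
  rcases h with h | h | h | h | h
  · exact key _ (by simp) h
  · exact key _ (by rw [Nat.card_perm, Nat.card_fin]; decide) h
  · exact key _ (by rw [DihedralGroup.nat_card]; norm_num) h
  · exact key _ (by rw [Nat.card_perm, Nat.card_fin]; decide) h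
  · exact key _ (by rw [Nat.card_prod, Nat.card_perm, Nat.card_fin]; simp; decide) h

/-- S3686 from the pieces. -/
theorem classify (hP2 : StmtDihedral.{u}) (hP3 : StmtSDCent.{u}) (hP4 : StmtTI.{u})
    (hP5 : StmtArith.{u}) (hP7 : StmtTimesTwo.{u}) (hP8 : StmtNoTwist.{u}) (hP9 : StmtPrime.{u})
    (hP10 : StmtSmall.{u}) {Ω : Type v} [MulAction G Ω] [FaithfulSMul G Ω] [Finite Ω]
    (hsol : ¬ Group.IsSolvable G) (hprim : MulAction.IsPreprimitive G Ω) (a b : Ω)
    (h3 : Nat.card (orbit (stabilizer G a) b) = 3) :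
    Nonempty (G ≃* alternatingGroup (Fin 5)) ∨ Nonempty (G ≃* Equiv.Perm (Fin 5)) ∨
      Nonempty (G ≃* GL (Fin 2) (ZMod 7) ⧸ Subgroup.center (GL (Fin 2) (ZMod 7))) ∨
      Nonempty (G ≃* Matrix.ProjectiveSpecialLinearGroup (Fin 2) (ZMod 11)) ∨
      Nonempty (G ≃* Matrix.ProjectiveSpecialLinearGroup (Fin 2) (ZMod 13)) ∨
      (∃ p : ℕ, p.Prime ∧ (p % 16 = 1 ∨ p % 16 = 15) ∧
        Nonempty (G ≃* Matrix.ProjectiveSpecialLinearGroup (Fin 2) (ZMod p))) ∨
      Nonempty (G ≃* Matrix.ProjectiveSpecialLinearGroup (Fin 3) (ZMod 3)) ∨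
      (∃ N : Subgroup G, N.Normal ∧ N.index = 2 ∧ Subgroup.centralizer (N : Set G) = ⊥ ∧
        Nonempty (N ≃* Matrix.ProjectiveSpecialLinearGroup (Fin 3) (ZMod 3))) := by
  haveI := hprim
  have hcases := Cfsg.Agent.S3685.result hprim a b h3
  have hab : b ≠ a := by
    rintro rfl
    have h1 : orbit (stabilizer G b) b = {b} := Set.eq_singleton_iff_unique_mem.2
      ⟨mem_orbit_self b, by rintro c ⟨x, rfl⟩; exact x.2⟩
    rw [h1, Nat.card_coe_set_eq, Set.ncard_singleton] at h3
    omega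
  haveI : Nontrivial Ω := ⟨b, a, hab⟩
  set M := stabilizer G a with hMdef
  set M' := stabilizer G b with hM'def
  have hM : IsCoatom M := MulAction.IsPreprimitive.isCoatom_stabilizer_of_isPreprimitive G a
  obtain ⟨g, hg⟩ := MulAction.exists_smul_eq G a b
  have hconj : ∃ g : G, M.map (MulAut.conj g).toMonoidHom = M' :=
    ⟨g, by rw [hM'def, ← hg, stabilizer_smul_eq_stabilizer_map_conj]⟩
  have hne : M' ≠ M := by
    intro h
    have h1 : orbit M b = {b} := Set.eq_singleton_iff_unique_mem.2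
      ⟨mem_orbit_self b, by rintro c ⟨x, rfl⟩; exact h.ge x.2⟩
    rw [h1, Nat.card_coe_set_eq, Set.ncard_singleton] at h3
    omega
  have hMsol : Group.IsSolvable M := stabilizer_isSolvable hcases
  have hrad : ∀ N : Subgroup G, N.Normal → Group.IsSolvable N → N = ⊥ := by
    intro N hN hNs
    by_contra hNb
    haveI := hN
    have hnot : ¬ N ≤ M := by
      intro hle
      refine hNb ((eq_bot_iff_forall _).2 fun n hn => eq_of_smul_eq_smul (α := Ω) fun c => ?_)
      obtain ⟨x, rfl⟩ := MulAction.exists_smul_eq G a c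
      have := hle (hN.conj_mem n hn x⁻¹)
      rw [one_smul, hMdef, mem_stabilizer_iff, inv_inv, mul_smul, mul_smul, inv_smul_eq_iff] at *
      exact this
    have hsup : N ⊔ M = ⊤ := (hM.le_iff.1 le_sup_right).resolve_right fun h => hnot (h ▸ le_sup_left)
    haveI := hMsol
    have hsurj : Function.Surjective ((QuotientGroup.mk' N).comp M.subtype) := by
      rw [← MonoidHom.range_eq_top, MonoidHom.range_comp, range_subtype]
      refine eq_top_iff.2 fun q _ => ?_
      obtain ⟨x, rfl⟩ := QuotientGroup.mk'_surjective N q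
      have hx : x ∈ N ⊔ M := hsup ▸ mem_top x
      obtain ⟨n, hn, m, hm, rfl⟩ := mem_sup_of_normal_left.1 hx
      exact ⟨m, hm, by simp [QuotientGroup.eq_one_iff n |>.2 hn]⟩
    exact hsol ((Group.isSolvable_iff_subgroup_quotient N).2
      ⟨hNs, Group.isSolvable_of_surjective hsurj⟩)
  have hcard := card_inf_mul_three a b h3
  rcases hcases with h | h | h | h | h
  · exact ((hP10 G hsol hrad M hM).1 h).elim
  · exact Or.inl ((hP10 G hsol hrad M hM).2.1 h)
  · rcases (hP10 G hsol hrad M hM).2.2 h with h' | h' | h' | h'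
    · exact Or.inr (Or.inl h')
    · exact Or.inr (Or.inr (Or.inl h'))
    · exact Or.inr (Or.inr (Or.inr (Or.inl h')))
    · exact Or.inr (Or.inr (Or.inr (Or.inr (Or.inl h'))))
  · -- the stabiliser `Sym 4`
    have h24 : Nat.card M = 24 := by
      obtain ⟨e⟩ := h
      rw [Nat.card_congr e.toEquiv, Nat.card_perm, Nat.card_fin]; rfl
    obtain ⟨V, hS, hNV⟩ := setup_of_symFour hrad hM hne hconj (by rw [← hMdef, ← hM'def] at hcard; omega) h
    haveI : Fact (Nat.Prime 2) := ⟨Nat.prime_two⟩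
    obtain ⟨T, hT⟩ := (IsPGroup.of_card (n := 2) (by simpa using hS.four.card_four) :
      IsPGroup 2 V).exists_le_sylow
    have hPr := hP9 G V hS (by rw [hNV]; exact hM)
    rcases shape G V hS T hT with ⟨n, hn, hd⟩ | hqd
    · obtain ⟨F, hF, hF', hodd, h3F, hiso⟩ := hP2 G V hS T hT n hn hd
      exact Or.inr (Or.inr (Or.inr (Or.inr (Or.inr (Or.inl (hPr.1 F hodd h3F hiso))))))
    · rcases sd hP3 hP4 hP5 G V hS T hT hqd with h' | h'
      · exact Or.inr (Or.inr (Or.inr (Or.inr (Or.inr (Or.inr (Or.inl h'))))))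
      · exact (hPr.2 h').elim
  · -- the stabiliser `Sym 4 × 2`
    have h48 : Nat.card M = 48 := by
      obtain ⟨e⟩ := h
      rw [Nat.card_congr e.toEquiv, Nat.card_prod, Nat.card_perm, Nat.card_fin]
      simp; rfl
    obtain ⟨N, hN, t, V, hidx, hcN, ht, htN, h24, hS, hfix, h32⟩ :=
      hP7 G hrad M M' hM hne h hconj (by rw [← hMdef, ← hM'def] at hcard; omega)
    haveI := hN
    haveI : Fact (Nat.Prime 2) := ⟨Nat.prime_two⟩
    obtain ⟨T, hT⟩ := (IsPGroup.of_card (n := 2) (by simpa using hS.four.card_four) :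
      IsPGroup 2 V).exists_le_sylow
    rcases shape N V hS T hT with ⟨n, hn, hd⟩ | hqd
    · obtain ⟨F, hF, hF', hodd, h3F, hiso⟩ := hP2 N V hS T hT n hn hd
      exact (hP8 G N V t hcN ht htN hS h24 h32 hfix F hodd h3F hiso).elim
    · rcases sd hP3 hP4 hP5 N V hS T hT hqd with h' | h'
      · exact Or.inr (Or.inr (Or.inr (Or.inr (Or.inr (Or.inr (Or.inr ⟨N, hN, hidx, hcN, h'⟩))))))
      · exact (not_isoM11_of_outer N hcN htN h').elim

end CfsgLib.Subdeg3
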