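import Cfsg.Agent.Lib.Subdeg3.Defs
import Cfsg.Agent.Lib.KnownB.PSLAut.Main
import Cfsg.Agent.Lib.KnownB.PSLAut.Descent
import Cfsg.Agent.Lib.Classical.Order

/-!
# No involutory outer automorphism of `PSL₂(q)` has centraliser of order 24 around a four-group

Such an automorphism is `δ g * fld σ`.  If `σ = 1` then `g` commutes up to scalars with a quaternion
group, so it is inner; otherwise it centralises root elements over the fixed field of order `√q`,
which forces `q = 9`.
-/

set_option autoImplicit false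
set_option linter.style.haveILetI false

namespace CfsgLib.Subdeg3

open Matrix Subgroup CfsgLib.KnownB.PSLAut CfsgLib.KnownB.Descent

universe u

namespace NoTwist

variable {F : Type*} [Field F]

local notation "SL2" => Matrix.SpecialLinearGroup (Fin 2) F
local notation "PSL2" => Matrix.ProjectiveSpecialLinearGroup (Fin 2) F
local notation "M2" => Matrix (Fin 2) (Fin 2) F

theorem sum_mul_eq_trace {x y : M2} (hx : x.trace = 0) (hy : y.trace = 0) :
    x * y + y * x = (x * y).trace • 1 := by
  have hx' : x 1 1 = -x 0 0 := by rw [Matrix.trace_fin_two] at hx; linear_combination hx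
  have hy' : y 1 1 = -y 0 0 := by rw [Matrix.trace_fin_two] at hy; linear_combination hy
  ext i j
  fin_cases i <;> fin_cases j <;>
    simp [Matrix.mul_apply, Matrix.trace_fin_two, Fin.sum_univ_two, hx', hy'] <;> ring

theorem mk_eq_one_iff (s : SL2) :
    (QuotientGroup.mk s : PSL2) = 1 ↔ ∃ a : F, a ^ 2 = 1 ∧ (s : M2) = a • 1 := by
  rw [QuotientGroup.eq_one_iff, Matrix.SpecialLinearGroup.mem_center_iff]
  simp only [Fintype.card_fin, Matrix.scalar_apply, Matrix.smul_one_eq_diagonal]
  exact exists_congr fun a => and_congr_right fun _ => eq_comm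

theorem mk_eq_iff (s r : SL2) (h : (QuotientGroup.mk s : PSL2) = QuotientGroup.mk r) :
    ∃ a : F, (a = 1 ∨ a = -1) ∧ (s : M2) = a • (r : M2) := by
  have h1 : (QuotientGroup.mk (s * r⁻¹) : PSL2) = 1 := by
    rw [QuotientGroup.mk_mul, QuotientGroup.mk_inv, h, mul_inv_cancel]
  obtain ⟨a, ha, he⟩ := (mk_eq_one_iff _).1 h1
  refine ⟨a, sq_eq_one_iff.1 ha, ?_⟩
  have h2 : (s : M2) = ((s * r⁻¹ : SL2) : M2) * (r : M2) := by
    rw [← Matrix.SpecialLinearGroup.coe_mul, inv_mul_cancel_right]
  rw [h2, he, smul_mul_assoc, one_mul]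

/-- A lift of an involution of `PSL₂` has trace zero and square `-1`. -/
theorem lift_invol {s : SL2} (hne : (QuotientGroup.mk s : PSL2) ≠ 1)
    (hsq : (QuotientGroup.mk s : PSL2) * QuotientGroup.mk s = 1) :
    (s : M2).trace = 0 ∧ (s : M2) * (s : M2) = -1 := by
  rw [← QuotientGroup.mk_mul, mk_eq_one_iff] at hsq
  obtain ⟨a, ha, he⟩ := hsq
  rw [Matrix.SpecialLinearGroup.coe_mul] at he
  have hd : (s : M2) 0 0 * (s : M2) 1 1 - (s : M2) 0 1 * (s : M2) 1 0 = 1 := by
    rw [← Matrix.det_fin_two]; exact s.2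
  have e00 := congrFun (congrFun he 0) 0
  have e01 := congrFun (congrFun he 0) 1
  have e10 := congrFun (congrFun he 1) 0
  have e11 := congrFun (congrFun he 1) 1
  simp [Matrix.mul_apply, Fin.sum_univ_two] at e00 e01 e10 e11
  have htr : (s : M2).trace = 0 := by
    rw [Matrix.trace_fin_two]
    by_contra ht
    have h01 : (s : M2) 0 1 = 0 := (mul_eq_zero.1 (show ((s : M2) 0 0 + (s : M2) 1 1) * (s : M2) 0 1 = 0
      by linear_combination e01)).resolve_left ht
    have h10 : (s : M2) 1 0 = 0 := (mul_eq_zero.1 (show ((s : M2) 0 0 + (s : M2) 1 1) * (s : M2) 1 0 = 0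
      by linear_combination e10)).resolve_left ht
    have h00 : (s : M2) 0 0 = (s : M2) 1 1 :=
      sub_eq_zero.1 ((mul_eq_zero.1 (show ((s : M2) 0 0 + (s : M2) 1 1) *
        ((s : M2) 0 0 - (s : M2) 1 1) = 0 by linear_combination e00 - e11)).resolve_left ht)
    refine hne ((mk_eq_one_iff s).2 ⟨(s : M2) 0 0, ?_, ?_⟩)
    · rw [h01, h10, ← h00] at hd
      linear_combination hd
    · ext i j
      fin_cases i <;> fin_cases j <;> simp [h01, h10, h00]
  refine ⟨htr, ?_⟩
  rw [Matrix.trace_fin_two] at htr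
  have h11 : (s : M2) 1 1 = -(s : M2) 0 0 := by linear_combination htr
  rw [h11] at hd
  ext i j
  fin_cases i <;> fin_cases j <;> simp [Matrix.mul_apply, Fin.sum_univ_two, h11] <;>
    first | linear_combination -hd | ring

/-- A matrix commuting with two anticommuting invertible matrices of trace zero is scalar. -/
theorem scalar_of_commute (h2 : (2 : F) ≠ 0) {i j g : M2} (hi : i.trace = 0) (hii : i * i = -1)
    (hjj : j * j = -1) (hij : i * j = -(j * i)) (hgi : g * i = i * g) (hgj : g * j = j * g) :
    ∃ c : F, g = c • 1 := by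
  refine ⟨g.trace / 2, ?_⟩
  set x := g - (g.trace / 2) • (1 : M2) with hx
  have hxt : x.trace = 0 := by
    rw [hx, Matrix.trace_sub, Matrix.trace_smul, Matrix.trace_one]
    simp; field_simp; ring
  have hxi : x * i = i * x := by rw [hx, sub_mul, mul_sub, hgi, smul_mul_assoc, mul_smul_comm, one_mul, mul_one]
  have hxj : x * j = j * x := by rw [hx, sub_mul, mul_sub, hgj, smul_mul_assoc, mul_smul_comm, one_mul, mul_one]
  have hanti : j * (x * i) * j = x * i := by
    calc j * (x * i) * j = (j * x) * (i * j) := by simp only [mul_assoc]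
      _ = (x * j) * -(j * i) := by rw [← hxj, hij]
      _ = -(x * (j * j) * i) := by simp only [mul_neg, mul_assoc]
      _ = x * i := by rw [hjj]; simp
  have htr : (x * i).trace = 0 := by
    have h : (x * i).trace = -(x * i).trace := by
      conv_lhs => rw [← hanti]
      rw [Matrix.trace_mul_comm, ← mul_assoc, hjj, neg_one_mul, Matrix.trace_neg]
    exact (mul_eq_zero.1 (show (2 : F) * (x * i).trace = 0 by linear_combination h)).resolve_left h2
  have h0 : (2 : F) • (x * i) = 0 := by
    rw [two_smul]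
    conv_lhs => arg 2; rw [hxi]
    rw [sum_mul_eq_trace hxt hi, htr, zero_smul]
  have h1 : x * i = 0 := (smul_eq_zero.1 h0).resolve_left h2
  have h3 : x = 0 := by
    calc x = -(x * (i * i)) := by rw [hii, mul_neg, mul_one, neg_neg]
      _ = 0 := by rw [← mul_assoc, h1, zero_mul, neg_zero]
  exact sub_eq_zero.1 h3

/-- An inner-diagonal automorphism centralising a four-group is inner. -/
theorem inner_of_four (h2 : (2 : F) ≠ 0) (g : GL (Fin 2) F) {v w : PSL2} (hv : v ≠ 1) (hw : w ≠ 1)
    (hvw : v ≠ w) (hv2 : v * v = 1) (hw2 : w * w = 1) (hvwc : v * w = w * v)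
    (hgv : δ g v = v) (hgw : δ g w = w) : ∃ y : PSL2, δ g = MulAut.conj y := by
  obtain ⟨s, rfl⟩ := QuotientGroup.mk_surjective v
  obtain ⟨r, rfl⟩ := QuotientGroup.mk_surjective w
  obtain ⟨hst, hss⟩ := lift_invol hv hv2
  obtain ⟨hrt, hrr⟩ := lift_invol hw hw2
  set i := (s : M2)
  set j := (r : M2)
  have hij : i * j = -(j * i) := by
    obtain ⟨a, ha, he⟩ := mk_eq_iff (s * r) (r * s) hvwc
    rw [Matrix.SpecialLinearGroup.coe_mul, Matrix.SpecialLinearGroup.coe_mul] at he
    rcases ha with rfl | rfl
    · exfalso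
      rw [one_smul] at he
      have hsum : i * j + j * i = (i * j).trace • (1 : M2) := sum_mul_eq_trace hst hrt
      rw [← he] at hsum
      have hval : i * j = ((i * j).trace / 2) • (1 : M2) := by
        rw [← two_smul F (i * j)] at hsum
        have := congrArg (fun M => ((2 : F)⁻¹) • M) hsum
        simp only [smul_smul, inv_mul_cancel₀ h2, one_smul] at this
        exact this.trans (by rw [div_eq_inv_mul])
      set c := (i * j).trace / 2
      have hj : j = (-c) • i := by
        calc j = -(i * i * j) := by rw [hss, neg_one_mul, neg_neg]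
          _ = (-c) • i := by rw [mul_assoc, hval, mul_smul_comm, mul_one, neg_smul]
      have hc : c * c = 1 := by
        have h := hrr
        rw [hj, smul_mul_smul_comm, hss, neg_mul_neg] at h
        have h' := congrFun (congrFun h 0) 0
        simp at h'
        exact h'
      refine hvw ?_
      have h1 : (QuotientGroup.mk (r * s⁻¹) : PSL2) = 1 := by
        refine (mk_eq_one_iff _).2 ⟨-c, by linear_combination hc, ?_⟩
        rw [Matrix.SpecialLinearGroup.coe_mul, show (r : M2) = (-c) • i from hj, smul_mul_assoc,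
          ← Matrix.SpecialLinearGroup.coe_mul, mul_inv_cancel, Matrix.SpecialLinearGroup.coe_one]
      rw [QuotientGroup.mk_mul, QuotientGroup.mk_inv, mul_inv_eq_one] at h1
      exact h1.symm
    · rw [neg_smul, one_smul] at he; exact he
  have act : ∀ t : SL2, δ g (QuotientGroup.mk t : PSL2) = QuotientGroup.mk t →
      ∃ a : F, (a = 1 ∨ a = -1) ∧ (g : M2) * (t : M2) = a • ((t : M2) * (g : M2)) := by
    intro t ht
    rw [δ_mk] at ht
    obtain ⟨a, ha, he⟩ := mk_eq_iff _ _ ht
    refine ⟨a, ha, ?_⟩
    rw [conjSL_coe] at he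
    calc (g : M2) * (t : M2) = (g : M2) * (t : M2) * (((g⁻¹ : GL (Fin 2) F) : M2) * (g : M2)) := by
          rw [Units.inv_mul, mul_one]
      _ = a • ((t : M2) * (g : M2)) := by rw [← mul_assoc, he, smul_mul_assoc]
  obtain ⟨a, ha, hga⟩ := act s hgv
  obtain ⟨b, hb, hgb⟩ := act r hgw
  have hji : j * i = -(i * j) := by rw [hij, neg_neg]
  have fin : ∀ e : SL2, ((e : M2) * (g : M2)) * i = i * ((e : M2) * (g : M2)) →
      ((e : M2) * (g : M2)) * j = j * ((e : M2) * (g : M2)) → ∃ y : PSL2, δ g = MulAut.conj y := by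
    intro e h1 h3
    obtain ⟨c, hc⟩ := scalar_of_commute h2 hst hss hrr hij h1 h3
    refine ⟨QuotientGroup.mk e⁻¹, MulEquiv.ext fun x => ?_⟩
    induction x using QuotientGroup.induction_on with
    | H t =>
      rw [δ_mk, MulAut.conj_apply, ← QuotientGroup.mk_inv, ← QuotientGroup.mk_mul, ← QuotientGroup.mk_mul]
      refine congrArg _ (Subtype.ext ?_)
      rw [conjSL_coe, inv_inv, Matrix.SpecialLinearGroup.coe_mul, Matrix.SpecialLinearGroup.coe_mul]
      have hei : ((e⁻¹ : SL2) : M2) * (e : M2) = 1 := by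
        rw [← Matrix.SpecialLinearGroup.coe_mul, inv_mul_cancel, Matrix.SpecialLinearGroup.coe_one]
      have hg : (g : M2) = c • ((e⁻¹ : SL2) : M2) := by
        calc (g : M2) = ((e⁻¹ : SL2) : M2) * ((e : M2) * (g : M2)) := by rw [← mul_assoc, hei, one_mul]
          _ = c • ((e⁻¹ : SL2) : M2) := by rw [hc, mul_smul_comm, mul_one]
      have key : (g : M2) * (t : M2) = ((e⁻¹ : SL2) : M2) * (t : M2) * (e : M2) * (g : M2) := by
        rw [mul_assoc _ (e : M2) (g : M2), hc, mul_smul_comm, mul_one, hg, smul_mul_assoc]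
      calc (g : M2) * (t : M2) * ((g⁻¹ : GL (Fin 2) F) : M2)
            = ((e⁻¹ : SL2) : M2) * (t : M2) * (e : M2) * ((g : M2) * ((g⁻¹ : GL (Fin 2) F) : M2)) := by
              rw [key]; simp only [mul_assoc]
        _ = ((e⁻¹ : SL2) : M2) * (t : M2) * (e : M2) := by rw [Units.mul_inv, mul_one]
  rcases ha with rfl | rfl <;> rcases hb with rfl | rfl <;>
    simp only [neg_smul, one_smul] at hga hgb
  · exact fin 1 (by simpa using hga) (by simpa using hgb)
  · refine fin s ?_ ?_
    · rw [mul_assoc, hga, ← mul_assoc]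
    · rw [mul_assoc, hgb, mul_neg, ← mul_assoc, hij, neg_mul, neg_neg, mul_assoc]
  · refine fin r ?_ ?_
    · rw [mul_assoc, hga, mul_neg, ← mul_assoc, hji, neg_mul, neg_neg, mul_assoc]
    · rw [mul_assoc, hgb, ← mul_assoc]
  · refine fin (s * r) ?_ ?_ <;> rw [Matrix.SpecialLinearGroup.coe_mul]
    · rw [mul_assoc (i * j), hga, mul_neg, ← mul_assoc (i * j), mul_assoc i j i, hji, mul_neg,
        neg_mul, neg_neg]
      simp only [mul_assoc]
      rfl
    · rw [mul_assoc (i * j), hgb, mul_neg, ← mul_assoc (i * j), mul_assoc i j j, hrr, mul_neg_one,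
        neg_mul, neg_neg, ← mul_assoc j (i * j), ← mul_assoc j i j, hji, neg_mul, mul_assoc i j j, hrr,
        mul_neg_one, neg_neg]

/-- The fixed points of an automorphism. -/
def fixSub (α : MulAut PSL2) : Subgroup PSL2 where
  carrier := {x | α x = x}
  one_mem' := map_one α
  mul_mem' {a b} ha hb := by
    show α (a * b) = a * b
    rw [map_mul, show α a = a from ha, show α b = b from hb]
  inv_mem' {a} ha := by
    show α a⁻¹ = a⁻¹
    rw [map_inv, show α a = a from ha]

/-- An automorphism of order two involving a field automorphism: its fixed group has order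
divisible by the order of the fixed field, whose square is `q`. -/
theorem field_case [Finite F] (h2 : (2 : F) ≠ 0) (g : GL (Fin 2) F) {σ : F ≃+* F} (hσ : σ ≠ 1)
    (hsq : (δ g * fld σ : MulAut PSL2) * (δ g * fld σ) = 1) :
    ∃ r : ℕ, Nat.card F = r * r ∧ 1 < r ∧ r ∣ Nat.card (fixSub (δ g * fld σ : MulAut PSL2)) := by
  have e : (δ g * fld σ : MulAut PSL2) * (δ g * fld σ) =
      δ (g * Matrix.GeneralLinearGroup.map (σ : F →+* F) g) * fld (σ * σ) := by
    rw [map_mul, map_mul, mul_assoc (δ g), ← mul_assoc (fld σ) (δ g), fld_δ]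
    simp only [mul_assoc]
  rw [e] at hsq
  obtain ⟨hcen, hσ2⟩ := δ_fld_eq_one le_rfl hsq
  obtain ⟨u, hu⟩ := (mem_center_iff_scalar _).1 hcen
  have hord : orderOf σ = 2 := orderOf_eq_prime (by rw [pow_two, hσ2]) hσ
  have hsp : sprod (g : M2) σ 2 = (u : F) • 1 := by
    have h := congrArg Units.val hu
    rw [Units.val_mul] at h
    rw [show (u : F) • (1 : M2) = ((GeneralLinearGroup.scalar (Fin 2) u : GL (Fin 2) F) : M2) by
      ext i j; fin_cases i <;> fin_cases j <;> simp, h]
    simp [sprod]
  obtain ⟨P, a, ha, hP⟩ := descent_scalar two_pos hord g.isUnit hsp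
  have hconj : (δ g * fld σ : MulAut PSL2) * δ P = δ P * fld σ := by
    rw [mul_assoc, fld_δ, ← mul_assoc, ← map_mul]
    congr 1
    have hmem : GeneralLinearGroup.scalar (Fin 2) (Units.mk0 a ha) ∈ (δ : GL (Fin 2) F →* MulAut PSL2).ker := by
      rw [ker_δ le_rfl, mem_center_iff_scalar]; exact ⟨_, rfl⟩
    have hgP : P = GeneralLinearGroup.scalar (Fin 2) (Units.mk0 a ha) *
        (g * Matrix.GeneralLinearGroup.map (σ : F →+* F) P) := by
      refine Units.ext ?_
      rw [Units.val_mul, Units.val_mul,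
        show ((GeneralLinearGroup.scalar (Fin 2) (Units.mk0 a ha) : GL (Fin 2) F) : M2) = a • 1 by
          ext i j; fin_cases i <;> fin_cases j <;> simp,
        smul_mul_assoc, one_mul]
      rw [smul_mul_assoc] at hP
      exact hP.symm
    conv_rhs => rw [hgP, map_mul, MonoidHom.mem_ker.1 hmem, one_mul]
  let K : AddSubgroup F :=
    { carrier := {c | σ c = c}
      zero_mem' := map_zero σ
      add_mem' := fun {x y} hx hy => by
        show σ (x + y) = x + y
        rw [map_add, show σ x = x from hx, show σ y = y from hy]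
      neg_mem' := fun {x} hx => by
        show σ (-x) = -x
        rw [map_neg, show σ x = x from hx] }
  have hσσ : ∀ x, σ (σ x) = x := fun x => RingEquiv.congr_fun hσ2 x
  obtain ⟨d, hd⟩ : ∃ d, σ d ≠ d := by
    by_contra h
    push Not at h
    exact hσ (RingEquiv.ext h)
  set ε := σ d - d with hε
  have hε0 : ε ≠ 0 := sub_ne_zero.2 hd
  have hεσ : σ ε = -ε := by rw [hε, map_sub, hσσ]; ring
  have hcard : Nat.card F = Nat.card K * Nat.card K := by
    let m : K × K → F := fun p => (p.1 : F) + (p.2 : F) * ε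
    have hm : Function.Bijective m := by
      constructor
      · rintro ⟨⟨x, hx⟩, ⟨y, hy⟩⟩ ⟨⟨x', hx'⟩, ⟨y', hy'⟩⟩ h
        simp only [m] at h
        have h' := congrArg σ h
        rw [map_add, map_add, map_mul, map_mul, show σ x = x from hx, show σ y = y from hy,
          show σ x' = x' from hx', show σ y' = y' from hy', hεσ] at h'
        have hxx : x = x' := sub_eq_zero.1 ((mul_eq_zero.1 (show (2 : F) * (x - x') = 0 by
          linear_combination h + h')).resolve_left h2)
        subst hxx
        have hyy : y = y' := mul_right_cancel₀ hε0 (add_left_cancel h)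
        subst hyy
        rfl
      · intro x
        have h2σ : σ (2 : F) = 2 := map_ofNat σ 2
        refine ⟨(⟨(x + σ x) / 2, ?_⟩, ⟨(x - σ x) / (2 * ε), ?_⟩), ?_⟩
        · show σ _ = _
          rw [map_div₀, map_add, hσσ, h2σ, add_comm]
        · show σ _ = _
          rw [map_div₀, map_sub, map_mul, hσσ, h2σ, hεσ, mul_neg, div_neg, ← neg_div, neg_sub]
        · show (x + σ x) / 2 + (x - σ x) / (2 * ε) * ε = x
          field_simp
          ring
    rw [← Nat.card_eq_of_bijective m hm, Nat.card_prod]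
  refine ⟨Nat.card K, hcard, ?_, ?_⟩
  · exact Finite.one_lt_card_iff_nontrivial.2 ⟨⟨0, ⟨1, map_one σ⟩, fun h => zero_ne_one (congrArg Subtype.val h)⟩⟩
  · have h01 : (0 : Fin 2) ≠ 1 := by decide
    let f : Multiplicative K →* fixSub (δ g * fld σ : MulAut PSL2) := MonoidHom.mk'
      (fun c => ⟨δ P (X 0 1 ((Multiplicative.toAdd c : K) : F)), by
        show (δ g * fld σ : MulAut PSL2) _ = _
        rw [← MulAut.mul_apply, hconj, MulAut.mul_apply, fld_X σ h01,
          show σ ((Multiplicative.toAdd c : K) : F) = _ from (Multiplicative.toAdd c).2]⟩)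
      (fun c c' => Subtype.ext (by
        show δ P (X 0 1 _) = δ P (X 0 1 _) * δ P (X 0 1 _)
        rw [← map_mul, ← X_add h01]; rfl))
    have hf : Function.Injective f := fun c c' h =>
      Multiplicative.toAdd.injective (Subtype.ext (X_injective h01
        ((δ P).injective (congrArg Subtype.val h))))
    have := Subgroup.card_dvd_of_injective f hf
    rwa [Nat.card_congr Multiplicative.toAdd] at this

end NoTwist

open NoTwist in
/-- Piece P8. -/
theorem noTwist : StmtNoTwist.{u} := by
  intro G _ _ N _ V t hCN ht htN hS hfix _ hV F _ _ hodd hq ⟨e⟩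
  have hoddN : Odd (Nat.card F) := by rwa [Nat.card_eq_fintype_card]
  have h2 : (2 : F) ≠ 0 := by
    intro h
    obtain ⟨p, hp⟩ := CharP.exists F
    have hpp : p.Prime := CharP.char_is_prime F p
    have hdvd : p ∣ 2 := (CharP.cast_eq_zero_iff F p 2).1 (by exact_mod_cast h)
    obtain rfl := (Nat.prime_dvd_prime_iff_eq hpp Nat.prime_two).1 hdvd
    obtain ⟨k, -, hk⟩ := FiniteField.card F 2
    rw [hk] at hodd
    exact (Nat.not_odd_iff_even.2 (Nat.even_pow.2 ⟨even_two, k.ne_zero⟩)) hodd
  let cN : MulAut N := MulAut.conjNormal t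
  have hcN : ∀ n : N, (cN n : G) = t * n * t⁻¹ := fun n => MulAut.conjNormal_apply t n
  let α : MulAut (Matrix.ProjectiveSpecialLinearGroup (Fin 2) F) := (e.symm.trans cN).trans e
  have hα : ∀ x, α x = e (cN (e.symm x)) := fun x => rfl
  have htt : t * t = 1 := by rw [← pow_two, ← ht, pow_orderOf_eq_one]
  have hα2 : α * α = 1 := by
    refine MulEquiv.ext fun x => ?_
    rw [MulAut.mul_apply, MulAut.one_apply, hα, hα, e.symm_apply_apply]
    have : cN (cN (e.symm x)) = e.symm x := by
      refine Subtype.ext ?_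
      rw [hcN, hcN, inv_eq_of_mul_eq_one_right htt]
      calc t * (t * (e.symm x : G) * t) * t = (t * t) * (e.symm x : G) * (t * t) := by group
        _ = _ := by rw [htt, one_mul, mul_one]
    rw [this, e.apply_symm_apply]
  have hαV : ∀ v ∈ V, α (e v) = e v := fun v hv => by
    rw [hα, e.symm_apply_apply]
    exact congrArg e (Subtype.ext ((hcN v).trans (hV v hv)))
  obtain ⟨g, σ, f, hf, hdec⟩ := decomp le_rfl α
  have hf1 : f = 1 := hf.resolve_right fun h => by omega
  rw [hf1, mul_one] at hdec
  by_cases hσ : σ = 1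
  · rw [hσ, map_one, mul_one] at hdec
    haveI := hS.four
    haveI : Nontrivial V := Finite.one_lt_card_iff_nontrivial.1 (by rw [IsKleinFour.card_four]; norm_num)
    obtain ⟨v, hv⟩ := exists_ne (1 : V)
    obtain ⟨w, hw, hwv⟩ : ∃ w : V, w ≠ 1 ∧ w ≠ v := by
      classical
      haveI := Fintype.ofFinite V
      obtain ⟨w, -, hw⟩ := Finset.exists_mem_notMem_of_card_lt_card (s := ({1, v} : Finset V))
        (t := Finset.univ) (by
          rw [Finset.card_univ, ← Nat.card_eq_fintype_card, IsKleinFour.card_four]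
          exact lt_of_le_of_lt Finset.card_le_two (by norm_num))
      simp only [Finset.mem_insert, Finset.mem_singleton, not_or] at hw
      exact ⟨w, hw⟩
    have sq : ∀ x : V, e (x : N) * e (x : N) = 1 := fun x => by
      rw [← map_mul, ← Subgroup.coe_mul, IsKleinFour.mul_self, OneMemClass.coe_one, map_one]
    obtain ⟨y, hy⟩ := inner_of_four h2 g (v := e (v : N)) (w := e (w : N))
      (fun h => hv (Subtype.ext (e.injective (by rw [h, OneMemClass.coe_one, map_one]))))
      (fun h => hw (Subtype.ext (e.injective (by rw [h, OneMemClass.coe_one, map_one]))))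
      (fun h => hwv (Subtype.ext (e.injective h.symm))) (sq v) (sq w)
      (by
        have hc := IsKleinFour.isMulCommutative.is_comm.comm v w
        rw [← map_mul, ← map_mul, ← Subgroup.coe_mul, ← Subgroup.coe_mul, hc])
      (by rw [← hdec]; exact hαV _ v.2) (by rw [← hdec]; exact hαV _ w.2)
    obtain ⟨n, rfl⟩ := e.surjective y
    have hmem : (n : G)⁻¹ * t ∈ centralizer (N : Set G) := by
      rw [Subgroup.mem_centralizer_iff]
      intro x hx
      have h := congrArg (fun a : MulAut _ => a (e ⟨x, hx⟩)) (hdec.trans hy)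
      simp only [hα, e.symm_apply_apply, MulAut.conj_apply, ← map_inv, ← map_mul] at h
      have h' : t * x * t⁻¹ = n * x * (n : G)⁻¹ := by
        have := congrArg Subtype.val (e.injective h)
        rw [hcN] at this
        exact this
      calc x * ((n : G)⁻¹ * t) = (n : G)⁻¹ * ((n : G) * x * (n : G)⁻¹) * t := by group
        _ = (n : G)⁻¹ * (t * x * t⁻¹) * t := by rw [h']
        _ = (n : G)⁻¹ * t * x := by group
    rw [hCN, Subgroup.mem_bot, inv_mul_eq_one] at hmem
    exact htN (hmem ▸ n.2)
  · rw [hdec] at hα2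
    obtain ⟨r, hr, hr1, hdvd⟩ := field_case h2 g hσ hα2
    have hcard : Nat.card (fixSub (δ g * fld σ : MulAut (Matrix.ProjectiveSpecialLinearGroup (Fin 2) F))) = 24 := by
      rw [← hdec, ← hfix]
      have fwd : ∀ x : (N ⊓ centralizer ({t} : Set G) : Subgroup G),
          e ⟨x, x.2.1⟩ ∈ fixSub α := fun x => by
        show α _ = _
        rw [hα, e.symm_apply_apply]
        refine congrArg e (Subtype.ext ?_)
        rw [hcN]
        show t * (x : G) * t⁻¹ = x
        rw [← Subgroup.mem_centralizer_singleton_iff.1 x.2.2, mul_inv_cancel_right]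
      have bwd : ∀ y : fixSub α,
          ((e.symm (y : _) : N) : G) ∈ N ⊓ centralizer ({t} : Set G) := fun y => by
        refine ⟨SetLike.coe_mem _, Subgroup.mem_centralizer_singleton_iff.2 ?_⟩
        have h := congrArg (fun z => ((e.symm z : N) : G)) y.2
        simp only [hα, e.symm_apply_apply, hcN] at h
        exact (mul_inv_eq_iff_eq_mul.1 h).symm
      symm
      refine Nat.card_congr ⟨fun x => ⟨_, fwd x⟩, fun y => ⟨_, bwd y⟩, fun x => ?_, fun y => ?_⟩
      · refine Subtype.ext ?_
        simp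
      · refine Subtype.ext ?_
        simp
    rw [hcard] at hdvd
    have hrodd : Odd r := (Nat.odd_mul.1 (hr ▸ hoddN)).1
    have hr3 : r = 3 := by
      have hle := Nat.le_of_dvd (by norm_num) hdvd
      obtain ⟨k, hk⟩ := hrodd
      interval_cases r <;> omega
    have hq9 : Nat.card F = 9 := by rw [hr, hr3]
    have h16 := hS.big
    rw [Nat.card_congr e.toEquiv] at h16
    have hps := CfsgLib.Classical.card_PSL_two_mul (F := F)
    rw [hq9] at hps
    norm_num at hps
    omega

end CfsgLib.Subdeg3
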