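import Cfsg.Agent.Lib.Subdeg3.Defs
import Cfsg.Agent.Lib.PSL2.Subfields
import Cfsg.Agent.Lib.Spor.MathieuConj
import Cfsg.Agent.S1602
import Cfsg.Agent.S1603
import Cfsg.Agent.Lib.KnownA.MathieuOut.Main

/-!
# The field is prime when the normalizer of the four-group is maximal
-/

set_option autoImplicit false
set_option linter.style.haveILetI false

namespace CfsgLib.Subdeg3

open Subgroup Matrix
open scoped Pointwise

universe u

section PSL

open CfsgLib.PSL2

variable {F : Type*} [Field F] [Finite F] {p : ℕ} [Fact p.Prime] [CharP F p]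

local notation "PG" => Matrix.ProjGenLinGroup (Fin 2) F

include p in
/-- A proper subfield with at least five elements swallows the normaliser of a four-group. -/
theorem false_of_subfield (hodd : Odd (Nat.card F)) {x y : PG} (h : FourPair x y)
    (hmax : MaxSub (fourNorm x y)) (K : Subfield F) (hK : K ≠ ⊤) (h5 : 5 ≤ Nat.card K) : False := by
  have hKodd : Odd (Nat.card K) := by
    have hp2 := Module.natCard_eq_pow_finrank (K := K) (V := F)
    rw [hp2] at hodd
    by_contra hh
    rw [Nat.not_odd_iff_even] at hh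
    exact Nat.not_even_iff_odd.2 hodd (hh.pow_of_ne_zero (Module.finrank_pos (R := K) (M := F)).ne')
  haveI : CharP K p := (RingHom.charP_iff_charP K.subtype p).2 inferInstance
  obtain ⟨a, b, hab⟩ := exists_fourPair (F := K) p hKodd
  let φ : Matrix.ProjGenLinGroup (Fin 2) K →* PG := ProjGenLinGroup.map K.subtype
  have hinj : Function.Injective φ := map_subtype_injective K.subtype
  have hpsl : ∀ {z : Matrix.ProjGenLinGroup (Fin 2) K}, z ∈ pslRange K → φ z ∈ pslRange F := fun {z} hz => by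
    have h1 := map_mem_psl K (1 : PG) hz
    rwa [one_mul, inv_one, mul_one] at h1
  have hab' : FourPair (φ a) (φ b) :=
    { hx := hpsl hab.hx
      hy := hpsl hab.hy
      x1 := fun e => hab.x1 (hinj (e.trans (map_one φ).symm))
      y1 := fun e => hab.y1 (hinj (e.trans (map_one φ).symm))
      ne := fun e => hab.ne (hinj e)
      sx := by rw [← map_mul, hab.sx, map_one]
      sy := by rw [← map_mul, hab.sy, map_one]
      comm := hab.comm.map φ }
  have hsub : (fourNorm a b).map φ ≤ fourNorm (φ a) (φ b) := by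
    rintro _ ⟨g, hg, rfl⟩
    have hmem : ∀ w, w ∈ fourGrp a b → φ w ∈ fourGrp (φ a) (φ b) := fun w hw => by
      obtain ⟨h1, h2⟩ := mem_fourGrp.1 hw
      exact mem_fourGrp.2 ⟨h1.map φ, h2.map φ⟩
    refine hab'.mem_norm hodd ?_ ?_
    · simpa using hmem _ (fourNorm_conj_mem hg hab.left_mem)
    · simpa using hmem _ (fourNorm_conj_mem hg hab.right_mem)
  have heq : (fourNorm a b).map φ = fourNorm (φ a) (φ b) := by
    refine Subgroup.eq_of_le_of_card_ge hsub ?_
    rw [Subgroup.card_map_of_injective hinj, hab.card_norm hKodd, hab'.card_norm hodd]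
  obtain ⟨g, rfl, rfl⟩ := hab'.conj p hodd h
  have hle : fourNorm (g * φ a * g⁻¹) (g * φ b * g⁻¹) ≤ subGroupK K g := by
    rw [← fourNorm_map_conj, ← heq]
    rintro _ ⟨_, ⟨w, -, rfl⟩, rfl⟩
    exact mem_subGroupK w
  have hL := hmax.eq _ (le_inf hle hmax.lt.le) (subGroupK_inf_lt hK g)
  have hbig : Nat.card (subGroupK K g) ≤ 2 * Nat.card ↥(subGroupK K g ⊓ pslRange F) := by
    have h1 := ((subGroupK K g ⊓ pslRange F).subgroupOf (subGroupK K g)).card_mul_index
    rw [Nat.card_congr (Subgroup.subgroupOfEquivOfLe inf_le_left).toEquiv] at h1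
    rw [← h1, mul_comm 2]
    refine Nat.mul_le_mul_left _ (Nat.le_of_dvd two_pos ?_)
    rw [← Subgroup.relIndex, inf_comm, Subgroup.inf_relIndex_right]
    exact (Subgroup.relIndex_dvd_index_of_normal _ _).trans
      (index_pslRange (F := F) ▸ Nat.gcd_dvd_left _ _)
  rw [hL, h.card_norm hodd, card_subGroupK] at hbig
  have : 6 * (5 * 4) ≤ (Nat.card K + 1) * (Nat.card K * (Nat.card K - 1)) :=
    Nat.mul_le_mul (by omega) (Nat.mul_le_mul h5 (by omega))
  omega

end PSL

/-- `16 ∣ |PSL₂(q)|` forces `q ≡ ±1 (mod 16)`. -/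
theorem mod_sixteen {q : ℕ} (hq : Odd q) (h : 32 ∣ (q + 1) * (q * (q - 1))) :
    q % 16 = 1 ∨ q % 16 = 15 := by
  have h1 : ((q + 1) * (q * (q - 1))) % 32 = 0 := Nat.mod_eq_zero_of_dvd h
  have h2 : q % 2 = 1 := Nat.odd_iff.1 hq
  obtain ⟨j, hj⟩ : ∃ j, q = j + 1 := ⟨q - 1, by omega⟩
  subst hj
  rw [Nat.add_sub_cancel, Nat.mul_mod, Nat.add_mod, Nat.mul_mod (j + 1), Nat.add_mod j] at h1
  have hr : j % 32 < 32 := Nat.mod_lt _ (by norm_num)
  have hj2 : j % 32 % 2 = 0 := by omega
  have hj16 : j % 32 % 16 = j % 16 := by omega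
  have key : ∀ r < 32, r % 2 = 0 →
      (((r + 1) % 32 + 1) % 32 * ((r + 1) % 32 * r % 32)) % 32 = 0 →
      r % 16 = 0 ∨ r % 16 = 14 := by decide
  have := key (j % 32) hr hj2 (by simpa [Nat.add_mod, Nat.mul_mod] using h1)
  omega

theorem pow_three_mod (m : ℕ) (h : 3 ^ m % 16 = 1 ∨ 3 ^ m % 16 = 15) : m % 4 = 0 := by
  have h1 : 3 ^ m % 16 = 3 ^ (m % 4) % 16 := by
    conv_lhs => rw [← Nat.div_add_mod m 4, pow_add, pow_mul, Nat.mul_mod, Nat.pow_mod]
    simp
  rw [h1] at h
  have h4 : m % 4 < 4 := Nat.mod_lt _ (by norm_num)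
  interval_cases hm : m % 4 <;> simp_all

theorem prime_field_of_coatom {G : Type u} [Group G] [Finite G] {V : Subgroup G} (hS : Setup G V)
    (hmax : IsCoatom (normalizer (V : Set G)))
    {F : Type} [Field F] [Fintype F] (hodd : Odd (Fintype.card F))
    (e : G ≃* Matrix.ProjectiveSpecialLinearGroup (Fin 2) F) :
    ∃ p : ℕ, p.Prime ∧ (p % 16 = 1 ∨ p % 16 = 15) ∧
      Nonempty (G ≃* Matrix.ProjectiveSpecialLinearGroup (Fin 2) (ZMod p)) := by
  obtain ⟨p, hpF⟩ := CharP.exists F
  haveI : Fact p.Prime := ⟨CharP.char_is_prime F p⟩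
  obtain ⟨m, hm, hm'⟩ := FiniteField.card F p
  have hoddN : Odd (Nat.card F) := by rwa [Nat.card_eq_fintype_card]
  -- the order
  have h16 : Nat.card F % 16 = 1 ∨ Nat.card F % 16 = 15 := by
    refine mod_sixteen hoddN ?_
    rw [← PSL2.two_mul_psl_of_odd hoddN]
    have h1 : Nat.card (PSL2.pslRange F) = Nat.card G :=
      (Nat.card_congr (MonoidHom.ofInjective (f := ProjectiveSpecialLinearGroup.toPGL (n := Fin 2) (R := F))
        ProjectiveSpecialLinearGroup.toPGL_injective).toEquiv).symm.trans (Nat.card_congr e.toEquiv).symm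
    rw [h1]
    exact mul_dvd_mul_left 2 hS.big
  have hc : Nat.card F = p ^ (m : ℕ) := by rw [Nat.card_eq_fintype_card, hm']
  by_cases hm1 : (m : ℕ) = 1
  · rw [hc, hm1, pow_one] at h16
    refine ⟨p, hm, h16, ?_⟩
    haveI : Fintype (ZMod p) := ZMod.fintype p
    obtain ⟨c⟩ := PSL2.nonempty_psl_congr (n := Fin 2) (FiniteField.ringEquivOfCardEq
      (K := F) (K' := ZMod p) (by rw [hm', hm1, pow_one, ZMod.card]))
    exact ⟨e.trans c⟩
  exfalso
  -- transport of the normaliser
  set f : G →* Matrix.ProjGenLinGroup (Fin 2) F :=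
    (ProjectiveSpecialLinearGroup.toPGL (n := Fin 2) (R := F)).comp e.toMonoidHom with hfdef
  have hf : Function.Injective f := ProjectiveSpecialLinearGroup.toPGL_injective.comp e.injective
  have hVK : IsKleinFour (V.map f) := by
    haveI := hS.four
    exact ⟨by rw [Subgroup.card_map_of_injective hf]; exact IsKleinFour.card_four,
      by rw [← Monoid.exponent_eq_of_mulEquiv (V.equivMapOfInjective f hf)]; exact IsKleinFour.exponent_two⟩
  have hVle : V.map f ≤ PSL2.pslRange F := by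
    rintro _ ⟨v, -, rfl⟩
    exact ⟨e v, rfl⟩
  obtain ⟨x, y, hxy, hV⟩ := PSL2.pair_of_klein hoddN hVK hVle
  have hN : (normalizer (V : Set G)).map f = PSL2.fourNorm x y := by
    refine Subgroup.eq_of_le_of_card_ge ?_ ?_
    · unfold PSL2.fourNorm
      rw [← hV]
      exact Subgroup.le_normalizer_map f
    · rw [Subgroup.card_map_of_injective hf, hS.norm, hxy.card_norm hoddN]
  have hmax' : PSL2.MaxSub (PSL2.fourNorm x y) := by
    rw [← hN, hfdef, ← Subgroup.map_map]
    refine PSL2.maxSub_of_isCoatom ?_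
    exact (OrderIso.isCoatom_iff e.mapSubgroup _).2 hmax
  -- the subfield
  set r := Nat.minFac (m : ℕ) with hrdef
  have hr : r.Prime := Nat.minFac_prime hm1
  obtain ⟨j, hj⟩ := Nat.minFac_dvd (m : ℕ)
  rw [← hrdef] at hj
  have hj0 : 0 < j := Nat.pos_of_ne_zero fun h0 => by
    have := m.pos
    rw [h0, mul_zero] at hj
    omega
  obtain ⟨K, hK, hKr⟩ := PSL2.exists_subfield_card (F := F) p (Q := p ^ j) (r := r)
    (by rw [hc, hj, ← pow_mul, mul_comm r j]) hr.pos
  refine false_of_subfield (p := p) hoddN hxy hmax' K ?_ ?_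
  · rintro rfl
    rw [Nat.card_congr Subfield.topEquiv.toEquiv, hc] at hK
    have := Nat.pow_right_injective hm.two_le hK
    have := hr.two_le
    have : 2 * j ≤ r * j := Nat.mul_le_mul_right _ hr.two_le
    omega
  · rw [hK]
    have hp2 : p ≠ 2 := PSL2.ne_two_of_odd (p := p) hoddN
    have hp3 := hm.two_le
    by_cases h3 : p = 3
    · subst h3
      rw [hc] at h16
      have h4 := pow_three_mod _ h16
      have h2 : r = 2 := (Nat.minFac_eq_two_iff _).2 (by omega)
      rw [h2] at hj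
      calc 5 ≤ 3 ^ 2 := by norm_num
        _ ≤ 3 ^ j := Nat.pow_le_pow_right (by norm_num) (by omega)
    · have hp4 : p ≠ 4 := fun h4 => by rw [h4] at hm; norm_num at hm
      calc 5 ≤ p := by omega
        _ ≤ p ^ j := Nat.le_self_pow hj0.ne' p

section M11

open Small.GL23 in
theorem gl23_invol_conj {z u v : Small.GL23.H} (hz : z * z = 1) (hz1 : z ≠ 1) (hzc : ∀ c, z * c = c * z)
    (hu : u * u = 1) (hu1 : u ≠ 1) (huz : u ≠ z) (hv : v * v = 1) (hv1 : v ≠ 1) (hvz : v ≠ z) :
    ∃ c : Small.GL23.H, c * u * c⁻¹ = v := by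
  have h1 : ∀ {a : Small.GL23.H}, a ≠ 1 → a.val ≠ 1 := fun ha e => ha (Units.ext e)
  have hz2 := central_involution z (mem_els z) (h1 hz1) (congrArg Units.val hz)
    fun c _ => congrArg Units.val (hzc c)
  obtain ⟨c, -, hc⟩ := involution_conj u (mem_els u) v (mem_els v) (h1 hu1) (congrArg Units.val hu)
    (fun e => huz (Units.ext (e.trans hz2.symm))) (h1 hv1) (congrArg Units.val hv)
    (fun e => hvz (Units.ext (e.trans hz2.symm)))
  exact ⟨c, by rw [show c * u = v * c from Units.ext hc, mul_inv_cancel_right]⟩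

theorem orderOf_four {G : Type*} [Group G] {W : Subgroup G} (hW : IsKleinFour W) :
    ∃ a b : G, a ∈ W ∧ b ∈ W ∧ orderOf a = 2 ∧ orderOf b = 2 ∧ a ≠ b ∧ Commute a b ∧ W = closure {a, b} := by
  classical
  haveI := hW
  haveI : Finite W := Nat.finite_of_card_ne_zero (by rw [IsKleinFour.card_four]; norm_num)
  haveI := Fintype.ofFinite W
  have h4 : Fintype.card W = 4 := by rw [← Nat.card_eq_fintype_card]; exact IsKleinFour.card_four
  obtain ⟨a, ha⟩ := Fintype.exists_ne_of_one_lt_card (by omega) (1 : W)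
  obtain ⟨b, -, hb⟩ : ∃ b ∈ (Finset.univ : Finset W), b ∉ ({1, a} : Finset W) :=
    Finset.exists_mem_notMem_of_card_lt_card (by rw [Finset.card_pair ha.symm, Finset.card_univ]; omega)
  rw [Finset.mem_insert, Finset.mem_singleton, not_or] at hb
  have ho : ∀ w : W, w ≠ 1 → orderOf (w : G) = 2 := fun w hw => by
    rw [Subgroup.orderOf_coe]
    exact orderOf_eq_prime (by rw [sq]; exact IsKleinFour.mul_self w) hw
  refine ⟨a, b, a.2, b.2, ho a ha, ho b hb.1, fun e => hb.2 (Subtype.ext e).symm,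
    congrArg Subtype.val (IsKleinFour.isMulCommutative.is_comm.comm a b), le_antisymm ?_ ?_⟩
  · intro w hw
    have hab : a * b ≠ 1 := fun e => hb.2 ((eq_inv_of_mul_eq_one_right e).trans (IsKleinFour.inv_eq_self a))
    have key : (⟨w, hw⟩ : W) ∈ ({1, a, b, a * b} : Finset W) := by
      rw [Finset.eq_univ_of_card ({1, a, b, a * b} : Finset W) (by
        rw [h4, Finset.card_eq_succ.2 ⟨1, {a, b, a * b}, ?_, rfl, ?_⟩]
        · simp [ha.symm, Ne.symm hb.1, Ne.symm hab]
        · rw [Finset.card_eq_three]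
          exact ⟨a, b, a * b, fun e => hb.2 e.symm, fun e => hb.1 (mul_eq_left.1 e.symm),
            fun e => ha (mul_eq_right.1 e.symm), rfl⟩)]
      exact Finset.mem_univ _
    have hA : (a : G) ∈ closure {(a : G), (b : G)} := subset_closure (Set.mem_insert _ _)
    have hB : (b : G) ∈ closure {(a : G), (b : G)} := subset_closure (Set.mem_insert_of_mem _ rfl)
    simp only [Finset.mem_insert, Finset.mem_singleton, Subtype.ext_iff, Subgroup.coe_one,
      Subgroup.coe_mul] at key
    rcases key with k | k | k | k <;> rw [k]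
    exacts [one_mem _, hA, hB, mul_mem hA hB]
  · rw [closure_le]
    rintro _ (rfl | rfl)
    exacts [a.2, b.2]

/-- In a group with one class of involutions with centralizer `GL₂(3)` all four-groups are conjugate. -/
theorem four_conj {G : Type*} [Group G] (hinv : ∀ a b : G, orderOf a = 2 → orderOf b = 2 → IsConj a b)
    (hc : ∀ z : G, orderOf z = 2 → Nonempty (centralizer ({z} : Set G) ≃* Small.GL23.H))
    {V W : Subgroup G} (hV : IsKleinFour V) (hW : IsKleinFour W) :
    ∃ g : G, V.map (MulAut.conj g).toMonoidHom = W := by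
  obtain ⟨a, b, -, -, ha, hb, hab, hcab, rfl⟩ := orderOf_four hV
  obtain ⟨z, w, -, -, hz, hw, hzw, hczw, rfl⟩ := orderOf_four hW
  obtain ⟨g, hg⟩ := isConj_iff.1 (hinv a z ha hz)
  obtain ⟨ψ⟩ := hc z hz
  set b' := g * b * g⁻¹ with hb'
  have hbo : orderOf b' = 2 := by
    rw [← hb]; exact orderOf_injective (MulAut.conj g).toMonoidHom (MulAut.conj g).injective b
  have hmem : ∀ {t : G}, Commute z t → t ∈ centralizer ({z} : Set G) := fun h =>
    Subgroup.mem_centralizer_singleton_iff.2 h.symm.eq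
  have hzb : Commute z b' := by
    rw [← hg, hb']; exact hcab.map (MulAut.conj g).toMonoidHom
  have hz' : z ∈ centralizer ({z} : Set G) := hmem (Commute.refl z)
  have hsq : ∀ {t : G} (ht : t ∈ centralizer ({z} : Set G)), orderOf t = 2 →
      ψ ⟨t, ht⟩ * ψ ⟨t, ht⟩ = 1 ∧ ψ ⟨t, ht⟩ ≠ 1 := fun {t} ht ho => by
    constructor
    · rw [← map_mul, MulEquiv.map_eq_one_iff, Subtype.ext_iff]
      show t * t = 1
      rw [← sq, ← ho, pow_orderOf_eq_one]
    · rw [Ne, MulEquiv.map_eq_one_iff, Subtype.ext_iff]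
      intro e
      rw [show t = 1 from e, orderOf_one] at ho
      norm_num at ho
  obtain ⟨c, hc'⟩ := gl23_invol_conj (hsq hz' hz).1 (hsq hz' hz).2
    (fun c => by
      obtain ⟨d, rfl⟩ := ψ.surjective c
      rw [← map_mul, ← map_mul]
      exact congrArg ψ (Subtype.ext (Subgroup.mem_centralizer_singleton_iff.1 d.2).symm))
    (hsq (hmem hzb) hbo).1 (hsq (hmem hzb) hbo).2
    (fun e => hab.symm ((MulAut.conj g).injective (by
      simpa [MulAut.conj_apply, hg, hb'] using congrArg Subtype.val (ψ.injective e))))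
    (hsq (hmem hczw) hw).1 (hsq (hmem hczw) hw).2
    (fun e => hzw.symm (congrArg Subtype.val (ψ.injective e)))
  obtain ⟨d, rfl⟩ := ψ.surjective c
  rw [← map_mul, ← map_inv, ← map_mul, ψ.apply_eq_iff_eq, Subtype.ext_iff] at hc'
  have hd : (d : G) * b' * (d : G)⁻¹ = w := hc'
  have hdz : (d : G) * z * (d : G)⁻¹ = z := by
    rw [Subgroup.mem_centralizer_singleton_iff.1 d.2, mul_inv_cancel_right]
  refine ⟨(d : G) * g, ?_⟩
  rw [MonoidHom.map_closure]
  congr 1
  rw [Set.image_pair]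
  have h1 : (MulAut.conj ((d : G) * g)).toMonoidHom a = z := by
    rw [MulEquiv.coe_toMonoidHom, MulAut.conj_apply, _root_.mul_inv_rev]
    rw [show (d : G) * g * a * (g⁻¹ * (d : G)⁻¹) = (d : G) * (g * a * g⁻¹) * (d : G)⁻¹ by group, hg, hdz]
  have h2 : (MulAut.conj ((d : G) * g)).toMonoidHom b = w := by
    rw [MulEquiv.coe_toMonoidHom, MulAut.conj_apply, _root_.mul_inv_rev]
    rw [show (d : G) * g * b * (g⁻¹ * (d : G)⁻¹) = (d : G) * (g * b * g⁻¹) * (d : G)⁻¹ by group, ← hb', hd]
  rw [h1, h2]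

open Equiv in
/-- `S₅` has a four-group normalised by 24 elements. -/
theorem perm_five_four : ∃ a b : Equiv.Perm (Fin 5), a * a = 1 ∧ b * b = 1 ∧ a * b = b * a ∧ a ≠ 1 ∧ b ≠ 1 ∧
    a ≠ b ∧ (∀ g : Equiv.Perm (Fin 5), (g * a = a * g ∧ g * b = b * g) ↔ (g = 1 ∨ g = a ∨ g = b ∨ g = a * b)) ∧ 24 ≤ (Finset.univ.filter fun g : Equiv.Perm (Fin 5) =>
      (g * a * g⁻¹ = a ∨ g * a * g⁻¹ = b ∨ g * a * g⁻¹ = a * b) ∧
      (g * b * g⁻¹ = a ∨ g * b * g⁻¹ = b ∨ g * b * g⁻¹ = a * b)).card :=
  ⟨swap 0 1 * swap 2 3, swap 0 2 * swap 1 3, by decide +kernel, by decide +kernel, by decide +kernel,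
    by decide +kernel, by decide +kernel, by decide +kernel, by decide +kernel, by decide +kernel⟩

/-- A subgroup `S₅` in such a group stops normalisers of four-groups from being maximal. -/
theorem not_coatom {G : Type*} [Group G] [Finite G]
    (hinv : ∀ a b : G, orderOf a = 2 → orderOf b = 2 → IsConj a b)
    (hc : ∀ z : G, orderOf z = 2 → Nonempty (centralizer ({z} : Set G) ≃* Small.GL23.H))
    {X : Subgroup G} (e : X ≃* Equiv.Perm (Fin 5)) (hX : X ≠ ⊤)
    {V : Subgroup G} (hV : IsKleinFour V) (hN : Nat.card (normalizer (V : Set G)) = 24) :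
    ¬ IsCoatom (normalizer (V : Set G)) := by
  classical
  intro hmax
  obtain ⟨a, b, ha, hb, hab, ha1, hb1, hne, hfour, hcard⟩ := perm_five_four
  set φ : Equiv.Perm (Fin 5) →* G := X.subtype.comp e.symm.toMonoidHom with hφ
  have hinj : Function.Injective φ := X.subtype_injective.comp e.symm.injective
  set W₀ : Subgroup (Equiv.Perm (Fin 5)) := centralizer {a, b} with hW₀def
  have hmemW : ∀ g : Equiv.Perm (Fin 5), g ∈ W₀ ↔ g = 1 ∨ g = a ∨ g = b ∨ g = a * b := fun g => by
    have h1 : g ∈ W₀ ↔ g * a = a * g ∧ g * b = b * g := by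
      rw [hW₀def, Subgroup.mem_centralizer_iff]
      simp only [Set.mem_insert_iff, Set.mem_singleton_iff, forall_eq_or_imp, forall_eq]
      exact ⟨fun h => ⟨h.1.symm, h.2.symm⟩, fun h => ⟨h.1.symm, h.2.symm⟩⟩
    rw [h1]
    exact hfour g
  have hW₀ : IsKleinFour W₀ := by
    have hset : (W₀ : Set (Equiv.Perm (Fin 5))) = {1, a, b, a * b} := Set.ext fun g => by
      simpa using hmemW g
    have hcard4 : Nat.card W₀ = 4 := by
      rw [← SetLike.coe_sort_coe, Nat.card_coe_set_eq, hset]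
      have h1 : a * b ≠ 1 := fun h => hne (by rw [← mul_one a, ← hb, ← mul_assoc, h, one_mul])
      rw [Set.ncard_insert_of_notMem (by simp [Ne.symm ha1, Ne.symm hb1, Ne.symm h1]),
        Set.ncard_insert_of_notMem (by simp [hne, hb1]),
        Set.ncard_pair (fun h => ha1 (mul_eq_right.1 h.symm))]
    haveI : Nontrivial W₀ := Finite.one_lt_card_iff_nontrivial.1 (by rw [hcard4]; norm_num)
    refine ⟨hcard4, (Monoid.exponent_eq_prime_iff Nat.prime_two).2 fun w hw => ?_⟩
    refine orderOf_eq_prime (Subtype.ext ?_) hw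
    rw [SubgroupClass.coe_pow, pow_two, OneMemClass.coe_one]
    rcases (hmemW w).1 w.2 with k | k | k | k <;> rw [k]
    · exact one_mul 1
    · exact ha
    · exact hb
    · rw [mul_assoc, ← mul_assoc b, ← hab, mul_assoc a b b, hb, mul_one, ha]
  have hW : IsKleinFour (W₀.map φ) := by
    haveI := hW₀
    exact ⟨by rw [Subgroup.card_map_of_injective hinj]; exact IsKleinFour.card_four,
      by rw [← Monoid.exponent_eq_of_mulEquiv (W₀.equivMapOfInjective φ hinj)]; exact IsKleinFour.exponent_two⟩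
  have h24 : 24 ≤ Nat.card (normalizer (W₀ : Set (Equiv.Perm (Fin 5)))) := by
    refine hcard.trans ?_
    rw [Nat.card_eq_fintype_card, Fintype.card_subtype]
    refine Finset.card_le_card fun g hg => ?_
    simp only [Finset.mem_filter, Finset.mem_univ, true_and] at hg ⊢
    refine Subgroup.mem_normalizer_iff_map_conj_eq.2 (Subgroup.eq_of_le_of_card_ge ?_ ?_)
    · rintro _ ⟨w, hw, rfl⟩
      show g * w * g⁻¹ ∈ W₀
      have hA : g * a * g⁻¹ ∈ W₀ := by
        rcases hg.1 with h | h | h <;> rw [h]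
        exacts [(hmemW _).2 (.inr (.inl rfl)), (hmemW _).2 (.inr (.inr (.inl rfl))), (hmemW _).2 (.inr (.inr (.inr rfl)))]
      have hB : g * b * g⁻¹ ∈ W₀ := by
        rcases hg.2 with h | h | h <;> rw [h]
        exacts [(hmemW _).2 (.inr (.inl rfl)), (hmemW _).2 (.inr (.inr (.inl rfl))), (hmemW _).2 (.inr (.inr (.inr rfl)))]
      rcases (hmemW _).1 hw with rfl | rfl | rfl | rfl
      · rw [mul_one, mul_inv_cancel]; exact one_mem _
      · exact hA
      · exact hB
      · rw [show g * (a * b) * g⁻¹ = g * a * g⁻¹ * (g * b * g⁻¹) by group]; exact mul_mem hA hB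
    · rw [Subgroup.card_map_of_injective (MulAut.conj g).injective]
  obtain ⟨g, hg⟩ := four_conj hinv hc hV hW
  have hnorm : (normalizer (V : Set G)).map (MulAut.conj g).toMonoidHom = normalizer ((W₀.map φ : Subgroup G) : Set G) := by
    rw [← hg]; exact Subgroup.map_equiv_normalizer_eq _ (MulAut.conj g)
  have hle : (normalizer (W₀ : Set (Equiv.Perm (Fin 5)))).map φ ≤ normalizer ((W₀.map φ : Subgroup G) : Set G) :=
    Subgroup.le_normalizer_map φ
  have heq : (normalizer (W₀ : Set (Equiv.Perm (Fin 5)))).map φ =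
      normalizer ((W₀.map φ : Subgroup G) : Set G) := by
    refine Subgroup.eq_of_le_of_card_ge hle ?_
    rw [← hnorm, Subgroup.card_map_of_injective (MulAut.conj g).injective, hN,
      Subgroup.card_map_of_injective hinj]
    exact h24
  have hsubX : normalizer ((W₀.map φ : Subgroup G) : Set G) ≤ X := by
    rw [← heq]; rintro _ ⟨w, -, rfl⟩; exact (e.symm w).2
  have hmax' : IsCoatom (normalizer ((W₀.map φ : Subgroup G) : Set G)) := by
    rw [← hnorm]; exact (OrderIso.isCoatom_iff (MulAut.conj g).mapSubgroup _).2 hmax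
  rcases eq_or_lt_of_le hsubX with h | h
  · have h1 : Nat.card X = 24 := by
      rw [← h, ← hnorm, Subgroup.card_map_of_injective (MulAut.conj g).injective, hN]
    rw [Nat.card_congr e.toEquiv, Nat.card_eq_fintype_card, Fintype.card_perm, Fintype.card_fin] at h1
    norm_num [Nat.factorial] at h1
  · exact hX (hmax'.2 _ h)

end M11

open Cfsg in
theorem not_isoM11 {G : Type u} [Group G] [Finite G] {V : Subgroup G} (hS : Setup G V)
    (hmax : IsCoatom (normalizer (V : Set G))) : ¬ Cfsg.Spor.IsoM11 G := by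
  rintro ⟨e⟩
  obtain ⟨hd, h0, hnone⟩ := CfsgLib.Spor.squareDodecad_facts
  let D : Subgroup M24 := MulAction.stabilizer M24 Cfsg.Spor.squareDodecad ⊓
      MulAction.stabilizer M24 (some 0 : GolayPt)
  let i : Cfsg.Spor.M11 ≃* D :=
    { toFun := fun g => ⟨⟨g.1, g.2.1.1⟩, g.2.1.2, g.2.2⟩
      invFun := fun g => ⟨g.1.1, ⟨g.1.2, g.2.1⟩, g.2.2⟩
      left_inv := fun _ => rfl
      right_inv := fun _ => rfl
      map_mul' := fun _ _ => rfl }
  set ψ : G ≃* D := e.trans i
  have hinv : ∀ a b : D, orderOf a = 2 → orderOf b = 2 → IsConj a b := by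
    have key : ∀ a : D, orderOf a = 2 → ∃ k : M24, k • CfsgLib.Spor.dod0 = Cfsg.Spor.squareDodecad ∧
        k • CfsgLib.Spor.pt 0 = (some 0 : GolayPt) ∧ ∀ t : M24,
          CfsgLib.Spor.Rep (t : Equiv.Perm GolayPt) CfsgLib.Spor.invElt → k * t * k⁻¹ = a := fun a ha => by
      have h2 : a * a = 1 := by rw [← sq, ← ha, pow_orderOf_eq_one]
      exact CfsgLib.Spor.involution_conj hd h0 a.2 (congrArg Subtype.val h2) (fun h => by
        rw [show a = 1 from Subtype.ext h, orderOf_one] at ha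
        norm_num at ha)
    intro a b ha hb
    obtain ⟨k, k1, k2, k3⟩ := key a ha
    obtain ⟨l, l1, l2, l3⟩ := key b hb
    obtain ⟨t, -, ht⟩ := CfsgLib.Spor.exists_baseOK CfsgLib.Spor.invCent_ok.2.2.2.1
    have hmem : l * k⁻¹ ∈ D := by
      refine ⟨?_, ?_⟩
      · show (l * k⁻¹) • Cfsg.Spor.squareDodecad = _
        rw [mul_smul, ← k1, inv_smul_smul, l1, k1]
      · show (l * k⁻¹) • (some 0 : GolayPt) = _
        rw [mul_smul, ← k2, inv_smul_smul, l2, k2]
    refine isConj_iff.2 ⟨⟨l * k⁻¹, hmem⟩, Subtype.ext ?_⟩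
    show l * k⁻¹ * (a : M24) * (l * k⁻¹)⁻¹ = b
    rw [← k3 t ht, ← l3 t ht]
    group
  obtain ⟨q, hq, q', hq', hqq'⟩ : ∃ q ∈ Cfsg.Spor.squareDodecadᶜ, ∃ q' ∈ Cfsg.Spor.squareDodecadᶜ, q ≠ q' := by
    refine Finset.one_lt_card.1 ?_
    decide +kernel
  rw [Finset.mem_compl] at hq hq'
  obtain ⟨f⟩ := Cfsg.Agent.S1602.result _ hd (some 0) q q' h0 hq hq' hqq'
  set Y : Subgroup M24 := D ⊓ MulAction.stabilizer M24 ({q, q'} : Finset GolayPt)
  have hYD : Y ≤ D := inf_le_left
  have hX : Y.subgroupOf D ≠ ⊤ := fun h => by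
    have h1 : Nat.card D = 120 := by
      rw [← Nat.card_congr (Subgroup.topEquiv (G := D)).toEquiv, ← h,
        Nat.card_congr (Subgroup.subgroupOfEquivOfLe hYD).toEquiv, Nat.card_congr f.toEquiv,
        Nat.card_eq_fintype_card, Fintype.card_perm, Fintype.card_fin]
      rfl
    rw [← Nat.card_congr i.toEquiv, CfsgLib.MathieuOut.natCard_M11] at h1
    norm_num at h1
  refine not_coatom hinv (fun z hz => ⟨(Cfsg.Agent.S1603.result _ hd (some 0) h0 z hz).some⟩)
    ((Subgroup.subgroupOfEquivOfLe hYD).trans f) hX (V := V.map ψ.toMonoidHom) ?_ ?_ ?_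
  · haveI := hS.four
    exact ⟨by rw [Subgroup.card_map_of_injective ψ.injective]; exact IsKleinFour.card_four,
      by rw [← Monoid.exponent_eq_of_mulEquiv (V.equivMapOfInjective ψ.toMonoidHom ψ.injective)];
         exact IsKleinFour.exponent_two⟩
  · rw [← Subgroup.map_equiv_normalizer_eq V ψ, Subgroup.card_map_of_injective ψ.injective]
    exact hS.norm
  · rw [← Subgroup.map_equiv_normalizer_eq V ψ]
    exact (OrderIso.isCoatom_iff ψ.mapSubgroup _).2 hmax

/-- Piece P9. -/
theorem prime : StmtPrime.{u} := fun _ _ _ _ hS hmax =>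
  ⟨fun _ _ _ hodd _ he => prime_field_of_coatom hS hmax hodd he.some, not_isoM11 hS hmax⟩

end CfsgLib.Subdeg3
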