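import Mathlib
import Cfsg.Agent.Lib.Recog.OrderSixty

/-!
# A quarter of commuting pairs forces solubility

If an involution `u` lies outside a subgroup of index two and has a centralizer of order at most
four, the products of two conjugates of `u` give a quarter of all commuting pairs of that subgroup,
so the group is soluble.
-/

set_option autoImplicit false

namespace CfsgLib.Subdeg3

open Subgroup

universe u

/-- The number of commuting pairs. -/
noncomputable def numComm (G : Type u) [Group G] : ℕ := Nat.card {p : G × G // Commute p.1 p.2}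

theorem numComm_le_quotient {G : Type u} [Group G] [Finite G] (N : Subgroup G) [N.Normal] :
    numComm G ≤ numComm (G ⧸ N) * Nat.card N ^ 2 := by
  classical
  let r : G → N := fun g => ⟨(QuotientGroup.mk (s := N) g).out⁻¹ * g,
    QuotientGroup.eq.1 (QuotientGroup.out_eq' _)⟩
  let f : {p : G × G // Commute p.1 p.2} →
      {p : (G ⧸ N) × (G ⧸ N) // Commute p.1 p.2} × N × N := fun p =>
    (⟨(p.1.1, p.1.2), p.2.map (QuotientGroup.mk' N)⟩, r p.1.1, r p.1.2)
  have hf : Function.Injective f := by
    rintro ⟨⟨a, b⟩, h⟩ ⟨⟨a', b'⟩, h'⟩ e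
    have e1 : (QuotientGroup.mk a : G ⧸ N) = QuotientGroup.mk a' := congrArg (fun q => q.1.1.1) e
    have e2 : (QuotientGroup.mk b : G ⧸ N) = QuotientGroup.mk b' := congrArg (fun q => q.1.1.2) e
    have e3 : (QuotientGroup.mk a : G ⧸ N).out⁻¹ * a = (QuotientGroup.mk a' : G ⧸ N).out⁻¹ * a' :=
      congrArg (fun q => (q.2.1 : G)) e
    have e4 : (QuotientGroup.mk b : G ⧸ N).out⁻¹ * b = (QuotientGroup.mk b' : G ⧸ N).out⁻¹ * b' :=
      congrArg (fun q => (q.2.2 : G)) e
    rw [e1] at e3; rw [e2] at e4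
    exact Subtype.ext (Prod.ext (mul_left_cancel e3) (mul_left_cancel e4))
  have := Nat.card_le_card_of_injective f hf
  rwa [Nat.card_prod, Nat.card_prod, ← pow_two] at this

/-- One step: replace the second coordinate by one in `K`. -/
theorem card_pairs_step {G : Type u} [Group G] [Finite G] (K : Subgroup G) (A : Set G) :
    Nat.card {p : G × G // p.1 ∈ A ∧ Commute p.1 p.2} ≤
      K.index * Nat.card {p : G × G // p.1 ∈ A ∧ p.2 ∈ K ∧ Commute p.1 p.2} := by
  classical
  let rep : G → G ⧸ K → G := fun g q =>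
    if h : ∃ k : G, Commute g k ∧ (k : G ⧸ K) = q then h.choose else 1
  have hrep : ∀ g k : G, Commute g k →
      Commute g (rep g k) ∧ ((rep g k : G) : G ⧸ K) = (k : G ⧸ K) := by
    intro g k hk
    have h : ∃ k' : G, Commute g k' ∧ (k' : G ⧸ K) = (k : G ⧸ K) := ⟨k, hk, rfl⟩
    simp only [rep, dif_pos h]
    exact h.choose_spec
  let f : {p : G × G // p.1 ∈ A ∧ Commute p.1 p.2} →
      (G ⧸ K) × {p : G × G // p.1 ∈ A ∧ p.2 ∈ K ∧ Commute p.1 p.2} := fun p =>
    ((p.1.2 : G ⧸ K), ⟨(p.1.1, (rep p.1.1 p.1.2)⁻¹ * p.1.2), p.2.1,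
      QuotientGroup.eq.1 (hrep _ _ p.2.2).2, (hrep _ _ p.2.2).1.inv_right.mul_right p.2.2⟩)
  have hf : Function.Injective f := by
    rintro ⟨⟨a, b⟩, h⟩ ⟨⟨a', b'⟩, h'⟩ e
    simp only [f, Prod.mk.injEq, Subtype.mk.injEq] at e
    obtain ⟨e1, rfl, e3⟩ := e
    rw [e1] at e3
    exact Subtype.ext (Prod.ext rfl (mul_left_cancel e3))
  have := Nat.card_le_card_of_injective f hf
  rwa [Nat.card_prod, ← Subgroup.index_eq_card] at this

theorem numComm_le_subgroup {G : Type u} [Group G] [Finite G] (K : Subgroup G) :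
    numComm G ≤ K.index ^ 2 * numComm K := by
  have h1 : numComm G ≤ K.index * Nat.card {p : G × G // p.2 ∈ K ∧ Commute p.1 p.2} := by
    have := card_pairs_step K (Set.univ : Set G)
    simpa [numComm] using this
  have hswap : Nat.card {p : G × G // p.2 ∈ K ∧ Commute p.1 p.2} =
      Nat.card {p : G × G // p.1 ∈ (K : Set G) ∧ Commute p.1 p.2} :=
    Nat.card_congr ((Equiv.prodComm G G).subtypeEquiv fun p => ⟨fun h => ⟨h.1, h.2.symm⟩,
      fun h => ⟨h.1, h.2.symm⟩⟩)
  have h2 := card_pairs_step K (K : Set G)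
  have h3 : Nat.card {p : G × G // p.1 ∈ (K : Set G) ∧ p.2 ∈ K ∧ Commute p.1 p.2} = numComm K :=
    Nat.card_congr
      { toFun := fun p => ⟨(⟨p.1.1, p.2.1⟩, ⟨p.1.2, p.2.2.1⟩), Subtype.ext p.2.2.2⟩
        invFun := fun p => ⟨((p.1.1 : G), (p.1.2 : G)), p.1.1.2, p.1.2.2,
          congrArg Subtype.val p.2⟩
        left_inv := fun p => rfl
        right_inv := fun p => rfl }
  calc numComm G ≤ K.index * Nat.card {p : G × G // p.2 ∈ K ∧ Commute p.1 p.2} := h1
    _ ≤ K.index * (K.index * numComm K) := by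
        rw [hswap]; exact Nat.mul_le_mul_left _ (h2.trans_eq (by rw [h3]))
    _ = K.index ^ 2 * numComm K := by ring

/-- A simple group which is not soluble has fewer than a quarter of commuting pairs. -/
theorem numComm_simple {G : Type u} [Group G] [Finite G] [IsSimpleGroup G]
    (hns : ¬ Group.IsSolvable G) : 4 * numComm G < Nat.card G ^ 2 := by
  classical
  have := Fintype.ofFinite G
  have h60 : 60 ≤ Nat.card G := by
    by_contra h
    exact hns (CfsgLib.Recog.isSolvable_of_card_lt_sixty (by omega))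
  have hsum : numComm G = ∑ g : G, Nat.card {k : G // Commute g k} := by
    rw [numComm, ← Nat.card_sigma]
    exact Nat.card_congr (Equiv.subtypeProdEquivSigmaSubtype fun a b : G => Commute a b)
  have hb : ∀ g : G, g ≠ 1 → 5 * Nat.card {k : G // Commute g k} ≤ Nat.card G := by
    intro g hg
    set C := centralizer ({g} : Set G) with hC
    have hcard : Nat.card {k : G // Commute g k} = Nat.card C :=
      Nat.card_congr (Equiv.subtypeEquivRight fun k => by
        rw [hC, mem_centralizer_singleton_iff]; exact ⟨fun h => h.eq.symm, fun h => h.symm⟩)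
    rw [hcard, ← C.card_mul_index, mul_comm 5]
    refine Nat.mul_le_mul_left _ ?_
    by_contra hlt
    have hCtop : C ≠ ⊤ := fun h => by
      have hz : g ∈ center G := mem_center_iff.2 fun x =>
        mem_centralizer_singleton_iff.1 (show x ∈ C by rw [h]; exact mem_top x)
      rcases (inferInstance : (center G).Normal).eq_bot_or_eq_top with hb | ht
      · exact hg (mem_bot.1 (hb ▸ hz))
      · exact hns (Group.isSolvable_of_comm fun a b => (mem_center_iff.1 (ht ▸ mem_top a) b).symm)
    have hker : (MulAction.toPermHom G (G ⧸ C)).ker = ⊥ := by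
      rcases (inferInstance : (MulAction.toPermHom G (G ⧸ C)).ker.Normal).eq_bot_or_eq_top with
        h | h
      · exact h
      · exfalso
        rw [← normalCore_eq_ker] at h
        exact hCtop (top_le_iff.1 (h ▸ normalCore_le C))
    have hle := Nat.card_le_card_of_injective _ ((MonoidHom.ker_eq_bot_iff _).1 hker)
    rw [Nat.card_perm, ← index_eq_card] at hle
    have : C.index.factorial ≤ Nat.factorial 4 := Nat.factorial_le (by omega)
    norm_num [Nat.factorial] at this
    omega
  have h1 : Nat.card {k : G // Commute (1 : G) k} ≤ Nat.card G :=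
    Nat.card_le_card_of_injective _ Subtype.val_injective
  have h5 : 5 * numComm G ≤ 5 * Nat.card G + (Nat.card G - 1) * Nat.card G := by
    rw [hsum, Finset.mul_sum, ← Finset.add_sum_erase _ _ (Finset.mem_univ (1 : G))]
    refine Nat.add_le_add (Nat.mul_le_mul_left _ h1) ?_
    refine (Finset.sum_le_card_nsmul _ _ _ fun g hg => hb g (Finset.ne_of_mem_erase hg)).trans ?_
    simp [Finset.card_erase_of_mem, Nat.card_eq_fintype_card]
  obtain ⟨m, hm⟩ : ∃ m, Nat.card G = m + 1 := ⟨Nat.card G - 1, by omega⟩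
  rw [hm] at h5 ⊢
  simp only [add_tsub_cancel_right] at h5
  nlinarith

theorem isSolvable_of_numComm {G : Type u} [Group G] [Finite G]
    (h : Nat.card G ^ 2 ≤ 4 * numComm G) : Group.IsSolvable G := by
  induction hn : Nat.card G using Nat.strong_induction_on generalizing G with
  | _ n ih =>
    subst hn
    rcases subsingleton_or_nontrivial G with hs | hs
    · infer_instance
    by_cases hsimp : IsSimpleGroup G
    · by_contra hns
      exact absurd h (not_le.2 (numComm_simple hns))
    obtain ⟨N, hN, hb, ht⟩ : ∃ N : Subgroup G, N.Normal ∧ N ≠ ⊥ ∧ N ≠ ⊤ := by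
      by_contra hall
      push Not at hall
      exact hsimp ⟨fun N hN => or_iff_not_imp_left.2 (hall N hN)⟩
    have := hN
    have hcard := N.card_mul_index
    have hN2 : 1 < Nat.card N := (Subgroup.one_lt_card_iff_ne_bot N).2 hb
    have hi : 1 < N.index := Subgroup.one_lt_index_of_ne_top ht
    have hNlt : Nat.card N < Nat.card G := by nlinarith
    have hQlt : N.index < Nat.card G := by nlinarith
    have : Group.IsSolvable N := ih _ hNlt (G := N) (by
      have := numComm_le_subgroup N
      refine Nat.le_of_mul_le_mul_left (c := N.index ^ 2) ?_ (pow_pos (by omega) _)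
      calc N.index ^ 2 * Nat.card N ^ 2 = Nat.card G ^ 2 := by rw [← hcard]; ring
        _ ≤ 4 * numComm G := h
        _ ≤ 4 * (N.index ^ 2 * numComm N) := by omega
        _ = _ := by ring) rfl
    have : Group.IsSolvable (G ⧸ N) := ih _ hQlt (G := G ⧸ N) (by
      have := numComm_le_quotient N
      refine Nat.le_of_mul_le_mul_left (c := Nat.card N ^ 2) ?_ (pow_pos (by omega) _)
      calc Nat.card N ^ 2 * Nat.card (G ⧸ N) ^ 2 = Nat.card G ^ 2 := by
            rw [← hcard, index_eq_card]; ring
        _ ≤ 4 * numComm G := h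
        _ ≤ 4 * (numComm (G ⧸ N) * Nat.card N ^ 2) := by omega
        _ = _ := by ring) (by rw [← Subgroup.index_eq_card])
    exact Group.isSolvable_of_ker_le_range N.subtype (QuotientGroup.mk' N) (by simp)

theorem isSolvable_of_invol_index_two {X : Type u} [Group X] [Finite X] (K : Subgroup X)
    (hK : K.index = 2) {u : X} (hu : orderOf u = 2) (huK : u ∉ K)
    (hC : Nat.card (centralizer ({u} : Set X)) ≤ 4) : Group.IsSolvable X := by
  classical
  have : K.Normal := normal_of_index_eq_two hK
  set U : Set X := Set.range fun g : X => g * u * g⁻¹ with hU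
  have hUinv : ∀ a ∈ U, a * a = 1 ∧ a ∉ K := by
    rintro _ ⟨g, rfl⟩
    refine ⟨?_, fun h => huK ?_⟩
    · show g * u * g⁻¹ * (g * u * g⁻¹) = 1
      rw [conj_mul, ← pow_two, ← hu, pow_orderOf_eq_one, mul_one, mul_inv_cancel]
    · simpa [mul_assoc] using (inferInstance : K.Normal).conj_mem _ h g⁻¹
  have hUcard : Nat.card U * Nat.card (centralizer ({u} : Set X)) = Nat.card X := by
    have hset : U = (MulAction.orbit (ConjAct X) u) := by
      ext a
      simp only [hU, Set.mem_range, MulAction.mem_orbit_iff]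
      exact ⟨fun ⟨g, hg⟩ => ⟨ConjAct.toConjAct g, hg⟩, fun ⟨g, hg⟩ => ⟨ConjAct.ofConjAct g, hg⟩⟩
    rw [hset, Nat.card_coe_set_eq, ← MulAction.index_stabilizer,
      ConjAct.stabilizer_eq_centralizer]
    exact index_mul_card _
  let sel : X → X := fun x => if h : ∃ a ∈ U, a * x ∈ U then h.choose else 1
  have hmap : ∀ a ∈ U, ∀ b ∈ U, a * b ∈ K ∧ sel (a * b) * a ∈ K ∧
      Commute (a * b) (sel (a * b) * a) := by
    intro a ha b hb
    obtain ⟨haa, haK⟩ := hUinv a ha
    obtain ⟨hbb, hbK⟩ := hUinv b hb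
    have hx : ∃ c ∈ U, c * (a * b) ∈ U := ⟨a, ha, by rwa [← mul_assoc, haa, one_mul]⟩
    have hc : sel (a * b) ∈ U ∧ sel (a * b) * (a * b) ∈ U := by
      simp only [sel, dif_pos hx]; exact hx.choose_spec
    set c := sel (a * b)
    obtain ⟨hcc, hcK⟩ := hUinv c hc.1
    refine ⟨by rw [mul_mem_iff_of_index_two hK]; simp [haK, hbK],
      by rw [mul_mem_iff_of_index_two hK]; simp [hcK, haK], ?_⟩
    have h2 := (hUinv _ hc.2).1
    set x := a * b with hxdef
    have hca : c * x * c = x⁻¹ := eq_inv_of_mul_eq_one_left (by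
      rw [mul_assoc (c * x) c x]; exact h2)
    have haa' : a * x * a = x⁻¹ := eq_inv_of_mul_eq_one_left (by
      simp only [hxdef, ← mul_assoc, haa, one_mul]
      rw [mul_assoc b a a, haa, mul_one, hbb])
    show x * (c * a) = c * a * x
    calc x * (c * a) = c * (c * x * c) * a := by
          simp only [← mul_assoc, hcc, one_mul]
      _ = c * (a * x * a) * a := by rw [hca, haa']
      _ = c * a * x := by rw [mul_assoc c, mul_assoc (a * x), haa, mul_one, mul_assoc]
  let f : U × U → {p : K × K // Commute p.1 p.2} := fun p =>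
    ⟨(⟨p.1 * p.2, (hmap _ p.1.2 _ p.2.2).1⟩,
      ⟨sel (p.1 * p.2) * p.1, (hmap _ p.1.2 _ p.2.2).2.1⟩),
      Subtype.ext (hmap _ p.1.2 _ p.2.2).2.2⟩
  have hf : Function.Injective f := by
    rintro ⟨⟨a, ha⟩, ⟨b, hb⟩⟩ ⟨⟨a', ha'⟩, ⟨b', hb'⟩⟩ e
    have e1 : a * b = a' * b' := congrArg (fun q => (q.1.1 : X)) e
    have e2 : sel (a * b) * a = sel (a' * b') * a' := congrArg (fun q => (q.1.2 : X)) e
    rw [e1] at e2
    obtain rfl : a = a' := mul_left_cancel e2
    obtain rfl : b = b' := mul_left_cancel e1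
    rfl
  have hle := Nat.card_le_card_of_injective f hf
  rw [Nat.card_prod] at hle
  have hXK := K.card_mul_index
  rw [hK] at hXK
  have : Group.IsSolvable K := isSolvable_of_numComm (by
    have hKU : Nat.card K ≤ 2 * Nat.card U := by nlinarith
    calc Nat.card K ^ 2 ≤ (2 * Nat.card U) ^ 2 := Nat.pow_le_pow_left hKU 2
      _ = 4 * (Nat.card U * Nat.card U) := by ring
      _ ≤ _ := Nat.mul_le_mul_left _ hle)
  have : Group.IsSolvable (X ⧸ K) := CfsgLib.Recog.isSolvable_of_card_lt_sixty (by
    rw [← index_eq_card, hK]; norm_num)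
  exact Group.isSolvable_of_ker_le_range K.subtype (QuotientGroup.mk' K) (by simp)

end CfsgLib.Subdeg3
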