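import Mathlib
import Cfsg.Prelude.Def_Solvable
import Cfsg.Agent.Lib.Base.MinimalNormal
import Cfsg.Agent.Lib.Involutions.QuasiDihedralFusion
import Cfsg.Agent.Lib.Small.Q8Extension
import Cfsg.Agent.Lib.Small.GLTwoThree

/-!
# Soluble groups with quasi-dihedral Sylow 2-subgroups and trivial core

Such a group, unless it is a 2-group, is `GL(2,3)`.
-/

set_option autoImplicit false

namespace CfsgLib.Subdeg3

open Subgroup CfsgLib.Involutions

universe u

theorem nonempty_gl23 {X : Type u} [Group X] [Finite X] [Group.IsSolvable X]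
    (hO : Cfsg.pPrimeCore 2 X = ⊥) {P : Sylow 2 X} (d : QD (P : Subgroup X))
    (hnot : (P : Subgroup X) ≠ ⊤) : d.n = 3 ∧ Nonempty (X ≃* Small.GL23.H) := by
  have : Fact (Nat.Prime 2) := ⟨Nat.prime_two⟩
  set D := Cfsg.pCore 2 X with hD
  have hDn : D.Normal := inferInstance
  have hDP : D ≤ (P : Subgroup X) := CfsgLib.Base.pCore_le_sylow P
  have hCD : centralizer (D : Set X) ≤ D := CfsgLib.Base.centralizer_pCore_le_of_isSolvable hO
  have hcen : CentricIn D (P : Subgroup X) := ⟨hDP, fun s _ hs => hCD hs⟩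
  -- an element of odd order
  obtain ⟨y, hy1, hyo⟩ : ∃ y : X, y ≠ 1 ∧ Odd (orderOf y) := by
    have h1 : (P : Subgroup X).index ≠ 1 := fun h => hnot (index_eq_one.1 h)
    obtain ⟨q, hq, hqd⟩ := Nat.exists_prime_and_dvd h1
    have hq2 : q ≠ 2 := fun h => P.not_dvd_index (h ▸ hqd)
    have := Fact.mk hq
    obtain ⟨y, hy⟩ := exists_prime_orderOf_dvd_card' q (hqd.trans (index_dvd_card _))
    refine ⟨y, fun h => ?_, hy ▸ hq.odd_of_ne_two hq2⟩
    rw [h, orderOf_one] at hy
    exact hq.ne_one hy.symm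
  have hyN : y ∈ normalizer (D : Set X) := by rw [Subgroup.normalizer_eq_top D]; exact mem_top y
  have hncomm : ¬ ∀ a ∈ D, Commute y a := fun h => hy1 (by
    have hyD : y ∈ D := hCD (mem_centralizer_iff.2 fun a ha => (h a ha).eq.symm)
    obtain ⟨k, hk⟩ := P.isPGroup' ⟨y, hDP hyD⟩
    have h2 : y ^ 2 ^ k = 1 := congrArg Subtype.val hk
    obtain ⟨j, -, hj⟩ := (Nat.dvd_prime_pow Nat.prime_two).1 (orderOf_dvd_of_pow_eq_one h2)
    rcases j with _ | j
    · exact orderOf_eq_one_iff.1 (by simpa using hj)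
    · rw [hj, pow_succ'] at hyo
      exact absurd (even_two_mul _) (Nat.not_even_iff_odd.2 hyo))
  have hconj : ∀ g ∈ D, ((d.x : (P : Subgroup X)) : X) * g * ((d.x : (P : Subgroup X)) : X)⁻¹ ∈ D :=
    fun g hg => hDn.conj_mem g hg _
  have h4 := d.four_dvd_half
  have hpos := d.half_pos
  rcases d.centric_cases hcen hyN hyo with h | ⟨i, hi, hDi⟩ | ⟨i, hi, hDi⟩
  · exact absurd h hncomm
  · -- a four-group is not normal
    exfalso
    have hr : ((d.x ^ i * d.y : (P : Subgroup X)) : X) ∈ D := hDi ▸ subset_closure (by simp)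
    have hm := hconj _ hr
    rw [← Subgroup.coe_mul, ← Subgroup.coe_inv, ← Subgroup.coe_mul,
      show d.x * (d.x ^ i * d.y) * d.x⁻¹ = d.x ^ (i + 1 * (2 - d.half)) * d.y by
        have := d.conj_refl 1 i; rwa [zpow_one] at this,
      hDi, d.mem_TG hi] at hm
    rcases hm with h | h | h | h
    · exact d.refl_not_mem (i + 1 * (2 - d.half))
        (by rw [OneMemClass.coe_eq_one.1 h]; exact one_mem _)
    · exact d.refl_not_mem (i + 1 * (2 - d.half))
        (by rw [Subtype.ext h]; exact zpow_mem (mem_zpowers _) _)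
    · have h' := d.refl_inj.1 (Subtype.ext h)
      obtain ⟨c, hc⟩ := h'
      obtain ⟨e, he⟩ := h4
      have : (2 : ℤ) = 4 * (e * (2 * c + 1)) := by linear_combination hc + (2 * c + 1) * he
      omega
    · have e1 : d.z * (d.x ^ i * d.y) = d.x ^ (d.half + i) * d.y := by
        rw [zpow_add, mul_assoc]; rfl
      rw [e1] at h
      obtain ⟨c, hc⟩ := d.refl_inj.1 (Subtype.ext h)
      obtain ⟨e, he⟩ := h4
      have : (2 : ℤ) = 4 * (e * (2 * c + 2)) := by linear_combination hc + (2 * c + 2) * he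
      omega
  -- `D` is quaternion, and normality forces order 16
  have hn : d.n = 3 := by
    have hr : ((d.x ^ i * d.y : (P : Subgroup X)) : X) ∈ D := hDi ▸ subset_closure (by simp)
    have hm := hconj _ hr
    rw [← Subgroup.coe_mul, ← Subgroup.coe_inv, ← Subgroup.coe_mul,
      show d.x * (d.x ^ i * d.y) * d.x⁻¹ = d.x ^ (i + 1 * (2 - d.half)) * d.y by
        have := d.conj_refl 1 i; rwa [zpow_one] at this,
      hDi, d.QG_eq_map] at hm
    obtain ⟨g, hg, hgeq⟩ := hm
    have hg' : g = d.x ^ (i + 1 * (2 - d.half)) * d.y := Subtype.ext hgeq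
    obtain ⟨k, h | h⟩ := d.quat_list hi hg
    · exact absurd (hg'.symm.trans h) fun e => d.refl_not_mem (i + 1 * (2 - d.half))
        (e ▸ zpow_mem (zpow_mem (mem_zpowers _) _) _)
    · rw [hg', QD.q, ← zpow_mul, ← mul_assoc, ← zpow_add, d.refl_inj] at h
      obtain ⟨c, hc⟩ := h
      rw [d.half_eq] at hc
      have hdvd : (2 : ℤ) ^ (d.n - 2) ∣ 2 := ⟨4 * c + k + 2, by linear_combination hc⟩
      have hle : d.n - 2 ≤ 1 := by
        by_contra hlt
        have h4' : (2 : ℤ) ^ 2 ∣ 2 := (pow_dvd_pow 2 (by omega)).trans hdvd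
        norm_num at h4'
      have := d.three_le
      omega
  refine ⟨hn, ?_⟩
  have hq : d.q = d.x ^ (2 : ℤ) := by rw [QD.q, hn]; norm_num
  have hDmax : D = (d.maxSub true).map (P : Subgroup X).subtype := by
    refine le_antisymm (hDi ▸ d.QG_le_maxSub hi) ?_
    rw [hDi]
    have hqm : ((d.q : (P : Subgroup X)) : X) ∈ d.QG i := subset_closure (by simp)
    have hev : ∀ j : ℤ, Even j → ((d.x ^ j : (P : Subgroup X)) : X) ∈ d.QG i := by
      rintro j ⟨k, rfl⟩
      rw [show d.x ^ (k + k) = d.q ^ k by rw [hq, ← zpow_mul, two_mul], Subgroup.coe_zpow]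
      exact zpow_mem hqm k
    rintro _ ⟨g, ⟨j, hj, rfl⟩ | ⟨j, hj, rfl⟩, rfl⟩
    · exact hev j hj
    · have hj' : ¬ Even j := fun h => by simpa using hj.1 h
      rw [show d.x ^ j * d.y = d.x ^ (j - i) * (d.x ^ i * d.y) by
        rw [← mul_assoc, ← zpow_add, sub_add_cancel], map_mul]
      exact mul_mem (hev _ ((Int.not_even_iff_odd.1 hj').sub_odd hi)) (subset_closure (by simp))
  obtain ⟨e0⟩ := d.maxSub_true_equiv
  have eD : D ≃* QuaternionGroup 2 :=
    ((MulEquiv.subgroupCongr hDmax).trans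
      (equivMapOfInjective _ _ (P : Subgroup X).subtype_injective).symm).trans
      (e0.trans (by rw [hn]; exact MulEquiv.refl _))
  -- the order
  have hPc : Nat.card (P : Subgroup X) = 16 := by rw [d.card_eq, hn]; norm_num
  have h16 : 16 ∣ Nat.card X := hPc ▸ card_subgroup_dvd_card _
  have h48 : Nat.card X ∣ 48 := by
    have h := (Small.Q8Ext.act eD).ker.card_mul_index
    rw [Small.Q8Ext.card_act_ker hCD] at h
    have hr : (Small.Q8Ext.act eD).ker.index ∣ 24 := by
      rw [index_ker]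
      have := card_subgroup_dvd_card (Small.Q8Ext.act eD).range
      rwa [Nat.card_perm, Nat.card_fin] at this
    rw [← h]
    exact (mul_dvd_mul_left 2 hr).trans (by norm_num)
  have hX : Nat.card X = 48 := by
    have hne : Nat.card X ≠ 16 := fun h => hnot (eq_top_of_card_eq _ (hPc.trans h.symm))
    obtain ⟨m, hm⟩ := h16
    have hm3 : m ∣ 3 := Nat.dvd_of_mul_dvd_mul_left (by norm_num) (hm ▸ h48 : 16 * m ∣ 16 * 3)
    rcases (Nat.dvd_prime Nat.prime_three).1 hm3 with rfl | rfl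
    · exact absurd hm (by omega)
    · omega
  -- an involution outside
  have ht : ((d.x ^ (0 : ℤ) * d.y : (P : Subgroup X)) : X) ^ 2 = 1 := by
    exact orderOf_dvd_iff_pow_eq_one.1
      (by rw [Subgroup.orderOf_coe, d.orderOf_refl_even Even.zero])
  have htD : ((d.x ^ (0 : ℤ) * d.y : (P : Subgroup X)) : X) ∉ D := by
    rw [hDmax]
    rintro ⟨g, hg, hgeq⟩
    rw [Subtype.ext hgeq] at hg
    simpa using d.refl_mem_maxSub.1 hg
  obtain ⟨f⟩ := Small.Q8Ext.nonempty_iso eD hCD hX ht htD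
  obtain ⟨g⟩ := Small.Q8Ext.GLThree.iso_model
  exact ⟨f.trans g.symm⟩

end CfsgLib.Subdeg3
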