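import Mathlib
import Cfsg.Agent.Lib.Subdeg3.Defs
import Cfsg.Agent.Lib.Subdeg3.SDQuarter
import Cfsg.Agent.Lib.Subdeg3.SDQuot

/-!
# Piece P3: the involution centraliser in the semidihedral case

`C(z)` is soluble because the involution `u` of `V` lies outside a subgroup of index two of `C(z)` and
has centraliser `V` there; modulo its core it is therefore `GL(2,3)`.
-/

set_option autoImplicit false

namespace CfsgLib.Subdeg3

open Subgroup CfsgLib.Involutions
open CfsgLib.Small (GL23.H GL23.det GL23.els GL23.mem_els)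

universe u

/-- The quasi-dihedral presentation, moved along an isomorphism. -/
def qdMap {S S' : Type*} [Group S] [Group S'] (d : QD S) (e : S ≃* S') : QD S' where
  n := d.n
  x := e d.x
  y := e d.y
  three_le := d.three_le
  card_eq := (Nat.card_congr e.symm.toEquiv).trans d.card_eq
  orderOf_x := (MulEquiv.orderOf_eq e _).trans d.orderOf_x
  orderOf_y := (MulEquiv.orderOf_eq e _).trans d.orderOf_y
  rel := by rw [← map_inv, ← map_mul, ← map_mul, d.rel, map_pow]

theorem qdMap_z {S S' : Type*} [Group S] [Group S'] (d : QD S) (e : S ≃* S') :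
    (qdMap d e).z = e d.z := (map_zpow e _ _).symm

namespace GLFacts

theorem det_one : GL23.det 1 = 1 := by decide +kernel

theorem det_noncentral : ∀ g ∈ GL23.els, g.val ≠ 1 → (g * g).val = 1 →
    g.val ≠ !![2, 0; 0, 2] → GL23.det g ≠ 1 := by decide +kernel

/-- Every element is a product of two or three noncentral involutions. -/
theorem generated : ∀ g ∈ GL23.els,
    ∃ a ∈ GL23.els.filter (fun a => a.val ≠ 1 ∧ (a * a).val = 1 ∧ a.val ≠ !![2, 0; 0, 2]),
    ∃ b ∈ GL23.els.filter (fun a => a.val ≠ 1 ∧ (a * a).val = 1 ∧ a.val ≠ !![2, 0; 0, 2]),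
      (a * b).val = g.val ∨
      ∃ c ∈ GL23.els.filter (fun a => a.val ≠ 1 ∧ (a * a).val = 1 ∧ a.val ≠ !![2, 0; 0, 2]),
        (a * b * c).val = g.val := by decide +kernel

theorem det_cases (g : GL23.H) : GL23.det g = 1 ∨ GL23.det g = -1 := by
  unfold CfsgLib.Small.GL23.det
  split_ifs
  · exact Or.inl rfl
  · exact Or.inr rfl

end GLFacts

/-- The elements acting on a normal subgroup by the sign of their image. -/
theorem signed_action {X : Type u} [Group X] (f : X →* GL23.H) (hf : Function.Surjective f) {z u : X}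
    (hz : (f z).val = !![2, 0; 0, 2]) (hu2 : u * u = 1) (hu : f u ≠ 1) (huz : f u ≠ f z)
    (hinv : ∀ o ∈ f.ker, u * o * u⁻¹ = o⁻¹)
    (hcomm : ∀ a ∈ f.ker, ∀ b ∈ f.ker, Commute a b) (c : X) :
    ∀ o ∈ f.ker, (GL23.det (f c) = 1 → c * o * c⁻¹ = o) ∧
      (GL23.det (f c) ≠ 1 → c * o * c⁻¹ = o⁻¹) := by
  set Good : X → Prop := fun c => ∀ o ∈ f.ker, (GL23.det (f c) = 1 → c * o * c⁻¹ = o) ∧
    (GL23.det (f c) ≠ 1 → c * o * c⁻¹ = o⁻¹) with hGood
  suffices h : Good c from h
  have hdet : ∀ g h : GL23.H, GL23.det (g * h) = GL23.det g * GL23.det h := fun g h =>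
    CfsgLib.Small.GL23.det_mul g (GL23.mem_els g) h (GL23.mem_els h)
  have hmul : ∀ a b, Good a → Good b → Good (a * b) := by
    intro a b ha hb o ho
    have e : a * b * o * (a * b)⁻¹ = a * (b * o * b⁻¹) * a⁻¹ := by group
    have hd := hdet (f a) (f b)
    rw [← map_mul] at hd
    rw [e]
    rcases GLFacts.det_cases (f a) with ha' | ha' <;>
      rcases GLFacts.det_cases (f b) with hb' | hb' <;> rw [ha', hb'] at hd
    · rw [(hb o ho).1 hb']
      exact ⟨fun _ => (ha o ho).1 ha', fun h => absurd hd (by simpa using h)⟩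
    · rw [(hb o ho).2 (by rw [hb']; norm_num)]
      exact ⟨fun h => absurd h (by rw [hd]; norm_num), fun _ => (ha _ (inv_mem ho)).1 ha'⟩
    · rw [(hb o ho).1 hb']
      exact ⟨fun h => absurd h (by rw [hd]; norm_num),
        fun _ => (ha o ho).2 (by rw [ha']; norm_num)⟩
    · rw [(hb o ho).2 (by rw [hb']; norm_num)]
      exact ⟨fun _ => ((ha _ (inv_mem ho)).2 (by rw [ha']; norm_num)).trans (inv_inv o),
        fun h => absurd hd (by simpa using h)⟩
  have hker : ∀ a ∈ f.ker, Good a := by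
    intro a ha o ho
    rw [MonoidHom.mem_ker.1 ha, GLFacts.det_one]
    exact ⟨fun _ => by rw [(hcomm a ha o ho).eq, mul_inv_cancel_right], fun h => absurd rfl h⟩
  have huv : (f u).val ≠ 1 := fun h => hu (Units.ext h)
  have huv2 : (f u * f u).val = 1 := by rw [← map_mul, hu2, map_one]; rfl
  have huvz : (f u).val ≠ !![2, 0; 0, 2] := fun h => huz (Units.ext (h.trans hz.symm))
  have hlift : ∀ r : GL23.H, r.val ≠ 1 → (r * r).val = 1 → r.val ≠ !![2, 0; 0, 2] →
      ∃ a, f a = r ∧ Good a := by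
    intro r h1 h2 h3
    obtain ⟨x, -, hx⟩ := CfsgLib.Small.GL23.involution_conj (f u) (GL23.mem_els _) r
      (GL23.mem_els r) huv huv2 huvz h1 h2 h3
    obtain ⟨g, hg⟩ := hf x
    have hfa : f (g * u * g⁻¹) = r := by
      rw [map_mul, map_mul, map_inv, hg, mul_inv_eq_iff_eq_mul]
      exact Units.ext hx
    refine ⟨g * u * g⁻¹, hfa, fun o ho => ?_⟩
    rw [hfa]
    refine ⟨fun h => absurd h (GLFacts.det_noncentral r (GL23.mem_els r) h1 h2 h3), fun _ => ?_⟩
    have ho' : g⁻¹ * o * g ∈ f.ker := by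
      simpa using (MonoidHom.normal_ker f).conj_mem o ho g⁻¹
    calc g * u * g⁻¹ * o * (g * u * g⁻¹)⁻¹ = g * (u * (g⁻¹ * o * g) * u⁻¹) * g⁻¹ := by group
      _ = g * (g⁻¹ * o * g)⁻¹ * g⁻¹ := by rw [hinv _ ho']
      _ = o⁻¹ := by group
  have hmem : ∀ r ∈ GL23.els.filter
      (fun a => a.val ≠ 1 ∧ (a * a).val = 1 ∧ a.val ≠ !![2, 0; 0, 2]), ∃ a, f a = r ∧ Good a := by
    intro r hr
    simp only [List.mem_filter, decide_eq_true_eq] at hr
    exact hlift r hr.2.1 hr.2.2.1 hr.2.2.2
  have hall : ∃ p, f p = f c ∧ Good p := by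
    obtain ⟨a, ha, b, hb, h | ⟨e, he, h⟩⟩ := GLFacts.generated (f c) (GL23.mem_els _)
    all_goals
      obtain ⟨a', rfl, hga⟩ := hmem a ha
      obtain ⟨b', rfl, hgb⟩ := hmem b hb
    · exact ⟨a' * b', by rw [map_mul]; exact Units.ext h, hmul _ _ hga hgb⟩
    · obtain ⟨e', rfl, hge⟩ := hmem e he
      exact ⟨a' * b' * e', by rw [map_mul, map_mul]; exact Units.ext h,
        hmul _ _ (hmul _ _ hga hgb) hge⟩
  obtain ⟨p, hp, hgp⟩ := hall
  have := hmul _ _ (hker (c * p⁻¹) (by simp [hp])) hgp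
  rwa [inv_mul_cancel_right] at this

theorem sdCent : StmtSDCent.{u} := by
  intro H _ _ V h T hVT hT
  classical
  have : Fact (Nat.Prime 2) := ⟨Nat.prime_two⟩
  obtain ⟨d⟩ := nonempty_qd hT
  -- fusion
  have hT6 : d.T6 := by
    rcases d.relIndex_TG (i := 0) Even.zero with h2 | h6
    · obtain ⟨K, -, hK, -⟩ := d.exists_normal_index_two true
        (fun _ => d.t2_of_relIndex Even.zero h2) (fun e => nomatch e)
      exact absurd hK (h.noIdx K)
    · exact d.t6_of_relIndex Even.zero h6
  have hQ6 : d.Q6 := by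
    rcases d.relIndex_QG (i := 1) odd_one with h2 | h6
    · obtain ⟨K, -, hK, -⟩ := d.exists_normal_index_two false
        (fun e => nomatch e) (fun _ => d.q2_of_relIndex odd_one h2)
      exact absurd hK (h.noIdx K)
    · exact d.q6_of_relIndex odd_one h6
  set z : H := ((d.z : (T : Subgroup H)) : H) with hzdef
  have hz2 : orderOf z = 2 := d.orderOf_coe_z
  have hconj : ∀ w : H, orderOf w = 2 → IsConj z w := by
    intro w hw
    obtain ⟨Q, hQ⟩ := (IsPGroup.of_card (n := 1)
      (by rw [Nat.card_zpowers, hw, pow_one] : Nat.card (zpowers w) = 2 ^ 1)).exists_le_sylow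
    obtain ⟨g, hg⟩ := MulAction.exists_smul_eq H Q T
    have hwT : g * w * g⁻¹ ∈ (T : Subgroup H) := by
      rw [← hg, Sylow.coe_subgroup_smul]
      exact Subgroup.smul_mem_pointwise_smul _ (MulAut.conj g) _ (hQ (mem_zpowers w))
    refine IsConj.trans ?_ (isConj_iff.2 ⟨g, rfl⟩ : IsConj w (g * w * g⁻¹)).symm
    have ho : orderOf (⟨g * w * g⁻¹, hwT⟩ : (T : Subgroup H)) = 2 := by
      rw [Subgroup.orderOf_mk]; exact conj_invol g hw
    rcases d.invol_cases ho with e | ⟨i, hi, e⟩
    · rw [show g * w * g⁻¹ = z from congrArg Subtype.val e]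
    · obtain ⟨c, -, hc, -⟩ := hT6 i hi
      rw [show g * w * g⁻¹ = ((d.x ^ i * d.y : (T : Subgroup H)) : H) from congrArg Subtype.val e]
      exact isConj_iff.2 ⟨c, hc⟩
  obtain ⟨i, hi, hV⟩ := d.klein_eq hVT h.four
  have hzV : z ∈ V := hV ▸ (d.mem_TG hi).2 (Or.inr (Or.inl rfl))
  -- the centraliser
  set X := centralizer ({z} : Set H) with hX
  have hTX : (T : Subgroup H) ≤ X := fun t ht => mem_centralizer_singleton_iff.2
    (congrArg Subtype.val (d.commute_z ⟨t, ht⟩).eq)
  set P' : Sylow 2 X := T.subtype hTX with hP'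
  let eP : (T : Subgroup H) ≃* (P' : Subgroup X) := (subgroupOfEquivOfLe hTX).symm
  set d' := qdMap d eP with hd'
  set zX : X := ⟨z, hTX (SetLike.coe_mem _)⟩ with hzX
  have hzc : ∀ c : X, c * zX = zX * c := fun c => Subtype.ext (mem_centralizer_singleton_iff.1 c.2)
  have hz' : ((d'.z : (P' : Subgroup X)) : X) = zX := by
    rw [hd', qdMap_z]; rfl
  -- the subgroup of index two
  have hT2 : d'.T2 := by
    rcases d'.relIndex_TG (i := 0) Even.zero with h2 | h6
    · exact d'.t2_of_relIndex Even.zero h2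
    · exfalso
      obtain ⟨c, -, hc, -⟩ := d'.t6_of_relIndex Even.zero h6 0 Even.zero
      rw [hz', hzc, mul_inv_cancel_right, ← hz'] at hc
      exact d'.refl_not_mem 0 (Subtype.ext hc ▸ zpow_mem (mem_zpowers _) _)
  obtain ⟨K, -, hK2, hKP, -⟩ := d'.exists_normal_index_two true (fun _ => hT2) (fun e => nomatch e)
  set uX : X := ((d'.x ^ i * d'.y : (P' : Subgroup X)) : X) with huX
  have hu2 : orderOf uX = 2 := by rw [huX, Subgroup.orderOf_coe, d'.orderOf_refl_even hi]
  have huK : uX ∉ K := by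
    intro hu
    have hmem : uX ∈ K ⊓ (P' : Subgroup X) := ⟨hu, SetLike.coe_mem _⟩
    rw [hKP] at hmem
    obtain ⟨m, hm, he⟩ := hmem
    rw [Subtype.ext he] at hm
    simpa [hi] using d'.refl_mem_maxSub.1 hm
  have huH : (uX : H) = ((d.x ^ i * d.y : (T : Subgroup H)) : H) := by
    rw [huX, show d'.x ^ i * d'.y = eP (d.x ^ i * d.y) by rw [map_mul, map_zpow]; rfl]
    rfl
  have huV : ∀ c : X, Commute c uX → (c : H) ∈ V := by
    intro c hc
    rw [← h.cent, hV, QD.TG, centralizer_closure, mem_centralizer_iff]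
    rintro a (rfl | rfl)
    · exact (mem_centralizer_singleton_iff.1 c.2).symm
    · rw [← huH]; exact congrArg Subtype.val hc.eq.symm
  have hCu : Nat.card (centralizer ({uX} : Set X)) ≤ 4 := by
    rw [← h.four.card_four]
    exact Nat.card_le_card_of_injective
      (fun c : centralizer ({uX} : Set X) => (⟨((c : X) : H),
        huV c (mem_centralizer_singleton_iff.1 c.2)⟩ : V))
      fun a b e => Subtype.ext (Subtype.ext (congrArg (fun v : V => (v : H)) e))
  have : Group.IsSolvable X := isSolvable_of_invol_index_two K hK2 hu2 huK hCu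
  -- the quotient by the core
  set O := Cfsg.pPrimeCore 2 X with hO
  have : O.Normal := inferInstance
  have hOodd : Odd (Nat.card O) :=
    Nat.coprime_two_right.1 (CfsgLib.Base.pPrimeCore_coprime 2 X)
  have hOP : ∀ a ∈ O, a ∈ (P' : Subgroup X) → a = 1 := by
    intro a ha haP
    obtain ⟨k, hk⟩ := P'.isPGroup' ⟨a, haP⟩
    refine orderOf_eq_one_iff.1 (Nat.eq_one_of_dvd_coprimes
      ((Nat.coprime_two_left.2 (hOodd.of_dvd_nat (Subgroup.orderOf_dvd_natCard _ ha))).pow_left k)
      (orderOf_dvd_of_pow_eq_one (congrArg Subtype.val hk)) dvd_rfl)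
  set mk := QuotientGroup.mk' O with hmk
  set P'' : Sylow 2 (X ⧸ O) := P'.mapSurjective (QuotientGroup.mk'_surjective O) with hP''
  let eQ : (P' : Subgroup X) ≃* (P'' : Subgroup (X ⧸ O)) :=
    MulEquiv.ofBijective (mk.subgroupMap (P' : Subgroup X))
      ⟨fun a b e => by
        have e' : mk (a : X) = mk (b : X) := congrArg Subtype.val e
        rw [hmk, QuotientGroup.mk'_eq_mk'] at e'
        obtain ⟨o, ho, hob⟩ := e'
        have := hOP o ho (by
          rw [show o = (a : X)⁻¹ * b by rw [← hob, inv_mul_cancel_left]]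
          exact mul_mem (inv_mem a.2) b.2)
        exact Subtype.ext (by rw [← hob, this, mul_one]),
        mk.subgroupMap_surjective (P' : Subgroup X)⟩
  obtain ⟨c, hco, hc, -⟩ := hQ6 1 odd_one
  have hnot : (P'' : Subgroup (X ⧸ O)) ≠ ⊤ := by
    intro htop
    have hzz := invol_mul_self hz2
    have hzT : ∀ w ∈ zpowers z, w ∈ (T : Subgroup H) := fun w hw =>
      (zpowers_le.2 (SetLike.coe_mem d.z) : zpowers z ≤ (T : Subgroup H)) hw
    set r : H := ((d.x ^ (1 : ℤ) * d.y : (T : Subgroup H)) : H) with hr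
    set q : H := ((d.q : (T : Subgroup H)) : H) with hq
    have hrr : r * r = z := by
      rw [hr, ← Subgroup.coe_mul, d.sq_refl, d.z_zpow_of_odd odd_one]
    have hzr : Commute z r := congrArg Subtype.val (d.commute_z (d.x ^ (1 : ℤ) * d.y)).eq.symm
    have hcq : c * q * c⁻¹ = r ∨ c * q * c⁻¹ = z * r := by
      rcases (mem_zpowers_invol hz2).1 hc with e | e
      · exact Or.inl (mul_inv_eq_one.1 e)
      · exact Or.inr (mul_inv_eq_iff_eq_mul.1 e)
    have hcz : c * z * c⁻¹ = z := by
      have hqq : q * q = z := congrArg Subtype.val d.q_mul_q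
      rw [← hqq, ← conj_mul, hqq]
      rcases hcq with e | e <;> rw [e]
      · exact hrr
      · rw [hzr.symm.mul_mul_mul_comm, hzz, one_mul, hrr]
    have hcX : c ∈ X := mem_centralizer_singleton_iff.2 (mul_inv_eq_iff_eq_mul.1 hcz)
    set cX : X := ⟨c, hcX⟩
    obtain ⟨k, hk⟩ := P''.isPGroup' ⟨mk cX, by rw [htop]; exact mem_top _⟩
    have hkc : (mk cX) ^ 2 ^ k = 1 := congrArg Subtype.val hk
    have hco' : Odd (orderOf cX) := by
      rw [show orderOf cX = orderOf c from (orderOf_injective X.subtype Subtype.val_injective _).symm]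
      exact hco
    have h1 : mk cX = 1 := orderOf_eq_one_iff.1 (Nat.eq_one_of_dvd_coprimes
      ((Nat.coprime_two_left.2 hco').pow_left k) (orderOf_dvd_of_pow_eq_one hkc)
      (orderOf_map_dvd mk cX))
    have hcO : cX ∈ O := (QuotientGroup.eq_one_iff cX).1 h1
    set qX : X := ⟨q, hTX (SetLike.coe_mem _)⟩ with hqX
    have hcomO : cX * qX * cX⁻¹ * qX⁻¹ ∈ O := by
      rw [show cX * qX * cX⁻¹ * qX⁻¹ = cX * (qX * cX⁻¹ * qX⁻¹) by group]
      exact mul_mem hcO ((inferInstance : O.Normal).conj_mem _ (inv_mem hcO) qX)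
    have hcomP : cX * qX * cX⁻¹ * qX⁻¹ ∈ (P' : Subgroup X) := by
      show c * q * c⁻¹ * q⁻¹ ∈ (T : Subgroup H)
      refine mul_mem ?_ (inv_mem (SetLike.coe_mem _))
      rcases hcq with e | e <;> rw [e]
      · exact SetLike.coe_mem _
      · exact mul_mem (hzT _ (mem_zpowers z)) (SetLike.coe_mem _)
    have h2 : c * q * c⁻¹ = q :=
      mul_inv_eq_one.1 (congrArg Subtype.val (hOP _ hcomO hcomP))
    rw [h2] at hc
    refine d.refl_not_mem 1 ?_
    have hqx : d.q ∈ zpowers d.x := zpow_mem (mem_zpowers _) _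
    have hw : d.q * (d.x ^ (1 : ℤ) * d.y)⁻¹ ∈ zpowers d.x := by
      rcases (mem_zpowers_invol hz2).1 hc with e | e
      · rw [show d.q * (d.x ^ (1 : ℤ) * d.y)⁻¹ = 1 from Subtype.ext e]; exact one_mem _
      · rw [show d.q * (d.x ^ (1 : ℤ) * d.y)⁻¹ = d.z from Subtype.ext e]
        exact zpow_mem (mem_zpowers _) _
    exact (Subgroup.inv_mem_iff _).1 ((mul_mem_cancel_left hqx).1 hw)
  obtain ⟨hn, ⟨f⟩⟩ := nonempty_gl23 (CfsgLib.Base.pPrimeCore_quotient_pPrimeCore 2 X)
    (qdMap d' eQ) hnot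
  have hn3 : d.n = 3 := hn
  set π : X →* GL23.H := f.toMonoidHom.comp mk with hπ
  have hker : ∀ a, a ∈ π.ker ↔ a ∈ O := fun a => by
    rw [MonoidHom.mem_ker, hπ, MonoidHom.comp_apply]
    exact (map_eq_one_iff f f.injective).trans (QuotientGroup.eq_one_iff a)
  have hsurj : Function.Surjective π := f.surjective.comp (QuotientGroup.mk'_surjective O)
  have hne : ∀ a : X, orderOf a = 2 → π a ≠ 1 := fun a ha e => by
    have h2 := (hOodd.of_dvd_nat (Subgroup.orderOf_dvd_natCard O ((hker a).1 e)))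
    rw [ha] at h2
    exact absurd h2 (by decide)
  have hzX2 : orderOf zX = 2 := by rw [← Subgroup.orderOf_coe]; exact hz2
  have hzv : (π zX).val = !![2, 0; 0, 2] := by
    refine CfsgLib.Small.GL23.central_involution _ (GL23.mem_els _) (fun e => hne zX hzX2 (Units.ext e))
      ?_ fun g _ => ?_
    · rw [← map_mul, invol_mul_self hzX2, map_one]; rfl
    · obtain ⟨a, rfl⟩ := hsurj g
      rw [← map_mul, ← map_mul, hzc a]
  have huz : π uX ≠ π zX := by
    intro e
    have hm : uX * zX ∈ O := (hker _).1 (by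
      rw [MonoidHom.mem_ker, map_mul, e, ← map_mul, invol_mul_self hzX2, map_one])
    have h1 := hOP _ hm (mul_mem (SetLike.coe_mem _) (hz' ▸ SetLike.coe_mem d'.z))
    have h2 : uX = zX := by rw [eq_inv_of_mul_eq_one_left h1, invol_inv hzX2]
    rw [huX, ← hz'] at h2
    exact d'.refl_not_mem i (Subtype.ext h2 ▸ zpow_mem (mem_zpowers _) _)
  let φ : O →* O := (MulAut.conjNormal (H := O) uX).toMonoidHom
  have hφ : MonoidHom.FixedPointFree φ := by
    intro o ho
    have he : uX * (o : X) * uX⁻¹ = (o : X) :=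
      (MulAut.conjNormal_apply uX o).symm.trans (congrArg Subtype.val ho)
    have hoV := huV (o : X) (mul_inv_eq_iff_eq_mul.1 he).symm
    have h2 : orderOf (o : X) ∣ 2 := by
      rw [← Subgroup.orderOf_coe (o : X)]
      refine orderOf_dvd_of_pow_eq_one ?_
      have h4 := h.four
      have := Monoid.pow_exponent_eq_one (⟨((o : X) : H), hoV⟩ : V)
      rw [h4.exponent_two] at this
      exact congrArg Subtype.val this
    have hodd := hOodd.of_dvd_nat (Subgroup.orderOf_dvd_natCard O o.2)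
    rcases (Nat.dvd_prime Nat.prime_two).1 h2 with e | e
    · exact Subtype.ext (orderOf_eq_one_iff.1 e)
    · rw [e] at hodd; exact absurd hodd (by decide)
  have hinvol : Function.Involutive φ := by
    intro o
    refine Subtype.ext ?_
    show ((MulAut.conjNormal uX (MulAut.conjNormal uX o) : O) : X) = o
    rw [MulAut.conjNormal_apply, MulAut.conjNormal_apply, invol_inv hu2]
    simp only [← mul_assoc, invol_mul_self hu2, one_mul]
    rw [mul_assoc, invol_mul_self hu2, mul_one]
  have hact := signed_action π hsurj (z := zX) (u := uX) hzv (invol_mul_self hu2) (hne uX hu2) huz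
    (fun o ho => by
      have := congrFun (hφ.coe_eq_inv_of_involutive hinvol) ⟨o, (hker o).1 ho⟩
      exact (MulAut.conjNormal_apply uX _).symm.trans (congrArg Subtype.val this))
    (fun a ha b hb => congrArg Subtype.val
      (hφ.commute_all_of_involutive hinvol ⟨a, (hker a).1 ha⟩ ⟨b, (hker b).1 hb⟩).eq)
  exact ⟨{
    z := z
    ord := hz2
    mem := hzV
    conj := hconj
    sylow := fun h32 => by
      have hT16 : Nat.card (T : Subgroup H) = 16 := by rw [d.card_eq, hn3]; norm_num
      have hm := (T : Subgroup H).card_mul_index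
      rw [hT16] at hm
      obtain ⟨m, hm'⟩ := h32
      exact T.not_dvd_index ⟨m, by omega⟩
    π := π
    surj := hsurj
    kerOdd := by
      rw [show π.ker = O from SetLike.ext hker]
      exact hOodd
    inner := fun c o ho => (hact c o ho).1
    outer := fun c o ho => (hact c o ho).2 }⟩

end CfsgLib.Subdeg3
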