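import Cfsg.Agent.Lib.Subdeg3.Defs
import Cfsg.Agent.Lib.FT.OddOrderTheorem
import Cfsg.Agent.Lib.FgsC.Basic

/-!
# The `Setup` from a maximal subgroup `Sym 4` meeting a conjugate in a group of order eight
-/

set_option autoImplicit false
set_option linter.style.haveILetI false
set_option linter.unusedSectionVars false
set_option maxRecDepth 40000

namespace CfsgLib.Subdeg3

open Subgroup

universe u

/-- The properties of the normal four-group of `Sym 4` that are used. -/
structure KleinInFour {M : Type*} [Group M] (K : Subgroup M) : Prop where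
  normal : K.Normal
  four : IsKleinFour K
  cent : centralizer (K : Set M) = K
  sq : ∀ k ∈ K, ∃ m : M, m * m = k
  noEight : ∀ R : Subgroup M, R.Normal → Nat.card R ≠ 8
  card : Nat.card M = 24

/-- The four-group of `Sym 4`. -/
def kleinPerm : Subgroup (Equiv.Perm (Fin 4)) where
  carrier := {s | s * s = 1 ∧ (s = 1 ∨ ∀ i, s i ≠ i)}
  mul_mem' := by
    intro a b
    revert a b
    simp only [Set.mem_setOf_eq]
    decide
  one_mem' := ⟨one_mul 1, Or.inl rfl⟩
  inv_mem' := by
    intro a
    revert a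
    simp only [Set.mem_setOf_eq]
    decide

instance : DecidablePred (· ∈ kleinPerm) := fun s =>
  inferInstanceAs (Decidable (s * s = 1 ∧ (s = 1 ∨ ∀ i, s i ≠ i)))

theorem isKleinFour_of_sq {K : Type*} [Group K] (h4 : Nat.card K = 4) (h : ∀ k : K, k * k = 1) :
    IsKleinFour K := by
  refine ⟨h4, ?_⟩
  haveI : Finite K := Nat.finite_of_card_ne_zero (by omega)
  haveI : Nontrivial K := Finite.one_lt_card_iff_nontrivial.1 (by omega)
  refine Nat.dvd_antisymm (Monoid.exponent_dvd_of_forall_pow_eq_one fun k => by rw [pow_two]; exact h k) ?_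
  obtain ⟨k, hk⟩ := exists_ne (1 : K)
  have h2 : orderOf k = 2 := orderOf_eq_prime (by rw [pow_two]; exact h k) hk
  rw [← h2]
  exact Monoid.order_dvd_exponent k

theorem sq_eq_one_of_isKleinFour {G : Type*} [Group G] {V : Subgroup G} (hV : IsKleinFour V) {v : G}
    (hv : v ∈ V) : v * v = 1 := by
  have h := Monoid.pow_exponent_eq_one (⟨v, hv⟩ : V)
  rw [hV.exponent_two, pow_two] at h
  simpa using congrArg (Subgroup.subtype V) h

theorem kleinInFour_perm : KleinInFour kleinPerm where
  normal := ⟨by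
    intro n hn g
    revert hn g n
    decide⟩
  four := isKleinFour_of_sq (by rw [Nat.card_eq_fintype_card]; decide)
    (fun k => Subtype.ext k.2.1)
  cent := by
    ext x
    rw [mem_centralizer_iff]
    revert x
    simp only [SetLike.mem_coe]
    decide
  sq := by decide
  noEight := by
    intro R hR h8
    haveI := hR
    have hi : R.index = 3 := by
      have := R.card_mul_index
      rw [h8, Nat.card_perm, Nat.card_fin, show Nat.factorial 4 = 24 from rfl] at this
      omega
    have hmem : ∀ x : Equiv.Perm (Fin 4), x * x * (x * x) = 1 → x ∈ R := by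
      intro x hx
      rw [← QuotientGroup.eq_one_iff, ← orderOf_eq_one_iff]
      have h4 : orderOf (x : Equiv.Perm (Fin 4) ⧸ R) ∣ 4 := orderOf_dvd_of_pow_eq_one (by
        rw [← QuotientGroup.mk_pow, show x ^ 4 = x * x * (x * x) by simp only [pow_succ, pow_zero, one_mul, mul_assoc], hx, QuotientGroup.mk_one])
      have h3 : orderOf (x : Equiv.Perm (Fin 4) ⧸ R) ∣ 3 := by
        rw [← hi, index_eq_card]; exact orderOf_dvd_natCard _
      simpa using Nat.dvd_gcd h4 h3
    have hle := Nat.card_le_card_of_injective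
      (fun x : {x : Equiv.Perm (Fin 4) // x * x * (x * x) = 1} => (⟨x.1, hmem x.1 x.2⟩ : R))
      (fun x y h => Subtype.ext (congrArg Subtype.val h :))
    rw [h8, show Nat.card {x : Equiv.Perm (Fin 4) // x * x * (x * x) = 1} = 16 by
      rw [Nat.card_eq_fintype_card]; decide] at hle
    omega
  card := by rw [Nat.card_perm, Nat.card_fin]; rfl

theorem KleinInFour.map {M L : Type*} [Group M] [Group L] {K : Subgroup M} (hK : KleinInFour K)
    (e : M ≃* L) : KleinInFour (K.map e.toMonoidHom) := by
  haveI := hK.normal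
  haveI := hK.four
  have hmem : ∀ y : L, y ∈ K.map e.toMonoidHom ↔ e.symm y ∈ K := fun y => mem_map_equiv
  refine ⟨hK.normal.map _ e.surjective, ?_, ?_, ?_, ?_, ?_⟩
  · refine isKleinFour_of_sq
      (by rw [card_map_of_injective (f := e.toMonoidHom) e.injective]; exact hK.four.card_four)
      fun k => Subtype.ext (e.symm.injective ?_)
    have := sq_eq_one_of_isKleinFour hK.four ((hmem _).1 k.2)
    rw [Subgroup.coe_mul, Subgroup.coe_one, map_mul, map_one]
    exact this
  · ext y
    rw [mem_centralizer_iff, hmem]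
    constructor
    · intro h
      rw [← hK.cent, mem_centralizer_iff]
      intro k hk
      apply e.injective
      simpa using h (e k) ((hmem _).2 (by simpa using hk))
    · intro h z hz
      rw [← hK.cent, mem_centralizer_iff] at h
      apply e.symm.injective
      simpa using h _ ((hmem _).1 hz)
  · intro y hy
    obtain ⟨m, hm⟩ := hK.sq _ ((hmem _).1 hy)
    exact ⟨e m, by rw [← map_mul, hm, e.apply_symm_apply]⟩
  · intro R hR h8
    refine hK.noEight (R.comap e.toMonoidHom) (hR.comap _) ?_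
    rw [← h8]
    exact Nat.card_congr
      ⟨fun x => ⟨e x.1, x.2⟩, fun y => ⟨e.symm y.1, by simp [mem_comap]⟩,
        fun x => Subtype.ext (e.symm_apply_apply x.1), fun y => Subtype.ext (e.apply_symm_apply y.1)⟩
  · rw [← hK.card]; exact Nat.card_congr e.symm.toEquiv

theorem exists_kleinInFour {M : Type*} [Group M] (h : Nonempty (M ≃* Equiv.Perm (Fin 4))) :
    ∃ K : Subgroup M, KleinInFour K := by
  obtain ⟨e⟩ := h
  exact ⟨_, kleinInFour_perm.map e.symm⟩

variable {G : Type u} [Group G] [Finite G]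

theorem relIndex_mul_card_of_le {H K : Subgroup G} (h : H ≤ K) :
    H.relIndex K * Nat.card H = Nat.card K := by
  rw [← relIndex_bot_left H, ← relIndex_bot_left K, mul_comm]
  exact relIndex_mul_relIndex _ _ _ bot_le h

theorem mem_normalizer_of_map_conj_le {R : Subgroup G} {x : G}
    (h : R.map (MulAut.conj x).toMonoidHom ≤ R) : x ∈ normalizer (R : Set G) := by
  have he : R.map (MulAut.conj x).toMonoidHom = R := eq_of_le_of_card_ge h
    (card_map_of_injective (f := (MulAut.conj x).toMonoidHom) (MulAut.conj x).injective).ge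
  refine mem_normalizer_iff.2 fun a => ⟨fun ha => h ⟨a, ha, rfl⟩, fun ha => ?_⟩
  obtain ⟨b, hb, hb'⟩ := he.ge ha
  rwa [show a = b from (MulAut.conj x).injective hb'.symm]

theorem map_conj_eq_of_mem_normalizer {R : Subgroup G} {x : G}
    (h : x ∈ normalizer (R : Set G)) : R.map (MulAut.conj x).toMonoidHom = R := by
  refine eq_of_le_of_card_ge ?_
    (card_map_of_injective (f := (MulAut.conj x).toMonoidHom) (MulAut.conj x).injective).ge
  rintro y ⟨a, ha, rfl⟩
  exact (mem_normalizer_iff.1 h a).1 ha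

/-- A normalised four-group lies in every subgroup of order eight of a group of order `24`. -/
theorem four_le_of_card_eight {M R V : Subgroup G} (hM : Nat.card M = 24) (hV : Nat.card V = 4)
    (hR : Nat.card R = 8) (hRM : R ≤ M) (hVM : V ≤ M) (hn : M ≤ normalizer (V : Set G)) : V ≤ R := by
  haveI : Fact (Nat.Prime 2) := ⟨Nat.prime_two⟩
  have hp : IsPGroup 2 (R ⊔ V : Subgroup G) := IsPGroup.to_sup_of_normal_right'
    (IsPGroup.of_card (n := 3) (by simpa using hR)) (IsPGroup.of_card (n := 2) (by simpa using hV))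
    (hRM.trans hn)
  obtain ⟨k, hk⟩ := IsPGroup.iff_card.1 hp
  have hd : 2 ^ k ∣ 24 := hk ▸ hM ▸ card_dvd_of_le (sup_le hRM hVM)
  have hk3 : k ≤ 3 := by
    by_contra hc
    have : 2 ^ 4 ∣ 24 := (pow_dvd_pow 2 (by omega)).trans hd
    norm_num at this
  have heq : R = R ⊔ V := eq_of_le_of_card_ge le_sup_left (by
    rw [hk, hR]; exact Nat.pow_le_pow_right (n := 2) (by norm_num) hk3)
  exact le_sup_right.trans heq.ge

/-- The four-groups of a dihedral group of order eight. -/
theorem four_eq_or {R V V' W : Subgroup G} (hR : Nat.card R = 8) (hV : Nat.card V = 4)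
    (hV' : Nat.card V' = 4) (hW : Nat.card W = 4) (hVR : V ≤ R) (hV'R : V' ≤ R) (hWR : W ≤ R)
    (hV2 : ∀ v ∈ V, v * v = 1) (hV'2 : ∀ v ∈ V', v * v = 1) (hW2 : ∀ v ∈ W, v * v = 1)
    (hne : V' ≠ V) (hc : ∀ x ∈ R, (∀ v ∈ V, v * x = x * v) → x ∈ V) : W = V ∨ W = V' := by
  by_cases hWV : W ≤ V
  · exact Or.inl (eq_of_le_of_card_ge hWV (by omega))
  have hV'V : ¬ V' ≤ V := fun h => hne (eq_of_le_of_card_ge h (by omega))
  obtain ⟨x, hx', hxV⟩ := SetLike.not_le_iff_exists.1 hV'V
  obtain ⟨w, hw, hwV⟩ := SetLike.not_le_iff_exists.1 hWV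
  have hi : (V.subgroupOf R).index = 2 := by
    have := (V.subgroupOf R).card_mul_index
    rw [Nat.card_congr (subgroupOfEquivOfLe hVR).toEquiv, hV, hR] at this
    omega
  have key : ∀ y ∈ R, y * y = 1 → y ∉ V → y * x = x * y := by
    intro y hy hy2 hyV
    have hyx : y * x ∈ V := by
      have := (mul_mem_iff_of_index_two hi (a := ⟨y, hy⟩) (b := ⟨x, hV'R hx'⟩)).2 (by
        simp only [mem_subgroupOf]; exact iff_of_false hyV hxV)
      simpa [mem_subgroupOf] using this
    have h := hV2 _ hyx
    have hx2 := hV'2 x hx'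
    calc y * x = (y * x)⁻¹ := (inv_eq_of_mul_eq_one_right h).symm
      _ = x * y := by rw [mul_inv_rev, inv_eq_of_mul_eq_one_right hx2, inv_eq_of_mul_eq_one_right hy2]
  set C := R ⊓ centralizer ({x} : Set G) with hC
  have hCne : C ≠ R := by
    intro h
    refine hxV (hc x (hV'R hx') fun v hv => ?_)
    have := (mem_inf.1 (h.ge (hVR hv))).2
    rw [mem_centralizer_singleton_iff] at this
    exact this
  have hV'C : V' ≤ C := fun v hv => mem_inf.2 ⟨hV'R hv, mem_centralizer_singleton_iff.2 (by
    have h := hV'2 (v * x) (mul_mem hv hx')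
    have hv2 := hV'2 v hv
    have hx2 := hV'2 x hx'
    calc v * x = (v * x)⁻¹ := (inv_eq_of_mul_eq_one_right h).symm
      _ = x * v := by rw [mul_inv_rev, inv_eq_of_mul_eq_one_right hx2, inv_eq_of_mul_eq_one_right hv2])⟩
  have hC4 : Nat.card C = 4 := by
    have h1 : Nat.card C ∣ 8 := hR ▸ card_dvd_of_le inf_le_left
    have h2 : 4 ∣ Nat.card C := hV' ▸ card_dvd_of_le hV'C
    have h3 : Nat.card C ≠ 8 := fun h =>
      hCne (eq_of_le_of_card_ge inf_le_left (by rw [h, hR]))
    have h4 := Nat.le_of_dvd (by norm_num) h1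
    obtain ⟨c, hc'⟩ := h2
    have : c ≤ 2 := by omega
    interval_cases c <;> simp_all
  have hCV' : V' = C := eq_of_le_of_card_ge hV'C (by omega)
  have hout : ∀ y ∈ W, y ∉ V → y ∈ V' := fun y hy hyV => by
    rw [hCV']
    exact mem_inf.2 ⟨hWR hy, mem_centralizer_singleton_iff.2 (key y (hWR hy) (hW2 y hy) hyV)⟩
  refine Or.inr (eq_of_le_of_card_ge (fun y hy => ?_) (by omega))
  by_cases hyV : y ∈ V
  · have h1 : y * w ∉ V := fun h => hwV (by simpa using mul_mem (inv_mem hyV) h)
    simpa using mul_mem (hout _ (mul_mem hy hw) h1) (inv_mem (hout w hw hwV))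
  · exact hout y hy hyV

/-- The group has order divisible by sixteen. -/
theorem sixteen_dvd {M M' V : Subgroup G} {g : G} (hg : M.map (MulAut.conj g).toMonoidHom = M')
    (hne : M' ≠ M) (hi : Nat.card (M ⊓ M' : Subgroup G) = 8) (hV : IsKleinFour V)
    (hM24 : Nat.card M = 24) (hVM : V ≤ M) (hN : normalizer (V : Set G) = M)
    (hcent : centralizer (V : Set G) = V)
    (hno : ∀ R : Subgroup M, R.Normal → Nat.card R ≠ 8) : 16 ∣ Nat.card G := by
  by_contra h16
  set R : Subgroup G := M ⊓ M' with hRdef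
  set V' : Subgroup G := V.map (MulAut.conj g).toMonoidHom with hV'def
  have hV'4 : Nat.card V' = 4 := by
    rw [hV'def, card_map_of_injective (f := (MulAut.conj g).toMonoidHom) (MulAut.conj g).injective]
    exact hV.card_four
  have hM'24 : Nat.card M' = 24 := by
    rw [← hg, card_map_of_injective (f := (MulAut.conj g).toMonoidHom) (MulAut.conj g).injective, hM24]
  have hnV' : M' ≤ normalizer (V' : Set G) := by
    rw [← hg, ← hN]
    exact Subgroup.le_normalizer_map _
  have hV'ne : V' ≠ V := fun h => by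
    rw [h, hN] at hnV'
    exact hne (eq_of_le_of_card_ge hnV' (by omega))
  have hVR : V ≤ R := four_le_of_card_eight hM24 hV.card_four hi inf_le_left hVM hN.ge
  have hV'R : V' ≤ R := four_le_of_card_eight hM'24 hV'4 hi inf_le_right
    (by rw [hV'def, ← hg]; exact map_mono hVM) hnV'
  -- the normalizer of `R` in `M` is `R`
  have hNM : ∀ x ∈ M, x ∈ normalizer (R : Set G) → x ∈ R := by
    intro x hxM hxR
    set S : Subgroup G := M ⊓ normalizer (R : Set G)
    have hRS : R ≤ S := le_inf inf_le_left Subgroup.le_normalizer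
    have h1 : Nat.card S ∣ 24 := hM24 ▸ card_dvd_of_le inf_le_left
    have h2 : 8 ∣ Nat.card S := hi ▸ card_dvd_of_le hRS
    have h3 : Nat.card S ≠ 24 := fun h => by
      have hMS : M = S := (eq_of_le_of_card_ge inf_le_left (by rw [h, hM24])).symm
      refine hno (R.subgroupOf M) ((normal_subgroupOf_iff_le_normalizer inf_le_left).2
        (hMS.le.trans inf_le_right)) ?_
      rw [Nat.card_congr (subgroupOfEquivOfLe inf_le_left).toEquiv]
      exact hi
    have h4 : Nat.card S = 8 := by
      have := Nat.le_of_dvd (by norm_num) h1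
      obtain ⟨c, hc⟩ := h2
      have : c ≤ 3 := by omega
      interval_cases c
      · have := Nat.card_pos (α := S); omega
      · omega
      · rw [hc] at h1; norm_num at h1
      · omega
    rw [eq_of_le_of_card_ge hRS (by rw [h4, hi])]
    exact ⟨hxM, hxR⟩
  have hc : ∀ x ∈ R, (∀ v ∈ V, v * x = x * v) → x ∈ V := fun x _ h => by
    rw [← hcent]; exact mem_centralizer_iff.2 h
  have hV2 : ∀ v ∈ V, v * v = 1 := fun v hv => sq_eq_one_of_isKleinFour hV hv
  have hV'2 : ∀ v ∈ V', v * v = 1 := by
    rintro v ⟨a, ha, rfl⟩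
    rw [← map_mul, hV2 a ha, map_one]
  -- elements of the normalizer outside `R` exchange the two four-groups
  have hswap : ∀ x ∈ normalizer (R : Set G), x ∉ R →
      V.map (MulAut.conj x).toMonoidHom = V' := by
    intro x hx hxR
    refine (four_eq_or hi hV.card_four hV'4 ?_ hVR hV'R ?_ hV2 hV'2 ?_ hV'ne hc).resolve_left ?_
    · rw [card_map_of_injective (f := (MulAut.conj x).toMonoidHom) (MulAut.conj x).injective]
      exact hV.card_four
    · rintro y ⟨a, ha, rfl⟩
      exact ((mem_normalizer_iff.1 hx) a).1 (hVR ha)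
    · rintro y ⟨a, ha, rfl⟩
      rw [← map_mul, hV2 a ha, map_one]
    · intro h
      refine hxR (hNM x ?_ hx)
      rw [← hN]
      exact mem_normalizer_of_map_conj_le h.le
  have hNR : ∀ x ∈ normalizer (R : Set G), x ∈ R := by
    intro n hn
    by_contra hnR
    refine h16 ?_
    have h2 : R.relIndex (normalizer (R : Set G)) = 2 := by
      refine relIndex_eq_two_iff.2 ⟨n, hn, fun b hb => ?_⟩
      by_cases hbR : b ∈ R
      · exact Or.inr ⟨hbR, fun h => hnR (by simpa using mul_mem (inv_mem hbR) h)⟩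
      · refine Or.inl ⟨hNM _ ?_ (mul_mem hb hn), hbR⟩
        -- `n` and `b⁻¹` both send `V` to `V'`
        have h1 := hswap n hn hnR
        have h2 := hswap b⁻¹ (inv_mem hb) (fun h => hbR (by simpa using inv_mem h))
        rw [← hN]
        refine mem_normalizer_of_map_conj_le ?_
        rintro y ⟨a, ha, rfl⟩
        simp only [MulEquiv.toMonoidHom_eq_coe, MonoidHom.coe_coe, MulAut.conj_apply]
        exact by
          obtain ⟨c, hc', hc''⟩ := h2.ge (h1.le ⟨a, ha, rfl⟩)
          simp only [MulEquiv.toMonoidHom_eq_coe, MonoidHom.coe_coe, MulAut.conj_apply, inv_inv]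
            at hc''
          rwa [show b * n * a * (b * n)⁻¹ = b * (n * a * n⁻¹) * b⁻¹ by group, ← hc'',
            show b * (b⁻¹ * c * b) * b⁻¹ = c by group]
    have h3 := relIndex_mul_card_of_le (Subgroup.le_normalizer (H := R))
    rw [h2, hi] at h3
    have := card_subgroup_dvd_card (normalizer (R : Set G))
    rw [← h3] at this
    exact this
  -- Sylow's theorem in `M`
  haveI : Fact (Nat.Prime 2) := ⟨Nat.prime_two⟩
  set R₁ : Subgroup G := R.map (MulAut.conj g⁻¹).toMonoidHom with hR₁def
  have hR₁M : R₁ ≤ M := by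
    rintro y ⟨a, ha, rfl⟩
    obtain ⟨b, hb, rfl⟩ := hg.ge (show a ∈ M' from ha.2)
    simpa [mul_assoc] using hb
  have hR₁8 : Nat.card R₁ = 8 := by
    rw [hR₁def, card_map_of_injective (f := (MulAut.conj g⁻¹).toMonoidHom) (MulAut.conj g⁻¹).injective]
    exact hi
  have hf : (Nat.card M).factorization 2 = 3 := by
    rw [hM24, show (24 : ℕ) = 2 ^ 3 * 3 by norm_num, Nat.factorization_mul (by norm_num) (by norm_num)]
    rw [Finsupp.add_apply, Nat.Prime.factorization_pow Nat.prime_two, Nat.Prime.factorization Nat.prime_three]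
    simp
  let P : Sylow 2 M := Sylow.ofCard (R.subgroupOf M) (by
    rw [Nat.card_congr (subgroupOfEquivOfLe inf_le_left).toEquiv, hf]; exact hi)
  let Q : Sylow 2 M := Sylow.ofCard (R₁.subgroupOf M) (by
    rw [Nat.card_congr (subgroupOfEquivOfLe hR₁M).toEquiv, hf]; exact hR₁8)
  obtain ⟨m, hm⟩ := MulAction.exists_smul_eq M P Q
  have hRR : ∀ a ∈ R, (m : G) * a * (m : G)⁻¹ ∈ R₁ := by
    intro a ha
    have h1 : MulAut.conj m ⟨a, inf_le_left (b := M') ha⟩ ∈ ((m • P : Sylow 2 M) : Subgroup M) := by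
      rw [Sylow.coe_subgroup_smul]
      exact Subgroup.smul_mem_pointwise_smul _ (MulAut.conj m) _ (by exact ha)
    rw [hm] at h1
    exact h1
  have hgm : g * (m : G) ∈ normalizer (R : Set G) := by
    refine mem_normalizer_of_map_conj_le ?_
    rintro y ⟨a, ha, rfl⟩
    obtain ⟨c, hc', hc''⟩ := hRR a ha
    simp only [MulEquiv.toMonoidHom_eq_coe, MonoidHom.coe_coe, MulAut.conj_apply, inv_inv] at hc'' ⊢
    have heq : g * (m : G) * a * (g * (m : G))⁻¹ = c := by
      rw [show g * (m : G) * a * (g * (m : G))⁻¹ = g * ((m : G) * a * (m : G)⁻¹) * g⁻¹ by group, ← hc'']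
      group
    rw [heq]
    exact hc'
  have hgM : g ∈ M := by simpa using mul_mem ((hNR _ hgm).1 : g * (m : G) ∈ M) (M.inv_mem m.2)
  refine hne (eq_of_le_of_card_ge ?_ (by omega))
  rw [← hg]
  rintro y ⟨a, ha, rfl⟩
  exact mul_mem (mul_mem hgM ha) (inv_mem hgM)

/-- The `Setup` for a maximal subgroup `Sym 4`. -/
theorem setup_of_symFour (hrad : ∀ N : Subgroup G, N.Normal → Group.IsSolvable N → N = ⊥)
    {M M' : Subgroup G} (hM : IsCoatom M) (hne : M' ≠ M)
    (hconj : ∃ g : G, M.map (MulAut.conj g).toMonoidHom = M')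
    (hi : Nat.card (M ⊓ M' : Subgroup G) = 8) (e : Nonempty (M ≃* Equiv.Perm (Fin 4))) :
    ∃ V : Subgroup G, Setup G V ∧ normalizer (V : Set G) = M := by
  obtain ⟨K, hK⟩ := exists_kleinInFour e
  obtain ⟨g, hg⟩ := hconj
  haveI := hK.normal
  set V : Subgroup G := K.map M.subtype with hVdef
  have hVM : V ≤ M := map_subtype_le K
  have hmem : ∀ x : M, (x : G) ∈ V ↔ x ∈ K := fun x =>
    ⟨fun ⟨y, hy, he⟩ => Subtype.ext he ▸ hy, fun h => ⟨x, h, rfl⟩⟩
  have hV4 : Nat.card V = 4 := by
    rw [hVdef, card_map_of_injective M.subtype_injective]; exact hK.four.card_four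
  have hV2 : ∀ v ∈ V, v * v = 1 := by
    rintro v ⟨k, hk, rfl⟩
    rw [← map_mul, sq_eq_one_of_isKleinFour hK.four hk, map_one]
  have hV : IsKleinFour V := isKleinFour_of_sq hV4 fun k => Subtype.ext (hV2 k.1 k.2)
  have hMN : M ≤ normalizer (V : Set G) := fun m hm => mem_normalizer_of_map_conj_le (by
    rintro y ⟨a, ⟨k, hk, rfl⟩, rfl⟩
    exact (hmem (⟨m, hm⟩ * k * ⟨m, hm⟩⁻¹)).2 (hK.normal.conj_mem k hk _))
  have hVsol : Group.IsSolvable V :=
    Group.isSolvable_of_comm fun a b => mul_comm_of_exponent_two hV.exponent_two a b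
  have hN : normalizer (V : Set G) = M := (hM.le_iff.1 hMN).resolve_left fun h => by
    have := hrad V (normalizer_eq_top_iff.1 h) hVsol
    rw [this, card_bot] at hV4
    omega
  have hcent : centralizer (V : Set G) = V := by
    refine le_antisymm (fun x hx => ?_) fun v hv => mem_centralizer_iff.2 fun w hw => ?_
    · have hxM : x ∈ M := hN.le (Subgroup.centralizer_le_normalizer _ hx)
      have : (⟨x, hxM⟩ : M) ∈ centralizer (K : Set M) := mem_centralizer_iff.2 fun k hk =>
        Subtype.ext (mem_centralizer_iff.1 hx _ ((hmem k).2 hk))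
      rw [hK.cent] at this
      exact (hmem _).2 this
    · exact congrArg Subtype.val
        (mul_comm_of_exponent_two hV.exponent_two (⟨w, hw⟩ : V) ⟨v, hv⟩)
  have hM24 : Nat.card M = 24 := hK.card
  have hMsol : Group.IsSolvable M := by
    obtain ⟨f⟩ := e
    haveI := CfsgLib.FgsC.isSolvable_perm_fin_four
    exact Group.isSolvable_of_isSolvable_injective (f := f.toMonoidHom) f.injective
  have h16 : 16 ∣ Nat.card G := sixteen_dvd hg hne hi hV hM24 hVM hN hcent hK.noEight
  refine ⟨V, ⟨hV, hcent, by rw [hN, hM24], h16, hrad, fun W hW hinv => ?_, fun L hL => ?_⟩, hN⟩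
  · have hMW : M ≤ normalizer (W : Set G) := fun m hm => mem_normalizer_of_map_conj_le
      (hinv (MulAut.conj m) (map_conj_eq_of_mem_normalizer (hMN hm))).le
    rcases hM.le_iff.1 hMW with h | h
    · exact hrad W (normalizer_eq_top_iff.1 h) (CfsgLib.FT.isSolvable_of_odd hW)
    have hWM : W ≤ M := Subgroup.le_normalizer.trans h.le
    refine (eq_bot_iff_forall _).2 fun w hw => ?_
    have hcop : Disjoint W V := disjoint_iff.2 (eq_bot_of_card_eq _ (Nat.dvd_one.1 (by
      have h1 := card_dvd_of_le (inf_le_left : W ⊓ V ≤ W)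
      have h2 := card_dvd_of_le (inf_le_right : W ⊓ V ≤ V)
      rw [hV4] at h2
      have hc : Nat.Coprime (Nat.card W) 4 :=
        Nat.Coprime.pow_right 2 (Nat.coprime_two_right.2 hW)
      exact hc.gcd_eq_one ▸ Nat.dvd_gcd h1 h2)))
    have hwc : w ∈ centralizer (V : Set G) := mem_centralizer_iff.2 fun v hv => by
      have h1 : v * w * v⁻¹ * w⁻¹ ∈ W :=
        mul_mem (((mem_normalizer_iff.1 (hMW (hVM hv))) w).1 hw) (inv_mem hw)
      have h2 : v * w * v⁻¹ * w⁻¹ ∈ V := by
        rw [show v * w * v⁻¹ * w⁻¹ = v * (w * v⁻¹ * w⁻¹) by group]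
        exact mul_mem hv (((mem_normalizer_iff.1 (hMN (hWM hw))) _).1 (inv_mem hv))
      have h3 := Subgroup.disjoint_def.1 hcop h1 h2
      calc v * w = v * w * v⁻¹ * w⁻¹ * (w * v) := by group
        _ = w * v := by rw [h3, one_mul]
    rw [hcent] at hwc
    exact Subgroup.disjoint_def.1 hcop hw hwc
  · haveI := normal_of_index_eq_two hL
    have hVL : V ≤ L := by
      rintro v ⟨k, hk, rfl⟩
      obtain ⟨m, rfl⟩ := hK.sq k hk
      rw [map_mul]
      exact mul_self_mem_of_index_two hL _
    set V' : Subgroup G := V.map (MulAut.conj g).toMonoidHom with hV'def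
    have hV'L : V' ≤ L := by
      rintro v ⟨a, ha, rfl⟩
      exact Normal.conj_mem inferInstance a (hVL ha) g
    have hM'24 : Nat.card M' = 24 := by
      rw [← hg, card_map_of_injective (f := (MulAut.conj g).toMonoidHom) (MulAut.conj g).injective,
        hM24]
    have hnV' : M' ≤ normalizer (V' : Set G) := by
      rw [← hg, ← hN]
      exact Subgroup.le_normalizer_map _
    have hV'4 : Nat.card V' = 4 := by
      rw [hV'def, card_map_of_injective (f := (MulAut.conj g).toMonoidHom) (MulAut.conj g).injective]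
      exact hV4
    have hV'ne : V' ≠ V := fun h => by
      rw [h, hN] at hnV'
      exact hne (eq_of_le_of_card_ge hnV' (by omega))
    have hVR : V ≤ M ⊓ M' := four_le_of_card_eight hM24 hV4 hi inf_le_left hVM hMN
    have hV'R : V' ≤ M ⊓ M' := four_le_of_card_eight hM'24 hV'4 hi inf_le_right
      (by rw [hV'def, ← hg]; exact map_mono hVM) hnV'
    have hRL : M ⊓ M' ≤ L := by
      obtain ⟨x, hx', hxV⟩ := SetLike.not_le_iff_exists.1
        (fun h => hV'ne (eq_of_le_of_card_ge h (by omega)) : ¬ V' ≤ V)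
      have hS : 4 < Nat.card (V ⊔ V' : Subgroup G) := by
        refine hV4 ▸ lt_of_le_of_ne (Nat.le_of_dvd Nat.card_pos (card_dvd_of_le le_sup_left)) fun h => ?_
        exact hxV ((eq_of_le_of_card_ge le_sup_left h.ge).ge (mem_sup_right hx'))
      have hd : Nat.card (V ⊔ V' : Subgroup G) ∣ 8 := hi ▸ card_dvd_of_le (sup_le hVR hV'R)
      have h8 : Nat.card (V ⊔ V' : Subgroup G) = 8 := by
        have := Nat.le_of_dvd (by norm_num) hd
        interval_cases (Nat.card (V ⊔ V' : Subgroup G)) <;> omega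
      exact (eq_of_le_of_card_ge (sup_le hVR hV'R) (by omega)).ge.trans (sup_le hVL hV'L)
    have hML : M ≤ L := by
      have h1 : Nat.card (M ⊓ L : Subgroup G) ∣ 24 := hM24 ▸ card_dvd_of_le inf_le_left
      have h2 : 8 ∣ Nat.card (M ⊓ L : Subgroup G) := hi ▸ card_dvd_of_le (le_inf inf_le_left hRL)
      have h3 : 12 ≤ Nat.card (M ⊓ L : Subgroup G) := by
        have h := relIndex_mul_card_of_le (inf_le_left : M ⊓ L ≤ M)
        have h4 : (M ⊓ L).relIndex M ≤ 2 := by
          rw [inf_comm, inf_relIndex_right]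
          exact (Nat.le_of_dvd (by omega) (hL ▸ relIndex_dvd_index_of_normal L M))
        rw [hM24] at h
        nlinarith
      have h5 := Nat.le_of_dvd (by norm_num) h1
      exact inf_eq_left.1 (eq_of_le_of_card_ge inf_le_left (by
        obtain ⟨c, hc⟩ := h2
        have : c ≤ 3 := by omega
        interval_cases c <;> first | omega | (rw [hc] at h1; norm_num at h1)))
    rcases hM.le_iff.1 hML with h | h
    · rw [h, index_top] at hL
      omega
    · subst h
      have := hrad _ inferInstance hMsol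
      rw [this, card_bot] at hM24
      omega

end CfsgLib.Subdeg3
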