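import Cfsg.Agent.Lib.Subdeg3.Defs
import Cfsg.Agent.Lib.CharsMore.SCOrder3.Main
import Cfsg.Agent.Lib.Small.Order168Klein
import Cfsg.Agent.Lib.Recog.PartitionType.SplitSylow
import Cfsg.Agent.Lib.KnownA.AutAlt
import Cfsg.Agent.Lib.PSL2.PGLMax
import Cfsg.Agent.Lib.PSL2.Congr
import Cfsg.Agent.Lib.PSL2.Four
import Cfsg.Agent.Lib.FgsC.Basic
import Cfsg.Agent.S2507

/-!
# Small point stabilisers

A maximal subgroup of type `Z3` is impossible, one of type `S3` forces `A5`, and one of type
`D12` forces `S5`, `PGL(2,7)`, `PSL(2,11)` or `PSL(2,13)`.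
-/

set_option autoImplicit false
set_option linter.style.haveILetI false
set_option linter.unusedSectionVars false

namespace CfsgLib.Subdeg3

open Subgroup

universe u

section three

variable {G : Type u} [Group G] [Finite G]

theorem card_centralizer_equiv {H : Type*} [Group H] (e : G ≃* H) (z : G) :
    Nat.card (centralizer ({e z} : Set H)) = Nat.card (centralizer ({z} : Set G)) := by
  refine Nat.card_congr ((Equiv.subtypeEquiv e.toEquiv fun g => ?_).symm)
  rw [mem_centralizer_singleton_iff, mem_centralizer_singleton_iff]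
  show g * z = z * g ↔ e g * e z = e z * e g
  rw [← map_mul, ← map_mul, e.injective.eq_iff]

theorem normalizer_eq_of_le (hrad : ∀ N : Subgroup G, N.Normal → Group.IsSolvable N → N = ⊥)
    {M : Subgroup G} (hM : IsCoatom M) {x : G} (hx : orderOf x = 3)
    (hle : M ≤ normalizer (zpowers x : Set G)) : normalizer (zpowers x : Set G) = M := by
  rcases eq_or_lt_of_le hle with e | e
  · exact e.symm
  · exfalso
    have hbot := hrad (zpowers x) (normalizer_eq_top_iff.1 (hM.2 _ e)) inferInstance
    rw [zpowers_eq_bot] at hbot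
    rw [hbot, orderOf_one] at hx
    omega

theorem sc_of_equiv (hrad : ∀ N : Subgroup G, N.Normal → Group.IsSolvable N → N = ⊥)
    {M : Subgroup G} (hM : IsCoatom M) {Q : Type*} [Group Q] (e : M ≃* Q) {a : Q}
    (ha : orderOf a = 3) (hcent : ∀ g : Q, g * a = a * g → g = 1 ∨ g = a ∨ g = a ^ 2)
    (hnorm : ∀ g : Q, g * a * g⁻¹ = a ∨ g * a * g⁻¹ = a ^ 2) :
    ∃ x : G, CharsMore.SCOrder3.SC x ∧ normalizer (zpowers x : Set G) = M := by
  set x : G := ((e.symm a : M) : G) with hx
  have hxo : orderOf x = 3 := by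
    rw [hx, orderOf_coe, MulEquiv.orderOf_eq, ha]
  have hN : normalizer (zpowers x : Set G) = M := by
    refine normalizer_eq_of_le hrad hM hxo fun m hm => ?_
    have heq : (zpowers x).map (MulAut.conj m).toMonoidHom = zpowers x := by
      rw [MonoidHom.map_zpowers]
      refine eq_of_le_of_card_ge (zpowers_le.2 ?_) (le_of_eq ?_)
      · rcases hnorm (e ⟨m, hm⟩) with h | h
        · refine (show ((⟨m, hm⟩ * e.symm a * ⟨m, hm⟩⁻¹ : M) : G) ∈ zpowers x from ?_)
          rw [show (⟨m, hm⟩ * e.symm a * ⟨m, hm⟩⁻¹ : M) = e.symm a from e.injective (by simpa using h)]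
          exact mem_zpowers x
        · refine (show ((⟨m, hm⟩ * e.symm a * ⟨m, hm⟩⁻¹ : M) : G) ∈ zpowers x from ?_)
          rw [show (⟨m, hm⟩ * e.symm a * ⟨m, hm⟩⁻¹ : M) = e.symm a ^ 2 from
            e.injective (by simpa using h)]
          exact pow_mem (mem_zpowers x) 2
      · rw [Nat.card_zpowers, Nat.card_zpowers]
        exact (MulEquiv.orderOf_eq (MulAut.conj m) x).symm
    refine mem_normalizer_iff.2 fun h => ?_
    conv_rhs => rw [← heq]
    exact (Subgroup.mem_map_iff_mem (f := (MulAut.conj m).toMonoidHom) (MulAut.conj m).injective).symm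
  refine ⟨x, ⟨hxo, fun g hg => ?_⟩, hN⟩
  have hgM : g ∈ M := by
    rw [← hN]
    refine centralizer_le_normalizer _ ?_
    rw [mem_centralizer_iff]
    intro y hy
    obtain ⟨i, rfl⟩ := mem_zpowers_iff.1 hy
    exact ((hg.zpow_right i).eq).symm
  rcases hcent (e ⟨g, hgM⟩) (by
      rw [← e.apply_symm_apply a, ← map_mul, ← map_mul]
      exact congrArg e (Subtype.ext hg.eq)) with h | h | h
  · left
    exact congrArg Subtype.val (e.map_eq_one_iff.1 h)
  · right; left
    exact congrArg Subtype.val (show (⟨g, hgM⟩ : M) = e.symm a by rw [← h, e.symm_apply_apply])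
  · right; right
    exact congrArg Subtype.val
      (show (⟨g, hgM⟩ : M) = e.symm a ^ 2 by rw [← map_pow, ← h, e.symm_apply_apply])

theorem three_cases (hns : ¬ Group.IsSolvable G)
    (hrad : ∀ N : Subgroup G, N.Normal → Group.IsSolvable N → N = ⊥) {x : G}
    (h : CharsMore.SCOrder3.SC x) :
    Nonempty (G ≃* alternatingGroup (Fin 5)) ∨ (Nat.card G = 168 ∧ IsSimpleGroup G) := by
  rcases h.classification with ⟨N, hN, hnil, -, hq⟩ | ⟨N, hN, hab, -, ⟨e⟩⟩ | ⟨⟨e⟩⟩
  · exfalso
    haveI := hnil
    obtain rfl := hrad N hN inferInstance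
    refine hns ?_
    rcases hq with h3 | ⟨⟨e⟩⟩
    · haveI : Fact (Nat.Prime 3) := ⟨Nat.prime_three⟩
      have h3' : Nat.card G = 3 := by
        rwa [← Subgroup.index_eq_card, Subgroup.index_bot] at h3
      haveI := isCyclic_of_prime_card h3'
      exact inferInstance
    · exact FgsC.isSolvable_of_injective_perm (α := Fin 3) (by simp)
        ((e.toMonoidHom).comp (QuotientGroup.quotientBot.symm.toMonoidHom))
        (e.injective.comp QuotientGroup.quotientBot.symm.injective)
  · obtain rfl := hrad N hN (Group.isSolvable_of_comm fun a b => hab.is_comm.comm a b)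
    exact .inl ⟨QuotientGroup.quotientBot.symm.trans e⟩
  · haveI : Fact (Nat.Prime 7) := ⟨by norm_num⟩
    haveI := Small.isSimple_PSL_two (F := ZMod 7) (ZMod.card 7) (by norm_num)
    refine .inr ⟨?_, ?_⟩
    · have h2 := Small.card_PSL_two_prime (F := ZMod 7) (ZMod.card 7) (by decide)
      rw [Nat.card_congr e.toEquiv]
      rw [show 7 * (7 ^ 2 - 1) = 336 by norm_num] at h2
      omega
    · exact e.isSimpleGroup

theorem not_three (hns : ¬ Group.IsSolvable G)
    (hrad : ∀ N : Subgroup G, N.Normal → Group.IsSolvable N → N = ⊥) {M : Subgroup G}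
    (hM : IsCoatom M) (e : M ≃* Multiplicative (ZMod 3)) : False := by
  obtain ⟨x, hx, hN⟩ := sc_of_equiv hrad hM e (a := Multiplicative.ofAdd (1 : ZMod 3))
    (orderOf_eq_prime (by decide) (by decide)) (by decide) (by decide)
  haveI : Fact (Nat.Prime 3) := ⟨Nat.prime_three⟩
  have hc : Nat.card M = 3 := by
    rw [Nat.card_congr e.toEquiv, Nat.card_congr Multiplicative.toAdd, Nat.card_zmod]
  have hcard : Nat.card G = 60 ∨ Nat.card G = 168 := by
    rcases three_cases hns hrad hx with ⟨⟨e'⟩⟩ | ⟨h, -⟩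
    · left
      rw [Nat.card_congr e'.toEquiv, nat_card_alternatingGroup, Nat.card_fin]
      rfl
    · exact .inr h
  obtain ⟨P, hP⟩ := (IsPGroup.of_card (p := 3) (n := 1) (by rw [hc, pow_one] : Nat.card M = 3 ^ 1)).exists_le_sylow
  have hPc : Nat.card (P : Subgroup G) = 3 := by
    obtain ⟨n, hn⟩ := P.isPGroup'.exists_card_eq
    have hd : 3 ^ n ∣ Nat.card G := hn ▸ card_subgroup_dvd_card _
    have h1 : 3 ∣ 3 ^ n := by
      have h := card_dvd_of_le hP
      rwa [hc, hn] at h
    rw [hn]
    rcases n with _ | _ | n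
    · norm_num at h1
    · rfl
    · exfalso
      have h9 : 3 ^ 2 ∣ Nat.card G := (pow_dvd_pow 3 (by omega)).trans hd
      rcases hcard with h | h <;> rw [h] at h9 <;> norm_num at h9
  have hPM : (P : Subgroup G) = M := (eq_of_le_of_card_ge hP (by omega)).symm
  have hn3 := card_sylow_modEq_one 3 G
  rw [Sylow.card_eq_index_normalizer P] at hn3
  change (normalizer (((P : Subgroup G) : Set G))).index ≡ 1 [MOD 3] at hn3
  rw [hPM] at hn3
  have hxM : zpowers x ≤ M := hN ▸ le_normalizer
  have hzM : zpowers x = M := eq_of_le_of_card_ge hxM (by rw [hc, Nat.card_zpowers, hx.ord])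
  rw [← hzM, hN] at hn3
  have hmi := M.card_mul_index
  rw [hc] at hmi
  unfold Nat.ModEq at hn3
  omega

theorem alt_five_of_three (hns : ¬ Group.IsSolvable G)
    (hrad : ∀ N : Subgroup G, N.Normal → Group.IsSolvable N → N = ⊥) {M : Subgroup G}
    (hM : IsCoatom M) (e : M ≃* Equiv.Perm (Fin 3)) :
    Nonempty (G ≃* alternatingGroup (Fin 5)) := by
  obtain ⟨x, hx, hN⟩ := sc_of_equiv hrad hM e (a := finRotate 3)
    (orderOf_eq_prime (by decide +kernel) (by decide +kernel)) (by decide +kernel) (by decide +kernel)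
  rcases three_cases hns hrad hx with h | ⟨h, hsimp⟩
  · exact h
  exfalso
  haveI : Fact (Nat.Prime 3) := ⟨Nat.prime_three⟩
  obtain ⟨R, hR⟩ := (IsPGroup.of_card (p := 3) (n := 1)
    (by rw [Nat.card_zpowers, hx.ord, pow_one] : Nat.card (zpowers x) = 3 ^ 1)).exists_le_sylow
  have hRx : zpowers x = (R : Subgroup G) :=
    eq_of_le_of_card_ge hR (by rw [Small.card_sylow3 h R, Nat.card_zpowers, hx.ord])
  obtain ⟨U, hU, hle⟩ := Small.exists_klein_normalizing3 h R
  rw [← hRx, hN] at hle
  have h24 := Small.card_normalizer_klein h hU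
  have hc : Nat.card M = 6 := by
    rw [Nat.card_congr e.toEquiv, Nat.card_perm, Nat.card_fin]
    rfl
  rcases eq_or_lt_of_le hle with e' | e'
  · rw [← e', hc] at h24
    omega
  · rw [hM.2 _ e', Subgroup.card_top, h] at h24
    omega

end three

section sym

variable {G : Type u} [Group G] [Finite G]

theorem perm_five_of_index_two (hrad : ∀ N : Subgroup G, N.Normal → Group.IsSolvable N → N = ⊥)
    (P : Subgroup G) [P.Normal] (hi : P.index = 2) (φ : P ≃* alternatingGroup (Fin 5)) :
    Nonempty (G ≃* Equiv.Perm (Fin 5)) := by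
  classical
  let ψ : G →* MulAut (alternatingGroup (Fin 5)) :=
    (MulAut.congr φ).toMonoidHom.comp MulAut.conjNormal
  have hψ : ψ.ker = ⊥ := by
    refine hrad _ inferInstance ?_
    have hcomm : ∀ g ∈ ψ.ker, ∀ p : P, g * p * g⁻¹ = p := fun g hg p => by
      have h1 : (MulAut.conjNormal g : MulAut P) = 1 :=
        (MulAut.congr φ).injective ((MonoidHom.mem_ker.1 hg).trans (map_one _).symm)
      rw [← MulAut.conjNormal_apply, h1]
      rfl
    haveI : IsSimpleGroup (alternatingGroup (Fin 5)) := alternatingGroup.isSimpleGroup (by simp)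
    haveI : IsSimpleGroup P := φ.isSimpleGroup
    have hinf : ψ.ker.subgroupOf P = ⊥ := by
      refine ((inferInstance : (ψ.ker.subgroupOf P).Normal).eq_bot_or_eq_top).resolve_right fun ht => ?_
      have hall : ∀ a b : alternatingGroup (Fin 5), a * b = b * a := fun a b => by
        have ha : ((φ.symm a : P) : G) ∈ ψ.ker := mem_subgroupOf.1 (ht ▸ mem_top (φ.symm a))
        have := hcomm _ ha (φ.symm b)
        rw [mul_inv_eq_iff_eq_mul] at this
        refine φ.symm.injective (Subtype.ext ?_)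
        simpa using this
      exact absurd (congrArg Subtype.val (hall ⟨Equiv.swap 0 1 * Equiv.swap 1 2, by simp⟩
        ⟨Equiv.swap 1 2 * Equiv.swap 2 3, by simp⟩)) (by decide +kernel)
    refine Group.isSolvable_of_comm fun a b => ?_
    let f : ψ.ker →* G ⧸ P := (QuotientGroup.mk' P).comp ψ.ker.subtype
    have hf : Function.Injective f := by
      rw [injective_iff_map_eq_one]
      intro k hk
      have hkP : (k : G) ∈ P := (QuotientGroup.eq_one_iff _).1 hk
      have : (⟨k, hkP⟩ : P) ∈ ψ.ker.subgroupOf P := mem_subgroupOf.2 k.2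
      rw [hinf, mem_bot] at this
      exact Subtype.ext (congrArg (fun q : P => (q : G)) this)
    haveI : Fact (Nat.Prime 2) := ⟨Nat.prime_two⟩
    haveI : IsCyclic (G ⧸ P) := isCyclic_of_prime_card (hi : Nat.card (G ⧸ P) = 2)
    apply hf
    rw [map_mul, map_mul]
    exact IsCyclic.commGroup.mul_comm (f a) (f b)
  let c : Equiv.Perm (Fin 5) ≃* MulAut (alternatingGroup (Fin 5)) :=
    MulEquiv.ofBijective MulAut.conjNormal
      ⟨KnownA.conjNormal_injective (by simp), fun ψ' => KnownA.exists_conj_aut (by simp) (by simp) ψ'⟩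
  let f : G →* Equiv.Perm (Fin 5) := c.symm.toMonoidHom.comp ψ
  have hf : Function.Injective f := c.symm.injective.comp ((MonoidHom.ker_eq_bot_iff ψ).1 hψ)
  refine ⟨MulEquiv.ofBijective f ((Nat.bijective_iff_injective_and_card f).2 ⟨hf, ?_⟩)⟩
  rw [← P.card_mul_index, hi, Nat.card_congr φ.toEquiv, nat_card_alternatingGroup, Nat.card_fin,
    Nat.card_perm, Nat.card_fin]
  rfl

end sym

section torus

open Matrix MulAction CfsgLib.PSL2 CfsgLib.Classical
open scoped LinearAlgebra.Projectivization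

variable {F : Type*} [Field F] [Finite F] {p : ℕ} [Fact p.Prime] [CharP F p]

local notation "PG" => Matrix.ProjGenLinGroup (Fin 2) F
local notation "PE" => ℙ (Ext2 F p) (Fin 2 → Ext2 F p)

variable (p) in
theorem centralizer_invol (hodd : Odd (Nat.card F)) {x : PG} (hx1 : x ≠ 1) (hx2 : x * x = 1) :
    ∃ a b : ℙ (Ext2 F p) (Fin 2 → Ext2 F p), GoodPair a b ∧
      centralizer ({x} : Set PG) = pairStab a b := by
  haveI := charP_ext2 (F := F) (p := p)
  have hPE : P1Like p PG PE := p1Like_ext
  have hp : x ^ p ≠ 1 := by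
    obtain ⟨j, hj⟩ := (Fact.out : p.Prime).odd_of_ne_two (ne_two_of_odd hodd)
    rw [hj, pow_succ, pow_mul, pow_two, hx2, one_pow, one_mul]
    exact hx1
  obtain ⟨a, ha⟩ := exists_fix_ext (p := p) x
  obtain ⟨b, hba, hb⟩ := hPE.exists_other hp ha
  refine ⟨a, b, goodPair_of_fixed hx1 hba.symm ha hb, ?_⟩
  ext g
  rw [mem_centralizer_singleton_iff]
  constructor
  · intro hg
    have hperm : ∀ c : PE, x • c = c → g • c = a ∨ g • c = b := fun c hc => by
      have hgc : x • (g • c) = g • c := by rw [← mul_smul, ← hg, mul_smul, hc]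
      by_contra hne
      rw [not_or] at hne
      exact hx1 (hPE.sharp hba.symm (Ne.symm hne.1) (Ne.symm hne.2) ha hb hgc)
    rcases hperm a ha with h1 | h1 <;> rcases hperm b hb with h2 | h2
    · exact absurd (smul_left_cancel g (h2.trans h1.symm)) hba
    · exact .inl ⟨h1, h2⟩
    · exact .inr ⟨h1, h2⟩
    · exact absurd (smul_left_cancel g (h2.trans h1.symm)) hba
  · intro hg
    have hgi := (pairStab a b).inv_mem hg
    have hfix : ∀ c : PE, (c = a ∨ c = b) → (g * x * g⁻¹) • c = c := fun c hc => by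
      have hxg : x • (g⁻¹ • c) = g⁻¹ • c := by
        rcases hc with rfl | rfl <;> rcases hgi with ⟨e1, e2⟩ | ⟨e1, e2⟩ <;>
          simp only [e1, e2, ha, hb]
      rw [mul_smul, mul_smul, hxg, smul_inv_smul]
    have h := invol_unique hba.symm (fun e => hx1 (conj_eq_one_iff.1 e)) hx1
      (by rw [show g * x * g⁻¹ * (g * x * g⁻¹) = g * (x * x) * g⁻¹ by group, hx2, mul_one,
        mul_inv_cancel]) hx2 (hfix a (.inl rfl)) (hfix b (.inr rfl)) ha hb
    exact mul_inv_eq_iff_eq_mul.1 h

theorem pgl_twelve (hodd : Odd (Nat.card F)) {x : PG} (hx : orderOf x = 2)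
    (hc : Nat.card (centralizer ({x} : Set PG)) = 12) : Nat.card F = 5 ∨ Nat.card F = 7 := by
  obtain ⟨p, hp⟩ := CharP.exists F
  haveI := Fact.mk (CharP.char_is_prime F p)
  obtain ⟨hx2, hx1⟩ := Involutions.invol_iff.mp hx
  obtain ⟨a, b, hg, he⟩ := centralizer_invol p hodd hx1 hx2
  rw [he, (pairStab_card hg).1, torusCard] at hc
  split_ifs at hc <;> omega

theorem psl_twelve (hodd : Odd (Nat.card F)) (hq : 3 < Nat.card F)
    {y : Matrix.ProjectiveSpecialLinearGroup (Fin 2) F} (hy : orderOf y = 2)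
    (hc : Nat.card (centralizer ({y} : Set (Matrix.ProjectiveSpecialLinearGroup (Fin 2) F))) = 12) :
    Nat.card F = 11 ∨ Nat.card F = 13 := by
  obtain ⟨p, hp⟩ := CharP.exists F
  haveI := Fact.mk (CharP.char_is_prime F p)
  set f := ProjectiveSpecialLinearGroup.toPGL (n := Fin 2) (R := F) with hfdef
  have hf : Function.Injective f := ProjectiveSpecialLinearGroup.toPGL_injective
  have hfy : orderOf (f y) = 2 := by rw [orderOf_injective f hf, hy]
  obtain ⟨hx2, hx1⟩ := Involutions.invol_iff.mp hfy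
  obtain ⟨a, b, hg, he⟩ := centralizer_invol p hodd hx1 hx2
  have hmap : centralizer ({f y} : Set PG) ⊓ pslRange F = (centralizer {y}).map f := by
    ext g
    simp only [mem_inf, mem_centralizer_singleton_iff, Subgroup.mem_map, pslRange, MonoidHom.mem_range,
      ← hfdef]
    constructor
    · rintro ⟨hg, g', rfl⟩
      exact ⟨g', hf (by rw [map_mul, map_mul, hg]), rfl⟩
    · rintro ⟨g', hg, rfl⟩
      exact ⟨by rw [← map_mul, ← map_mul, hg], g', rfl⟩
  obtain ⟨r, w, -, -, -, -, -, -, hro, -, hcard, -⟩ := torus_psl hg (fun _ => by omega)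
  rw [← he, hmap, card_map_of_injective hf, hc, hro, gcd_two_card_sub_one_of_odd hodd,
    torusCard] at hcard
  obtain ⟨j, hj⟩ := hodd
  split_ifs at hcard <;> omega

theorem psl_twelve_even {F : Type*} [Field F] [Fintype F] (h2 : Even (Fintype.card F))
    (h4 : 4 ≤ Fintype.card F) (y : Matrix.ProjectiveSpecialLinearGroup (Fin 2) F)
    (hc : Nat.card (centralizer ({y} : Set (Matrix.ProjectiveSpecialLinearGroup (Fin 2) F))) = 12) :
    False := by
  have hidx : (centralizer ({y} : Set (Matrix.ProjectiveSpecialLinearGroup (Fin 2) F))).index ∈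
      ({1, Fintype.card F * (Fintype.card F - 1), Fintype.card F ^ 2 - 1,
        Fintype.card F * (Fintype.card F + 1)} : Set ℕ) := by
    rw [← Cfsg.Agent.S2507.result (even_iff_two_dvd.1 h2) h4]
    exact ⟨y, rfl⟩
  have hmi := (centralizer ({y} : Set (Matrix.ProjectiveSpecialLinearGroup (Fin 2) F))).card_mul_index
  have hG : Nat.card (Matrix.ProjectiveSpecialLinearGroup (Fin 2) F) =
      Fintype.card F * (Fintype.card F ^ 2 - 1) := by
    have h := CfsgLib.Classical.card_PSL_two_mul (F := F)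
    rwa [CfsgLib.Classical.gcd_two_card_sub_one_of_even (by rwa [Nat.card_eq_fintype_card]), one_mul,
      Nat.card_eq_fintype_card (α := F)] at h
  rw [hc, hG] at hmi
  obtain ⟨n, hn⟩ := Nat.exists_eq_add_of_le h4
  have hn2 : Even n := by
    rw [hn, Nat.even_add] at h2
    exact h2.1 (by decide)
  obtain ⟨m, rfl⟩ := hn2
  have hsq : Fintype.card F ^ 2 - 1 = (Fintype.card F - 1) * (Fintype.card F + 1) := by
    rw [hn, show 4 + (m + m) - 1 = 3 + (m + m) by omega, Nat.sub_eq_iff_eq_add (Nat.one_le_pow _ _ (by omega))]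
    ring
  simp only [Set.mem_insert_iff, Set.mem_singleton_iff] at hidx
  rcases hidx with h | h | h | h <;> rw [h] at hmi
  · rw [hsq] at hmi
    have h15 : 3 * 5 ≤ (Fintype.card F - 1) * (Fintype.card F + 1) :=
      Nat.mul_le_mul (by omega) (by omega)
    have := Nat.mul_le_mul h4 h15
    omega
  · have : 12 = Fintype.card F + 1 := Nat.eq_of_mul_eq_mul_right
      (Nat.mul_pos (show 0 < Fintype.card F by omega) (show 0 < Fintype.card F - 1 by omega))
      (by rw [hmi, hsq]; ring)
    omega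
  · have h12 : 12 = Fintype.card F :=
      Nat.eq_of_mul_eq_mul_right (by rw [hsq]; exact Nat.mul_pos (by omega) (by omega)) hmi
    obtain ⟨p, -, k, hp, hk⟩ := FiniteField.card' F
    rw [← h12] at hk
    have hd2 : p = 2 := ((Nat.prime_dvd_prime_iff_eq Nat.prime_two hp).1
      (Nat.prime_two.dvd_of_dvd_pow (n := (k : ℕ)) (by rw [← hk]; norm_num))).symm
    have hd3 : p = 3 := ((Nat.prime_dvd_prime_iff_eq Nat.prime_three hp).1
      (Nat.prime_three.dvd_of_dvd_pow (n := (k : ℕ)) (by rw [← hk]; norm_num))).symm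
    omega
  · have : 12 = Fintype.card F - 1 := Nat.eq_of_mul_eq_mul_right
      (Nat.mul_pos (show 0 < Fintype.card F by omega) (show 0 < Fintype.card F + 1 by omega))
      (by rw [hmi, hsq]; ring)
    omega

end torus

section twelve

variable {G : Type u} [Group G] [Finite G]

theorem prime_field {F : Type} [Field F] [Fintype F] {p : ℕ} (hp : p.Prime) (h : Nat.card F = p) :
    Nonempty (F ≃+* ZMod p) := by
  rw [Nat.card_eq_fintype_card] at h
  exact ⟨(ZMod.ringEquivOfPrime F hp h).symm⟩

theorem perm_five_of_pgl (hrad : ∀ N : Subgroup G, N.Normal → Group.IsSolvable N → N = ⊥)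
    {F : Type} [Field F] [Fintype F] (h5 : Nat.card F = 5)
    (e : G ≃* Matrix.ProjGenLinGroup (Fin 2) F) : Nonempty (G ≃* Equiv.Perm (Fin 5)) := by
  have hodd : Odd (Nat.card F) := by rw [h5]; decide
  haveI : Fact (Nat.Prime 5) := ⟨by norm_num⟩
  haveI := Small.isSimple_PSL_two (F := F) (p := 5) (by rw [← Nat.card_eq_fintype_card, h5]) (by norm_num)
  obtain ⟨φ⟩ := Small.equiv_alternating_five (G := Matrix.ProjectiveSpecialLinearGroup (Fin 2) F) (by
    have h2 := Small.card_PSL_two_prime (F := F) (p := 5) (by rw [← Nat.card_eq_fintype_card, h5]) (by decide)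
    rw [show 5 * (5 ^ 2 - 1) = 120 by norm_num] at h2
    omega)
  let f := e.symm.toMonoidHom.comp
    (Matrix.ProjectiveSpecialLinearGroup.toPGL (n := Fin 2) (R := F))
  have hf : Function.Injective f :=
    e.symm.injective.comp Matrix.ProjectiveSpecialLinearGroup.toPGL_injective
  have hi : f.range.index = 2 := by
    have h1 : f.range = (PSL2.pslRange F).map e.symm.toMonoidHom := by
      rw [PSL2.pslRange, MonoidHom.map_range]
    rw [h1, show (PSL2.pslRange F).map e.symm.toMonoidHom = (PSL2.pslRange F).map ↑e.symm from rfl,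
      index_map_equiv, PSL2.index_pslRange, CfsgLib.Classical.gcd_two_card_sub_one_of_odd hodd]
  haveI : f.range.Normal := normal_of_index_eq_two hi
  exact perm_five_of_index_two hrad f.range hi ((MonoidHom.ofInjective hf).symm.trans φ)

theorem twelve_cases (hns : ¬ Group.IsSolvable G)
    (hrad : ∀ N : Subgroup G, N.Normal → Group.IsSolvable N → N = ⊥) {M : Subgroup G}
    (hM : IsCoatom M) (e : M ≃* DihedralGroup 6) :
    Nonempty (G ≃* Equiv.Perm (Fin 5)) ∨
      Nonempty (G ≃* GL (Fin 2) (ZMod 7) ⧸ Subgroup.center (GL (Fin 2) (ZMod 7))) ∨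
      Nonempty (G ≃* Matrix.ProjectiveSpecialLinearGroup (Fin 2) (ZMod 11)) ∨
      Nonempty (G ≃* Matrix.ProjectiveSpecialLinearGroup (Fin 2) (ZMod 13)) := by
  set z : G := ((e.symm (DihedralGroup.r 3) : M) : G) with hz
  have hzo : orderOf z = 2 := by
    rw [hz, orderOf_coe, MulEquiv.orderOf_eq]
    exact orderOf_eq_prime (by decide +kernel) (by decide +kernel)
  have hMz : M ≤ centralizer ({z} : Set G) := fun m hm => by
    rw [mem_centralizer_singleton_iff]
    have key : ∀ g : DihedralGroup 6, g * DihedralGroup.r 3 = DihedralGroup.r 3 * g := by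
      decide +kernel
    refine (congrArg Subtype.val (show (⟨m, hm⟩ : M) * e.symm (DihedralGroup.r 3) =
      e.symm (DihedralGroup.r 3) * ⟨m, hm⟩ from e.injective (by simpa using key (e ⟨m, hm⟩))))
  have hCz : centralizer ({z} : Set G) = M := by
    rcases eq_or_lt_of_le hMz with h | h
    · exact h.symm
    · exfalso
      have hc : z ∈ center G := mem_center_iff.2 fun g =>
        mem_centralizer_singleton_iff.1 (hM.2 _ h ▸ mem_top g)
      haveI : (zpowers z).Normal :=
        ⟨fun a ha g => by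
          rw [(mem_center_iff.1 ((zpowers_le.2 hc) ha) g), mul_inv_cancel_right]; exact ha⟩
      have hb := hrad (zpowers z) inferInstance inferInstance
      rw [zpowers_eq_bot] at hb
      rw [hb, orderOf_one] at hzo
      omega
  have hcard : Nat.card M = 12 := by
    rw [Nat.card_congr e.toEquiv, DihedralGroup.nat_card]
  let A : Subgroup G := ((zpowers (DihedralGroup.r 1 : DihedralGroup 6)).comap e.toMonoidHom).map M.subtype
  have hrot : ∀ g : DihedralGroup 6, g * g = 1 ∨ ∃ i : Fin 6, DihedralGroup.r 1 ^ (i : ℕ) = g := by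
    decide +kernel
  have hAM : A < M := by
    refine lt_of_le_of_ne (map_subtype_le _) fun h => ?_
    have hs : ((e.symm (DihedralGroup.sr 0) : M) : G) ∈ A := h.symm.le (SetLike.coe_mem _)
    obtain ⟨m, hm, hme⟩ := hs
    obtain rfl : m = e.symm (DihedralGroup.sr 0) := Subtype.ext hme
    simp only [SetLike.mem_coe, mem_comap, MulEquiv.coe_toMonoidHom, MulEquiv.apply_symm_apply] at hm
    obtain ⟨k, hk⟩ := mem_zpowers_iff.1 hm
    rw [DihedralGroup.r_zpow] at hk
    cases hk
  have hD : ∀ x ∈ M, x ∉ A → x ^ 2 = 1 := fun x hx hxA => by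
    rcases hrot (e ⟨x, hx⟩) with h | ⟨i, hi⟩
    · have h1 : (⟨x, hx⟩ : M) * ⟨x, hx⟩ = 1 := e.injective (by rw [map_mul, map_one, h])
      rw [pow_two]
      exact congrArg Subtype.val h1
    · refine absurd ⟨⟨x, hx⟩, ?_, rfl⟩ hxA
      simp only [SetLike.mem_coe, mem_comap, MulEquiv.coe_toMonoidHom, ← hi]
      exact pow_mem (mem_zpowers _) _
  have hC : ∀ j ∈ M, orderOf j = 2 → (∀ h ∈ M, h * j = j * h) →
      centralizer ({j} : Set G) = M := fun j hj hjo hjc => by
    have key : ∀ g : DihedralGroup 6, g ≠ 1 → g * g = 1 → (∀ h, h * g = g * h) →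
        g = DihedralGroup.r 3 := by decide +kernel
    obtain ⟨hj2, hj1⟩ := Involutions.invol_iff.mp hjo
    have := key (e ⟨j, hj⟩) (fun h => hj1 (congrArg Subtype.val (e.map_eq_one_iff.1 h)))
      (by rw [← map_mul, show (⟨j, hj⟩ : M) * ⟨j, hj⟩ = 1 from Subtype.ext hj2, map_one])
      (fun g => by
        rw [← e.apply_symm_apply g, ← map_mul, ← map_mul]
        exact congrArg e (Subtype.ext (hjc _ (e.symm g).2)))
    have hjz : j = z := by
      rw [hz, ← this, e.symm_apply_apply]
    rw [hjz, hCz]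
  have hc12 : Nat.card (centralizer ({z} : Set G)) = 12 := by rw [hCz, hcard]
  rcases Recog.PartitionType.linearType_of_dgroup hns hrad M A hAM hD (by rw [hcard]; norm_num) hC with
    ⟨F, iF, jF, hF, ⟨φ⟩⟩ | ⟨F, iF, jF, hF, hodd, ⟨φ⟩⟩
  · have hc : Nat.card (centralizer ({φ z} : Set (Matrix.ProjectiveSpecialLinearGroup (Fin 2) F))) = 12 :=
      (card_centralizer_equiv φ z).trans hc12
    rcases Nat.even_or_odd (Fintype.card F) with he | ho
    · exact (psl_twelve_even he hF (φ z) hc).elim
    · rcases psl_twelve (by rwa [Nat.card_eq_fintype_card]) (by rw [Nat.card_eq_fintype_card]; omega)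
        (y := φ z) ((MulEquiv.orderOf_eq φ z).trans hzo) hc with h | h
      · obtain ⟨σ⟩ := prime_field (F := F) (p := 11) (by norm_num) h
        obtain ⟨c⟩ := PSL2.nonempty_psl_congr (n := Fin 2) σ
        exact .inr (.inr (.inl ⟨φ.trans c⟩))
      · obtain ⟨σ⟩ := prime_field (F := F) (p := 13) (by norm_num) h
        obtain ⟨c⟩ := PSL2.nonempty_psl_congr (n := Fin 2) σ
        exact .inr (.inr (.inr ⟨φ.trans c⟩))
  · let φ' : G ≃* Matrix.ProjGenLinGroup (Fin 2) F := φ
    rcases pgl_twelve (by rwa [Nat.card_eq_fintype_card]) (x := φ' z)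
      ((MulEquiv.orderOf_eq φ' z).trans hzo) ((card_centralizer_equiv φ' z).trans hc12) with h | h
    · exact .inl (perm_five_of_pgl hrad h φ')
    · obtain ⟨σ⟩ := prime_field (F := F) (p := 7) (by norm_num) h
      obtain ⟨c⟩ := PSL2.nonempty_pgl_congr (n := Fin 2) σ
      exact .inr (.inl ⟨φ'.trans c⟩)

end twelve

/-- The small stabilisers. -/
theorem small : StmtSmall.{u} := fun _G _ _ hns hrad _M hM =>
  ⟨fun ⟨e⟩ => not_three hns hrad hM e, fun ⟨e⟩ => alt_five_of_three hns hrad hM e,
    fun ⟨e⟩ => twelve_cases hns hrad hM e⟩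

end CfsgLib.Subdeg3
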