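import Cfsg.Agent.Lib.Subdeg3.TILocal

/-!
# The trivial intersection data of the core (S3686, P4)

`N(O) = C(z)`, `C(O)` is the part of determinant one, and `C(a) ≤ C(z)` for the elements `a` of
`C(O)` whose `m`-th power is not trivial, with `m = 24` when three does not divide `|O|` and
`m = 8` otherwise.  The subgroup `L` consists of the elements killed by `m`.
-/

set_option autoImplicit false
set_option linter.unusedSectionVars false
set_option linter.style.haveILetI false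

namespace CfsgLib.Subdeg3.TI

open Subgroup CfsgLib.Small

universe u

theorem det_cases (g : GL23.H) : GL23.det g = 1 ∨ GL23.det g = -1 := by
  unfold GL23.det
  split_ifs <;> simp

theorem det_map_mul (g h : GL23.H) : GL23.det (g * h) = GL23.det g * GL23.det h :=
  GL23.det_mul g (GL23.mem_els g) h (GL23.mem_els h)

theorem det_map_inv (g : GL23.H) : GL23.det g⁻¹ = GL23.det g := by
  have h := det_map_mul g g⁻¹
  rw [mul_inv_cancel, det_one] at h
  rcases det_cases g with h1 | h1 <;> rw [h1] at h ⊢ <;> linarith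

theorem pow_four_of_pow_eight : ∀ g ∈ GL23.els, GL23.det g = 1 → (g ^ 8).val = 1 → (g ^ 4).val = 1 := by
  decide +kernel

theorem conj_cube : ∀ t ∈ GL23.els, t.val ≠ 1 → (t ^ 3).val = 1 → ∀ g ∈ GL23.els, g.val ≠ 1 →
    (g ^ 3).val = 1 → ∃ q ∈ GL23.els, (q * t).val = (g * q).val := by
  decide +kernel

theorem count_four : GL23.els.countP (fun g => GL23.det g = 1 ∧ (g ^ 4).val = 1) = 8 := by
  decide +kernel

/-- The elements of determinant one. -/
def SL : Subgroup GL23.H where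
  carrier := {g | GL23.det g = 1}
  one_mem' := det_one
  mul_mem' := fun {g h} hg hh => by
    show GL23.det (g * h) = 1
    rw [det_map_mul, show GL23.det g = 1 from hg, show GL23.det h = 1 from hh, one_mul]
  inv_mem' := fun {g} hg => (det_map_inv g).trans hg

/-- The quaternion subgroup. -/
def Q8 : Subgroup GL23.H where
  carrier := {g | GL23.det g = 1 ∧ g ^ 4 = 1}
  one_mem' := ⟨det_one, one_pow 4⟩
  mul_mem' := fun {g h} hg hh =>
    ⟨by rw [det_map_mul, hg.1, hh.1, one_mul],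
      Units.ext (quotient_mul g (GL23.mem_els g) hg.1 (congrArg Units.val hg.2) h (GL23.mem_els h)
        hh.1 (congrArg Units.val hh.2))⟩
  inv_mem' := fun {g} hg => ⟨(det_map_inv g).trans hg.1, by rw [inv_pow, hg.2, inv_one]⟩

theorem card_of_countP (p : GL23.H → Prop) [DecidablePred p] :
    Nat.card {g : GL23.H // p g} = GL23.els.countP (fun g => decide (p g)) := by
  rw [List.countP_eq_length_filter, ← List.toFinset_card_of_nodup (GL23.nodup_els.filter _),
    ← Nat.card_eq_finsetCard]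
  exact Nat.card_congr (Equiv.subtypeEquivRight fun g => by
    rw [List.mem_toFinset, List.mem_filter, decide_eq_true_eq]
    exact ⟨fun h => ⟨GL23.mem_els g, h⟩, fun h => h.2⟩)

theorem card_SL : Nat.card SL = 24 := by
  rw [← count_det]
  exact (card_of_countP fun g => GL23.det g = 1)

theorem card_Q8 : Nat.card Q8 = 8 := by
  rw [← count_four, ← card_of_countP fun g => GL23.det g = 1 ∧ (g ^ 4).val = 1]
  exact Nat.card_congr (Equiv.subtypeEquivRight fun g =>
    ⟨fun h => ⟨h.1, congrArg Units.val h.2⟩, fun h => ⟨h.1, Units.ext h.2⟩⟩)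

variable {H : Type u} [Group H] [Finite H] {V : Subgroup H}

/-- The preimage in `C(z)` of a subgroup of `GL(2,3)`. -/
def preim (S : SDCent H V) (Q : Subgroup GL23.H) : Subgroup H :=
  (Q.comap S.π).map (centralizer ({S.z} : Set H)).subtype

theorem mem_preim {S : SDCent H V} {Q : Subgroup GL23.H} {x : H} :
    x ∈ preim S Q ↔ ∃ h : Commute x S.z, S.π ⟨x, mem_cent.2 h⟩ ∈ Q := by
  constructor
  · rintro ⟨c, hc, rfl⟩
    exact ⟨mem_cent.1 c.2, hc⟩
  · rintro ⟨h, hq⟩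
    exact ⟨⟨x, mem_cent.2 h⟩, hq, rfl⟩

theorem relIndex_preim (S : SDCent H V) (Q : Subgroup GL23.H) :
    S.O.relIndex (preim S Q) = Nat.card Q := by
  rw [SDCent.O, preim, Subgroup.relIndex_map_map_of_injective _ _ (Subgroup.subtype_injective _),
    ← MonoidHom.comap_bot, Subgroup.relIndex_comap, Subgroup.map_comap_eq_self_of_surjective S.surj,
    Subgroup.relIndex_bot_left]

/-- Powers by a multiple of the index of a central subgroup are multiplicative. -/
theorem mul_pow_of_central {P O : Subgroup H} (hOP : ∀ a ∈ O, ∀ c ∈ P, Commute a c)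
    (_hle : O ≤ P) {m : ℕ} (hm : O.relIndex P ∣ m) {c d : H} (hc : c ∈ P) (hd : d ∈ P) :
    (c * d) ^ m = c ^ m * d ^ m := by
  have hcen : O.subgroupOf P ≤ center P := fun a ha => Subgroup.mem_center_iff.2 fun y =>
    Subtype.ext (hOP a ha y y.2).eq.symm
  obtain ⟨j, rfl⟩ : (center P).index ∣ m := (Subgroup.index_dvd_of_le hcen).trans hm
  have h := map_mul (MonoidHom.transferCenterPow P) ⟨c, hc⟩ ⟨d, hd⟩
  have h' : ((⟨c, hc⟩ : P) * ⟨d, hd⟩) ^ (center P).index =
      (⟨c, hc⟩ : P) ^ (center P).index * (⟨d, hd⟩ : P) ^ (center P).index := by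
    simpa [Subtype.ext_iff] using h
  have hcomm : Commute ((⟨c, hc⟩ : P) ^ (center P).index) ((⟨d, hd⟩ : P) ^ (center P).index) :=
    (Subgroup.mem_center_iff.1 ((center P).pow_index_mem _) _)
  have h2 := congrArg (fun y : P => y ^ j) h'
  simp only [hcomm.mul_pow, ← pow_mul] at h2
  exact congrArg Subtype.val h2

variable (hV : Setup H V) (S : SDCent H V)
include hV

theorem exists_other : ∃ w ∈ V, w ≠ 1 ∧ w ≠ S.z := by
  by_contra hno
  push Not at hno
  haveI := hV.four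
  refine not_isCyclic_V hV ⟨⟨S.z, S.mem⟩, fun y => ?_⟩
  by_cases hy : (y : H) = 1
  · exact ⟨0, Subtype.ext (by simp [hy])⟩
  · exact ⟨1, Subtype.ext (by simp [hno y y.2 hy])⟩

theorem exists_root {e : H} (he : InO S.z e) : ∃ r, InO S.z r ∧ r ^ 8 = e := by
  have sq : ∀ x, InO S.z x → ∃ y, InO S.z y ∧ y ^ 2 = x := fun x hx => by
    obtain ⟨k, hk⟩ := eq_sq_pow hx.1
    exact ⟨x ^ k, hx.pow k, by rw [← pow_mul, mul_comm, pow_mul]; exact hk.symm⟩
  obtain ⟨a, ha, hae⟩ := sq e he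
  obtain ⟨b, hb, hba⟩ := sq a ha
  obtain ⟨r, hr, hrb⟩ := sq b hb
  exact ⟨r, hr, by rw [show (8 : ℕ) = 2 * 2 * 2 from rfl, pow_mul, pow_mul, hrb, hba, hae]⟩

/-- An element of odd order inverted modulo the core by an element of `V` is inverted by it. -/
theorem inv_of_pi {w x : H} (hw : w ∈ V) (hw1 : w ≠ 1) (hwz : w ≠ S.z) (hx : Commute x S.z)
    (hxo : Odd (orderOf x))
    (h : InO S.z (w * x * w⁻¹ * x)) : w * x * w⁻¹ = x⁻¹ := by
  obtain ⟨y, hy⟩ : ∃ y, y = w * x * w⁻¹ * x := ⟨_, rfl⟩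
  rw [← hy] at h
  have hyx : Commute x y := odd_comm hV S hx hxo h
  have hi := inverts_O hV S hw hw1 hwz h
  have h2 : w * y * w⁻¹ = y := by
    calc w * y * w⁻¹ = (w * w) * x * (w * w)⁻¹ * (w * x * w⁻¹) := by rw [hy]; group
      _ = x * (y * x⁻¹) := by rw [v_sq hV hw, hy]; group
      _ = y := by rw [← mul_assoc, hyx.eq, mul_inv_cancel_right]
  have hy1 : y = 1 := CfsgLib.Involutions.sq_odd_eq_one
    (by rw [sq]; exact eq_inv_iff_mul_eq_one.1 (h2.symm.trans hi)) h.1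
  rw [hy1] at hy
  exact mul_eq_one_iff_eq_inv.1 hy.symm

theorem odd_of_cube {x : H} (hx : Commute x S.z) (h : S.π ⟨x, mem_cent.2 hx⟩ ^ 3 = 1) :
    Odd (orderOf x) := by
  have h1 : InO S.z (x ^ 3) := (mem_ker_iff hV S (⟨x, mem_cent.2 hx⟩ ^ 3)).1 (by rw [map_pow, h])
  have h2 : orderOf x ∣ 3 * orderOf (x ^ 3) := orderOf_dvd_of_pow_eq_one (by
    rw [pow_mul, pow_orderOf_eq_one])
  exact ((by decide : Odd 3).mul h1.1).of_dvd_nat h2

theorem preim_le_cent {Q : Subgroup GL23.H} (hQ : Q ≤ SL) :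
    ∀ a ∈ S.O, ∀ c ∈ preim S Q, Commute a c := fun _a ha _c hc =>
  let ⟨hcz, hq⟩ := mem_preim.1 hc
  (det_eq_one_comm hV S hcz ((mem_O_iff hV S).1 ha) (hQ hq)).symm

theorem O_le_preim (Q : Subgroup GL23.H) : S.O ≤ preim S Q := fun a ha => by
  have h := (mem_O_iff hV S).1 ha
  refine mem_preim.2 ⟨h.2.1, ?_⟩
  rw [(mem_ker_iff hV S _).2 h]
  exact one_mem Q

theorem tiData_of_ne (hO : S.O ≠ ⊥) : TIData S := by
  classical
  obtain ⟨w₀, hw₀, hw₀1, hw₀z⟩ := exists_other hV S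
  have hw₀c : Commute w₀ S.z := v_comm hV hw₀ S.mem
  obtain ⟨a₁, ha₁, ha₁1⟩ := (Subgroup.ne_bot_iff_exists_ne_one.1 hO) |> fun ⟨a, ha⟩ =>
    (⟨(a : H), (mem_O_iff hV S).1 a.2, fun h => ha (Subtype.ext h)⟩ : ∃ a, InO S.z a ∧ a ≠ 1)
  have hz1 := z_ne_one hV S
  -- the centraliser and the normalizer of the core
  have hcent : ∀ c : H, c ∈ centralizer (S.O : Set H) ↔
      ∃ h : Commute c S.z, GL23.det (S.π ⟨c, mem_cent.2 h⟩) = 1 := by
    intro c
    constructor
    · intro hc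
      have hca : ∀ a, InO S.z a → Commute c a := fun a ha =>
        ((Subgroup.mem_centralizer_iff.1 hc) a ((mem_O_iff hV S).2 ha)).symm
      have hcz : Commute c S.z := cent_le hV S S.mem hz1 ha₁ ha₁1 (hca a₁ ha₁)
      refine ⟨hcz, by_contra fun hd => ha₁1 ?_⟩
      have h := congrArg Subtype.val (S.outer ⟨c, mem_cent.2 hcz⟩ ⟨a₁, mem_cent.2 ha₁.2.1⟩
        (MonoidHom.mem_ker.2 ((mem_ker_iff hV S _).2 ha₁)) hd)
      change c * a₁ * c⁻¹ = a₁⁻¹ at h
      rw [(hca a₁ ha₁).eq, mul_inv_cancel_right] at h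
      exact CfsgLib.Involutions.sq_odd_eq_one (by rw [sq]; exact eq_inv_iff_mul_eq_one.1 h) ha₁.1
    · rintro ⟨hcz, hd⟩
      exact Subgroup.mem_centralizer_iff.2 fun a ha =>
        (det_eq_one_comm hV S hcz ((mem_O_iff hV S).1 ha) hd).eq.symm
  have hCO : centralizer (S.O : Set H) = preim S SL := by
    ext c
    rw [hcent, mem_preim]
    rfl
  have hnorm : ∀ n : H, n ∈ normalizer (S.O : Set H) ↔ Commute n S.z := by
    intro n
    constructor
    · intro hn
      have hz' : n * S.z * n⁻¹ ∈ centralizer (S.O : Set H) := Subgroup.mem_centralizer_iff.2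
        fun a ha => by
          have h1 : n⁻¹ * a * n ∈ S.O := by
            have := (Subgroup.mem_normalizer_iff.1 (inv_mem hn) a).1 ha
            rwa [inv_inv] at this
          have h2 : Commute (n⁻¹ * a * n) S.z := ((mem_O_iff hV S).1 h1).2.1
          have h3 := h2.map (MulAut.conj n)
          simp only [MulAut.conj_apply] at h3
          rw [show n * (n⁻¹ * a * n) * n⁻¹ = a by group] at h3
          exact h3.eq
      obtain ⟨hc, hd⟩ := (hcent _).1 hz'
      have hsq : n * S.z * n⁻¹ * (n * S.z * n⁻¹) = 1 := by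
        rw [← sq, conj_pow, sq, z_sq hV S, mul_one, mul_inv_cancel]
      rcases eq_of_pi hV S hsq hc (det_one_invol _ (GL23.mem_els _) hd (by
        rw [← map_mul, show (⟨n * S.z * n⁻¹, mem_cent.2 hc⟩ * ⟨n * S.z * n⁻¹, mem_cent.2 hc⟩ :
          centralizer ({S.z} : Set H)) = 1 from Subtype.ext hsq, map_one]
        rfl)) with h | h
      · exact absurd (conj_eq_one_iff.1 h) hz1
      · exact mul_inv_eq_iff_eq_mul.1 h
    · intro hn
      rw [Subgroup.mem_normalizer_iff]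
      intro a
      rw [mem_O_iff hV S, mem_O_iff hV S]
      constructor
      · intro h
        have := h.conj n
        rwa [hn.eq, mul_inv_cancel_right] at this
      · intro h
        have := h.conj n⁻¹
        rwa [hn.inv_left.eq, mul_inv_cancel_right, inv_inv,
          show n⁻¹ * (n * a * n⁻¹) * n = a by group] at this
  have hNeq : normalizer (S.O : Set H) = centralizer ({S.z} : Set H) := by
    ext n
    rw [hnorm, mem_cent]
  have hout : ∀ n, n ∈ normalizer (S.O : Set H) → n ∉ centralizer (S.O : Set H) →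
      ∃ h : Commute n S.z, GL23.det (S.π ⟨n, mem_cent.2 h⟩) ≠ 1 := fun n hn hnc =>
    ⟨(hnorm n).1 hn, fun hd => hnc ((hcent n).2 ⟨(hnorm n).1 hn, hd⟩)⟩
  have hinvO : ∀ n, n ∈ normalizer (S.O : Set H) → n ∉ centralizer (S.O : Set H) →
      ∀ a ∈ S.O, n * a * n⁻¹ = a⁻¹ := fun n hn hnc a ha => by
    obtain ⟨h, hd⟩ := hout n hn hnc
    have ha' := (mem_O_iff hV S).1 ha
    exact congrArg Subtype.val (S.outer ⟨n, mem_cent.2 h⟩ ⟨a, mem_cent.2 ha'.2.1⟩
      (MonoidHom.mem_ker.2 ((mem_ker_iff hV S _).2 ha')) hd)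
  have hidx : (centralizer (S.O : Set H)).relIndex (normalizer (S.O : Set H)) = 2 := by
    rw [Subgroup.relIndex, Subgroup.index_eq_two_iff]
    refine ⟨⟨w₀, (hnorm w₀).2 hw₀c⟩, fun b => ?_⟩
    have hb := (hnorm b).1 b.2
    have hmul : (S.π ⟨(b : H) * w₀, mem_cent.2 (hb.mul_left hw₀c)⟩) =
        S.π ⟨b, mem_cent.2 hb⟩ * S.π ⟨w₀, mem_cent.2 hw₀c⟩ := by
      rw [← map_mul]; rfl
    have hd₀ := det_four hV S hw₀ hw₀1 hw₀z
    have hd₁ : GL23.det (S.π ⟨w₀, mem_cent.2 hw₀c⟩) = -1 := (det_cases _).resolve_left hd₀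
    simp only [Subgroup.mem_subgroupOf, Subgroup.coe_mul, hcent]
    rcases det_cases (S.π ⟨b, mem_cent.2 hb⟩) with h | h
    · refine Or.inr ⟨⟨hb, h⟩, ?_⟩
      rintro ⟨h', hd⟩
      rw [hmul, det_map_mul, h, hd₁] at hd
      norm_num at hd
    · refine Or.inl ⟨⟨hb.mul_left hw₀c, by rw [hmul, det_map_mul, h, hd₁]; norm_num⟩, ?_⟩
      rintro ⟨h', hd⟩
      rw [h] at hd
      norm_num at hd
  -- the involutions outside the centraliser
  have hcount : Nat.card {w : normalizer (S.O : Set H) //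
      orderOf w = 2 ∧ (w : H) ∉ centralizer (S.O : Set H)} ^ 2 =
      3 * Nat.card S.O * Nat.card (normalizer (S.O : Set H)) := by
    have ho : Nat.card S.O = Nat.card S.π.ker :=
      Subgroup.card_map_of_injective (Subgroup.subtype_injective _)
    have hN : Nat.card (normalizer (S.O : Set H)) = 48 * Nat.card S.π.ker := by
      rw [hNeq, ← Subgroup.card_mul_index S.π.ker, mul_comm, Subgroup.index_ker,
        MonoidHom.range_eq_top.2 S.surj, Subgroup.card_top, Nat.card_eq_fintype_card, GL23.card_eq]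
    let p : GL23.H → Prop := fun g => g.val ≠ 1 ∧ g.val ≠ !![2, 0; 0, 2] ∧ (g * g).val = 1
    have hp : ∀ c : centralizer ({S.z} : Set H),
        p (S.π c) ↔ (orderOf (c : H) = 2 ∧ (c : H) ∉ centralizer (S.O : Set H)) := by
      intro c
      constructor
      · rintro ⟨h1, h2, h3⟩
        have hd : GL23.det (S.π c) ≠ 1 := det_invol _ (GL23.mem_els _) h1 h2 h3
        have hk : c * c ∈ S.π.ker := by
          rw [MonoidHom.mem_ker, map_mul]; exact Units.ext h3
        have h4 := S.outer c (c * c) hk hd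
        rw [show c * (c * c) * c⁻¹ = c * c by group] at h4
        have h5 : c * c = 1 := CfsgLib.Involutions.sq_odd_eq_one
          (by rw [sq]; exact eq_inv_iff_mul_eq_one.1 h4) (odd_order_of_mem S.kerOdd hk)
        refine ⟨orderOf_eq_prime (by rw [sq]; exact congrArg Subtype.val h5) fun h => h1 ?_, ?_⟩
        · rw [show c = 1 from Subtype.ext h, map_one]; rfl
        · intro hc
          obtain ⟨h', hd'⟩ := (hcent _).1 hc
          exact hd hd'
      · rintro ⟨h1, h2⟩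
        have h3 : c * c = 1 := Subtype.ext (by
          show (c : H) * c = 1
          rw [← sq, ← h1, pow_orderOf_eq_one])
        have hd : GL23.det (S.π c) ≠ 1 := fun hd => h2 ((hcent _).2 ⟨mem_cent.1 c.2, hd⟩)
        refine ⟨fun h => hd ?_, fun h => hd ?_, by rw [← map_mul, h3, map_one]; rfl⟩
        · rw [show S.π c = 1 from Units.ext h, det_one]
        · rw [← det_two_neg]; exact congrArg GL23.det (Units.ext h)
    have hJ : Nat.card {w : normalizer (S.O : Set H) //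
        orderOf w = 2 ∧ (w : H) ∉ centralizer (S.O : Set H)} = 12 * Nat.card S.π.ker := by
      have e1 : {w : normalizer (S.O : Set H) //
          orderOf w = 2 ∧ (w : H) ∉ centralizer (S.O : Set H)} ≃
          {c : centralizer ({S.z} : Set H) // p (S.π c)} :=
        Equiv.subtypeEquiv (MulEquiv.subgroupCongr hNeq).toEquiv fun w => by
          rw [hp, ← Subgroup.orderOf_coe w]; rfl
      rw [Nat.card_congr e1]
      have e2 : {c : centralizer ({S.z} : Set H) // p (S.π c)} ≃ {g : GL23.H // p g} × S.π.ker :=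
        { toFun := fun c => (⟨S.π c.1, c.2⟩, ⟨(Function.surjInv S.surj (S.π c.1))⁻¹ * c.1, by
            rw [MonoidHom.mem_ker, map_mul, map_inv, Function.surjInv_eq S.surj, inv_mul_cancel]⟩)
          invFun := fun gk => ⟨Function.surjInv S.surj gk.1.1 * gk.2.1, by
            rw [map_mul, Function.surjInv_eq S.surj, MonoidHom.mem_ker.1 gk.2.2, mul_one]
            exact gk.1.2⟩
          left_inv := fun c => Subtype.ext (by simp)
          right_inv := fun ⟨g, k⟩ => by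
            have h : S.π (Function.surjInv S.surj g.1 * k.1) = g.1 := by
              rw [map_mul, Function.surjInv_eq S.surj, MonoidHom.mem_ker.1 k.2, mul_one]
            exact Prod.ext (Subtype.ext h) (Subtype.ext (by simp [h])) }
      rw [Nat.card_congr e2, Nat.card_prod, card_of_countP p, ← count_invol]
    rw [hJ, hN, ho]
    ring
  -- the conjugation invariance of the preimages
  have hconjQ : ∀ (Q : Subgroup GL23.H), (∀ g : GL23.H, ∀ q ∈ Q, g * q * g⁻¹ ∈ Q) →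
      ∀ m : ℕ, ∀ n : H, Commute n S.z → ∀ y : H, y ∈ preim S Q ∧ y ^ m = 1 →
        n * y * n⁻¹ ∈ preim S Q ∧ (n * y * n⁻¹) ^ m = 1 := by
    rintro Q hQn m n hn y ⟨hy, hym⟩
    refine ⟨?_, by rw [conj_pow, hym]; group⟩
    obtain ⟨hyz, hyQ⟩ := mem_preim.1 hy
    refine mem_preim.2 ⟨(hn.mul_left hyz).mul_left hn.inv_left, ?_⟩
    have e : (⟨n * y * n⁻¹, mem_cent.2 ((hn.mul_left hyz).mul_left hn.inv_left)⟩ :
        centralizer ({S.z} : Set H)) =
        ⟨n, mem_cent.2 hn⟩ * ⟨y, mem_cent.2 hyz⟩ * ⟨n, mem_cent.2 hn⟩⁻¹ := rfl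
    rw [e, map_mul, map_mul, map_inv]
    exact hQn _ _ hyQ
  -- the trivial intersection argument
  have fuse : ∀ t : H, Commute t S.z → Odd (orderOf t) → t ≠ 1 →
      (∀ c : H, Commute c t → Commute c S.z) →
      ∀ g : H, Commute (g * t * g⁻¹) S.z → g ∈ normalizer (S.O : Set H) := by
    intro t htz hto ht1 hC g hg
    refine (hnorm g).2 ?_
    have h1 : Commute (g⁻¹ * S.z * g) t := by
      have := hg.map (MulAut.conj g⁻¹)
      simp only [MulAut.conj_apply, inv_inv] at this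
      rw [show g⁻¹ * (g * t * g⁻¹) * g = t by group] at this
      exact this.symm
    have h2 : g⁻¹ * S.z * g * (g⁻¹ * S.z * g) = 1 := by
      rw [show g⁻¹ * S.z * g * (g⁻¹ * S.z * g) = g⁻¹ * (S.z * S.z) * g by group, z_sq hV S]
      group
    rcases cent_invol hV S htz hto ht1 h2 h1 (hC _ h1) with h | h
    · exact absurd (by
        calc S.z = g * (g⁻¹ * S.z * g) * g⁻¹ := by group
          _ = 1 := by rw [h]; group) hz1
    · show g * S.z = S.z * g
      calc g * S.z = g * (g⁻¹ * S.z * g) := by rw [h]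
        _ = S.z * g := by group
  have hSLn : ∀ g : GL23.H, ∀ q ∈ SL, g * q * g⁻¹ ∈ SL := fun g q hq => by
    show GL23.det (g * q * g⁻¹) = 1
    rw [det_map_mul, det_map_mul, det_map_inv, show GL23.det q = 1 from hq, mul_one]
    rcases det_cases g with h | h <;> simp [h]
  have hQn : ∀ g : GL23.H, ∀ q ∈ Q8, g * q * g⁻¹ ∈ Q8 := fun g q hq =>
    ⟨hSLn g q hq.1, by rw [conj_pow, hq.2]; group⟩
  have mk : ∀ (Q : Subgroup GL23.H), Q ≤ SL → (∀ g : GL23.H, ∀ q ∈ Q, g * q * g⁻¹ ∈ Q) →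
      ∀ m : ℕ, Nat.card Q ∣ m → 2 ∣ m → (⟨!![2, 0; 0, 2], !![2, 0; 0, 2], by decide, by decide⟩ :
        GL23.H) ∈ Q → ∀ a, InO S.z a → a ^ m ≠ 1 →
      (∀ L : Subgroup H, (∀ y, y ∈ L ↔ y ∈ preim S Q ∧ y ^ m = 1) →
        ∀ n ∈ normalizer (S.O : Set H), n ∉ centralizer (S.O : Set H) →
          ∀ c ∈ centralizer (S.O : Set H), n * c * n⁻¹ * c ∈ L) →
      (∀ y ∈ centralizer (S.O : Set H), ¬ (y ∈ preim S Q ∧ y ^ m = 1) →
        ∀ g : H, g * y * g⁻¹ ∈ centralizer (S.O : Set H) → g ∈ normalizer (S.O : Set H)) →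
      TIData S := by
    intro Q hQ hQn' m hm h2m hneg a ha ham hquot hti
    let L : Subgroup H :=
      { carrier := {y | y ∈ preim S Q ∧ y ^ m = 1}
        one_mem' := ⟨one_mem _, one_pow m⟩
        mul_mem' := fun {x y} hx hy => ⟨mul_mem hx.1 hy.1, by
          rw [mul_pow_of_central (preim_le_cent hV S hQ) (O_le_preim hV S Q)
            (by rw [relIndex_preim]; exact hm) hx.1 hy.1, hx.2, hy.2, one_mul]⟩
        inv_mem' := fun {x} hx => ⟨inv_mem hx.1, by rw [inv_pow, hx.2, inv_one]⟩ }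
    have hLmem : ∀ y, y ∈ L ↔ y ∈ preim S Q ∧ y ^ m = 1 := fun y => Iff.rfl
    refine ⟨L, ?_, ?_, ?_, hquot L hLmem, ?_, hidx, hinvO, fun y hy hyL g hg =>
      hti y hy (fun h => hyL ((hLmem y).2 h)) g hg, hcount⟩
    · intro y hy
      rw [hCO]
      obtain ⟨h, hq⟩ := mem_preim.1 hy.1
      exact mem_preim.2 ⟨h, hQ hq⟩
    · intro n hn
      rw [Subgroup.mem_normalizer_iff]
      refine fun y => ⟨hconjQ Q hQn' m n ((hnorm n).1 hn) y, fun h => ?_⟩
      have := hconjQ Q hQn' m n⁻¹ ((hnorm n).1 hn).inv_left _ h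
      rwa [inv_inv, show n⁻¹ * (n * y * n⁻¹) * n = y by group] at this
    · refine ⟨mem_preim.2 ⟨Commute.refl _, ?_⟩, ?_⟩
      · rwa [show S.π ⟨S.z, mem_cent.2 (Commute.refl _)⟩ = ⟨!![2, 0; 0, 2], !![2, 0; 0, 2], by decide,
          by decide⟩ from Units.ext (pi_z hV S)]
      · obtain ⟨j, hj⟩ := h2m
        rw [hj, pow_mul, sq, z_sq hV S, one_pow]
    · intro hle
      exact ham (hle ((mem_O_iff hV S).2 ha)).2
  have h24 : ∀ (c : H), Commute c S.z → InO S.z (c ^ 24) := fun c hc =>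
    (mem_ker_iff hV S (⟨c, mem_cent.2 hc⟩ ^ 24)).1 (by
      rw [map_pow]; exact Units.ext (pow_twentyfour _ (GL23.mem_els _)))
  by_cases h3 : ∃ a, InO S.z a ∧ a ^ 3 = 1 ∧ a ≠ 1
  · -- three divides the order of the core
    obtain ⟨a₀, ha₀, ha₀3, ha₀1⟩ := h3
    obtain ⟨h1, h2, h3'⟩ := pi_noncentral hV S hw₀ hw₀1 hw₀z
    obtain ⟨t₀, -, ht₀1, ht₀3, ht₀i⟩ := exists_inverted _ (GL23.mem_els _) h1 h2 h3'
    set wb := S.π ⟨w₀, mem_cent.2 (v_comm hV hw₀ S.mem)⟩ with hwb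
    -- elements over powers of `t₀` are inverted by `w₀`
    have hA : ∀ x (hx : Commute x S.z), S.π ⟨x, mem_cent.2 hx⟩ ∈ zpowers t₀ →
        Odd (orderOf x) ∧ w₀ * x * w₀⁻¹ = x⁻¹ := by
      intro x hx hxt
      obtain ⟨k, hk⟩ := mem_zpowers_iff.1 hxt
      have hxo : Odd (orderOf x) := odd_of_cube hV S hx (by
        rw [← hk, ← zpow_natCast, ← zpow_mul, mul_comm, zpow_mul, zpow_natCast,
          show t₀ ^ 3 = 1 from Units.ext ht₀3, one_zpow])
      refine ⟨hxo, inv_of_pi hV S hw₀ hw₀1 hw₀z hx hxo ((mem_ker_iff hV S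
        (⟨w₀, mem_cent.2 (v_comm hV hw₀ S.mem)⟩ * ⟨x, mem_cent.2 hx⟩ *
          ⟨w₀, mem_cent.2 (v_comm hV hw₀ S.mem)⟩⁻¹ * ⟨x, mem_cent.2 hx⟩)).1 ?_)⟩
      rw [map_mul, map_mul, map_mul, map_inv, ← hk, ← hwb, ← conj_zpow,
        show wb * t₀ * wb⁻¹ = t₀⁻¹ from Units.ext ht₀i, inv_zpow, inv_mul_cancel]
    have hAcomm : ∀ x y (hx : Commute x S.z) (hy : Commute y S.z),
        S.π ⟨x, mem_cent.2 hx⟩ ∈ zpowers t₀ → S.π ⟨y, mem_cent.2 hy⟩ ∈ zpowers t₀ →
        Commute x y := by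
      intro x y hx hy hxt hyt
      have h1 := (hA x hx hxt).2
      have h2 := (hA y hy hyt).2
      have h3 := (hA (x * y) (hx.mul_left hy) (by
        have := mul_mem hxt hyt
        rwa [← map_mul] at this)).2
      rw [show w₀ * (x * y) * w₀⁻¹ = (w₀ * x * w₀⁻¹) * (w₀ * y * w₀⁻¹) by group, h1, h2] at h3
      exact Commute.inv_inv_iff.1 (h3.trans (mul_inv_rev _ _))
    have hdec : ∀ c ∈ centralizer (S.O : Set H), ∃ q t : H, c = q * t ∧
        (q ∈ preim S Q8 ∧ q ^ 8 = 1) ∧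
        ∃ h : Commute t S.z, S.π ⟨t, mem_cent.2 h⟩ ∈ zpowers t₀ := by
      intro c hc
      obtain ⟨hcz, hcd⟩ := (hcent c).1 hc
      obtain ⟨k, -, hk⟩ := exists_factor t₀ (GL23.mem_els _) ht₀1 ht₀3 _ (GL23.mem_els _) hcd
      obtain ⟨⟨t₁, ht₁m⟩, ht₁⟩ := S.surj (t₀ ^ k)
      have ht₁z : Commute t₁ S.z := mem_cent.1 ht₁m
      have hdk : GL23.det (S.π ⟨c, mem_cent.2 hcz⟩ * t₀ ^ k) = 1 := by
        have : GL23.det (t₀ ^ k) = 1 := det_of_cube _ (GL23.mem_els _) (by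
          rw [← pow_mul, mul_comm, pow_mul, show t₀ ^ 3 = 1 from Units.ext ht₀3, one_pow]; rfl)
        rw [det_map_mul, hcd, this, one_mul]
      have hq₁π : S.π ⟨c * t₁, mem_cent.2 (hcz.mul_left ht₁z)⟩ =
          S.π ⟨c, mem_cent.2 hcz⟩ * t₀ ^ k := by rw [← ht₁, ← map_mul]; rfl
      have h8 : InO S.z ((c * t₁) ^ 8) :=
        (mem_ker_iff hV S (⟨c * t₁, mem_cent.2 (hcz.mul_left ht₁z)⟩ ^ 8)).1 (by
          rw [map_pow, hq₁π, show (8 : ℕ) = 4 * 2 from rfl, pow_mul,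
            show (S.π ⟨c, mem_cent.2 hcz⟩ * t₀ ^ k) ^ 4 = 1 from Units.ext hk, one_pow])
      obtain ⟨r, hr, hr8⟩ := exists_root hV S h8
      have hcr : Commute (c * t₁) r⁻¹ :=
        det_eq_one_comm hV S (hcz.mul_left ht₁z) hr.inv (by rw [hq₁π]; exact hdk)
      refine ⟨c * t₁ * r⁻¹, r * t₁⁻¹, by group, ⟨mem_preim.2 ⟨(hcz.mul_left ht₁z).mul_left
        hr.2.1.inv_left, ?_⟩, ?_⟩, hr.2.1.mul_left ht₁z.inv_left, ?_⟩
      · rw [show (⟨c * t₁ * r⁻¹, mem_cent.2 ((hcz.mul_left ht₁z).mul_left hr.2.1.inv_left)⟩ :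
            centralizer ({S.z} : Set H)) = ⟨c * t₁, mem_cent.2 (hcz.mul_left ht₁z)⟩ *
            ⟨r⁻¹, mem_cent.2 hr.inv.2.1⟩ from rfl, map_mul, hq₁π,
          (mem_ker_iff hV S ⟨r⁻¹, mem_cent.2 hr.inv.2.1⟩).2 hr.inv, mul_one]
        exact ⟨hdk, Units.ext hk⟩
      · rw [hcr.mul_pow, inv_pow, hr8, mul_inv_cancel]
      · rw [show (⟨r * t₁⁻¹, mem_cent.2 (hr.2.1.mul_left ht₁z.inv_left)⟩ :
            centralizer ({S.z} : Set H)) = ⟨r, mem_cent.2 hr.2.1⟩ * ⟨t₁, ht₁m⟩⁻¹ from rfl,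
          map_mul, map_inv, (mem_ker_iff hV S ⟨r, mem_cent.2 hr.2.1⟩).2 hr, one_mul, ht₁]
        exact inv_mem (pow_mem (mem_zpowers _) k)
    refine mk Q8 (fun g hg => hg.1) hQn 8 (by rw [card_Q8]) ⟨4, rfl⟩ ⟨det_two_neg, Units.ext (by decide)⟩
      a₀ ha₀ (fun h => ha₀1 ?_) ?_ ?_
    · have h1 : orderOf a₀ ∣ Nat.gcd 8 3 :=
        Nat.dvd_gcd (orderOf_dvd_of_pow_eq_one h) (orderOf_dvd_of_pow_eq_one ha₀3)
      exact orderOf_eq_one_iff.1 (Nat.dvd_one.1 h1)
    · intro L hL n hn hnc c hc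
      obtain ⟨hnz, hnd⟩ := hout n hn hnc
      have hw₀inv : w₀⁻¹ = w₀ := v_inv hV hw₀
      have hd : w₀⁻¹ * n ∈ centralizer (S.O : Set H) := (hcent _).2 ⟨hw₀c.inv_left.mul_left hnz, by
        rw [show (⟨w₀⁻¹ * n, mem_cent.2 (hw₀c.inv_left.mul_left hnz)⟩ :
            centralizer ({S.z} : Set H)) = ⟨w₀, mem_cent.2 hw₀c⟩⁻¹ * ⟨n, mem_cent.2 hnz⟩ from rfl,
          map_mul, map_inv, det_map_mul, det_map_inv,
          (det_cases _).resolve_left (det_four hV S hw₀ hw₀1 hw₀z),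
          (det_cases _).resolve_left hnd]
        norm_num⟩
      obtain ⟨q, t, rfl, hq, htz, ht⟩ := hdec c hc
      obtain ⟨q', t', hd', hq', ht'z, ht'⟩ := hdec _ hd
      have hLn : ∀ x : H, Commute x S.z → ∀ y ∈ L, x * y * x⁻¹ ∈ L := fun x hx y hy =>
        (hL _).2 (hconjQ Q8 hQn 8 x hx y ((hL y).1 hy))
      have htt : Commute t t' := hAcomm t t' htz ht'z ht ht'
      have hinv := (hA t htz ht).2
      have hn' : n = w₀ * (q' * t') := by rw [← hd']; group
      have hq'' : q' * (t' * q * t'⁻¹) * (t * q'⁻¹ * t⁻¹) ∈ L :=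
        L.mul_mem (L.mul_mem ((hL _).2 hq') (hLn t' ht'z q ((hL _).2 hq)))
          (hLn t htz _ (L.inv_mem ((hL _).2 hq')))
      have key' : n * (q * t) * n⁻¹ * (q * t) =
          (w₀ * (q' * (t' * q * t'⁻¹) * (t * q'⁻¹ * t⁻¹)) * w₀⁻¹) * ((w₀ * t * w₀⁻¹) * q * t) := by
        rw [hn']
        calc w₀ * (q' * t') * (q * t) * (w₀ * (q' * t'))⁻¹ * (q * t)
            = w₀ * q' * (t' * q * (t * t'⁻¹)) * q'⁻¹ * w₀⁻¹ * q * t := by group
          _ = w₀ * q' * (t' * q * (t'⁻¹ * t)) * q'⁻¹ * w₀⁻¹ * q * t := by rw [htt.inv_right.eq]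
          _ = _ := by group
      rw [key', hinv]
      refine L.mul_mem (hLn w₀ hw₀c _ hq'') ?_
      have := hLn t⁻¹ htz.inv_left q ((hL _).2 hq)
      rwa [inv_inv] at this
    · intro y hy hyL g hg
      obtain ⟨hyz, hyd⟩ := (hcent y).1 hy
      have ht1 : y ^ 8 ≠ 1 := fun h => hyL ⟨mem_preim.2 ⟨hyz, hyd, Units.ext
        (pow_four_of_pow_eight _ (GL23.mem_els _) hyd (by
          rw [← map_pow, show (⟨y, mem_cent.2 hyz⟩ : centralizer ({S.z} : Set H)) ^ 8 = 1 from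
            Subtype.ext h, map_one]; rfl))⟩, h⟩
      set t : H := y ^ 8 with htdef
      have htz : Commute t S.z := hyz.pow_left 8
      have hπ3 : S.π ⟨t, mem_cent.2 htz⟩ ^ 3 = 1 := by
        rw [show (⟨t, mem_cent.2 htz⟩ : centralizer ({S.z} : Set H)) = ⟨y, mem_cent.2 hyz⟩ ^ 8 from rfl,
          map_pow, ← pow_mul]
        exact Units.ext (pow_twentyfour _ (GL23.mem_els _))
      have hto : Odd (orderOf t) := odd_of_cube hV S htz hπ3
      have hgt : Commute (g * t * g⁻¹) S.z := by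
        rw [htdef, ← conj_pow]
        exact ((hcent _).1 hg).1.pow_left 8
      refine fuse t htz hto ht1 (fun c hc' => ?_) g hgt
      by_cases htO : InO S.z t
      · exact cent_le hV S S.mem hz1 htO ht1 hc'
      obtain ⟨q, -, hq⟩ := conj_cube _ (GL23.mem_els (S.π ⟨t, mem_cent.2 htz⟩))
        (fun h => htO ((mem_ker_iff hV S _).1 (Units.ext h))) (congrArg Units.val hπ3) t₀
        (GL23.mem_els _) ht₀1 ht₀3
      obtain ⟨⟨d, hdm⟩, hdπ⟩ := S.surj q
      have hdz : Commute d S.z := mem_cent.1 hdm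
      have ht'z : Commute (d * t * d⁻¹) S.z := (hdz.mul_left htz).mul_left hdz.inv_left
      have hmem : S.π ⟨d * t * d⁻¹, mem_cent.2 ht'z⟩ ∈ zpowers t₀ := by
        rw [show (⟨d * t * d⁻¹, mem_cent.2 ht'z⟩ : centralizer ({S.z} : Set H)) =
          ⟨d, hdm⟩ * ⟨t, mem_cent.2 htz⟩ * ⟨d, hdm⟩⁻¹ from rfl, map_mul, map_mul, map_inv, hdπ,
          show q * S.π ⟨t, mem_cent.2 htz⟩ = t₀ * q from Units.ext hq, mul_inv_cancel_right]
        exact mem_zpowers _
      obtain ⟨ho', hi'⟩ := hA _ ht'z hmem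
      have h := cent_le_three hV S S.mem hw₀ hz1 hw₀1 hw₀z ha₀ (l₀ := 1)
        (by rw [pow_one]; exact ha₀3) ha₀1 ht'z ho' (fun h => ht1 (conj_eq_one_iff.1 h)) hi'
        (c := d * c * d⁻¹) (hc'.map (MulAut.conj d))
      have h' := h.map (MulAut.conj d⁻¹)
      simp only [MulAut.conj_apply, inv_inv] at h'
      rwa [show d⁻¹ * (d * c * d⁻¹) * d = c by group,
        show d⁻¹ * S.z * d = S.z by rw [mul_assoc, hdz.symm.eq, inv_mul_cancel_left]] at h'
  · -- three does not divide the order of the core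
    push Not at h3
    refine mk SL le_rfl hSLn 24 (by rw [card_SL]) ⟨12, rfl⟩ det_two_neg a₁ ha₁ (fun h => ?_) ?_ ?_
    · refine ha₁1 ?_
      have h8 : orderOf (a₁ ^ 8) ∣ 3 := orderOf_dvd_of_pow_eq_one (by rw [← pow_mul]; exact h)
      have h' : a₁ ^ 8 = 1 := h3 _ (ha₁.pow 8) (orderOf_dvd_iff_pow_eq_one.1 h8)
      exact orderOf_eq_one_iff.1 (Nat.eq_one_of_dvd_coprimes
        (show (orderOf a₁).Coprime 8 by simpa using (Nat.coprime_two_right.2 ha₁.1).pow_right 3)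
        dvd_rfl (orderOf_dvd_of_pow_eq_one h'))
    · intro L hL n hn hnc c hc
      have hc' : n * c * n⁻¹ ∈ preim S SL := by
        rw [hCO] at hc
        obtain ⟨h, hq⟩ := mem_preim.1 hc
        exact (hconjQ SL hSLn 0 n ((hnorm n).1 hn) c ⟨hc, pow_zero c⟩).1
      have hcP : c ∈ preim S SL := hCO ▸ hc
      refine (hL _).2 ⟨mul_mem hc' hcP, ?_⟩
      rw [mul_pow_of_central (preim_le_cent hV S le_rfl) (O_le_preim hV S SL)
          (by rw [relIndex_preim, card_SL]) hc' hcP, conj_pow,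
        hinvO n hn hnc _ ((mem_O_iff hV S).2 (h24 c ((hcent c).1 hc).1)), inv_mul_cancel]
    · intro y hy hyL g hg
      obtain ⟨hyz, hyd⟩ := (hcent y).1 hy
      have ht1 : y ^ 24 ≠ 1 := fun h => hyL ⟨mem_preim.2 ⟨hyz, hyd⟩, h⟩
      have hO' := h24 y hyz
      have hgt : Commute (g * y ^ 24 * g⁻¹) S.z := by
        rw [← conj_pow]
        exact ((hcent _).1 hg).1.pow_left 24
      exact fuse _ hO'.2.1 hO'.1 ht1 (fun c hc => cent_le hV S S.mem hz1 hO' ht1 hc) g hgt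

end CfsgLib.Subdeg3.TI

namespace CfsgLib.Subdeg3

universe u

/-- Piece P4 of S3686: the local analysis of the core. -/
theorem tiData : StmtTI.{u} := fun _H _ _ _V hV S hO => TI.tiData_of_ne hV S hO

end CfsgLib.Subdeg3
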