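import Cfsg.Agent.Lib.Small.GLTwoThree

/-!
# Facts about `GL(2, 3)` for the local analysis of the core (S3686, P4)
-/

set_option autoImplicit false

namespace CfsgLib.Subdeg3.TI

open CfsgLib.Small.GL23

theorem pow_twentyfour : ∀ g ∈ els, (g ^ 24).val = 1 := by decide +kernel

theorem det_of_cube : ∀ g ∈ els, (g ^ 3).val = 1 → det g = 1 := by decide +kernel

theorem cent_cube : ∀ g ∈ els, g.val ≠ 1 → (g ^ 3).val = 1 → ∀ h ∈ els, (h * h).val = 1 →
    (g * h).val = (h * g).val → h.val = 1 ∨ h.val = !![2, 0; 0, 2] := by decide +kernel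

theorem not_normalized : ∀ n ∈ els, (n * n).val = !![2, 0; 0, 2] → ∀ g ∈ els, (g ^ 3).val = 1 →
    ((g * (n * g * n⁻¹)) ^ 3).val = 1 → ((g * (n * g * n⁻¹)⁻¹) ^ 3).val = 1 → g.val = 1 := by
  decide +kernel

theorem det_of_four : ∀ g ∈ els, (g * g).val = !![2, 0; 0, 2] → det g = 1 := by decide +kernel

theorem invol_of_four : ∀ g ∈ els, ((g * g) * (g * g)).val = 1 → (g * g).val ≠ 1 →
    (g * g).val = !![2, 0; 0, 2] := by decide +kernel

theorem exists_noncommuting : ∀ g ∈ els, g.val ≠ 1 → (g ^ 3).val = 1 →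
    ∃ q ∈ els, (q * q).val = !![2, 0; 0, 2] ∧ (g * q).val ≠ (q * g).val := by decide +kernel

theorem det_invol : ∀ g ∈ els, g.val ≠ 1 → g.val ≠ !![2, 0; 0, 2] → (g * g).val = 1 →
    det g ≠ 1 := by decide +kernel

theorem det_one_invol : ∀ g ∈ els, det g = 1 → (g * g).val = 1 →
    g.val = 1 ∨ g.val = !![2, 0; 0, 2] := by decide +kernel

theorem exists_swap : ∀ g ∈ els, g.val ≠ 1 → g.val ≠ !![2, 0; 0, 2] → (g * g).val = 1 →
    ∃ q ∈ els, (q * q).val = !![2, 0; 0, 2] ∧ (q * g * q⁻¹).val = (g * q * q).val := by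
  decide +kernel

theorem exists_inverted : ∀ g ∈ els, g.val ≠ 1 → g.val ≠ !![2, 0; 0, 2] → (g * g).val = 1 →
    ∃ t ∈ els, t.val ≠ 1 ∧ (t ^ 3).val = 1 ∧ (g * t * g⁻¹).val = (t⁻¹).val := by
  decide +kernel

theorem exists_factor : ∀ t ∈ els, t.val ≠ 1 → (t ^ 3).val = 1 → ∀ c ∈ els, det c = 1 →
    ∃ k ∈ List.range 3, ((c * t ^ k) ^ 4).val = 1 := by decide +kernel

theorem quotient_mul : ∀ g ∈ els, det g = 1 → (g ^ 4).val = 1 → ∀ h ∈ els, det h = 1 →
    (h ^ 4).val = 1 → ((g * h) ^ 4).val = 1 := by decide +kernel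

theorem count_invol : els.countP
    (fun g => g.val ≠ 1 ∧ g.val ≠ !![2, 0; 0, 2] ∧ (g * g).val = 1) = 12 := by decide +kernel

theorem count_det : els.countP (fun g => det g = 1) = 24 := by decide +kernel

theorem det_one : det 1 = 1 := by decide +kernel

theorem det_two_neg : det ⟨!![2, 0; 0, 2], !![2, 0; 0, 2], by decide, by decide⟩ = 1 := by
  decide +kernel

theorem exists_det : ∃ g ∈ els, det g ≠ 1 := by decide +kernel

end CfsgLib.Subdeg3.TI
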