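import Cfsg.Agent.Lib.Subdeg3.Defs
import Cfsg.Agent.Lib.Subdeg3.TIFacts
import Cfsg.Agent.Lib.Involutions.ZStar.Main
import Cfsg.Agent.Lib.Involutions.ElemAbCent
import Cfsg.Agent.Lib.Base.Cores
import Cfsg.Agent.Lib.Coprime.Action2

/-!
# The involution centralisers in the semidihedral case (S3686, P4): basic facts

`InO v x` describes the odd core of the centraliser of the involution `v` intrinsically, so that it
is carried along by automorphisms.  `K b` is the odd core of the centraliser of `b`.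
-/

set_option autoImplicit false
set_option linter.unusedSectionVars false
set_option linter.style.haveILetI false

namespace CfsgLib.Subdeg3.TI

open Subgroup CfsgLib.Small

universe u

variable {H : Type u} [Group H] [Finite H] {V : Subgroup H}

/-- Membership in the odd core of the centraliser of the involution `v`. -/
def InO (v x : H) : Prop :=
  Odd (orderOf x) ∧ Commute x v ∧ ∀ q : H, Commute q v → orderOf q = 4 → Commute x q

/-- The odd core of the centraliser of `b`. -/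
def K (b : H) : Subgroup H :=
  (Cfsg.oddCore (centralizer ({b} : Set H))).map (centralizer ({b} : Set H)).subtype

theorem InO.map {v x : H} (h : InO v x) (φ : MulAut H) : InO (φ v) (φ x) := by
  refine ⟨by rw [MulEquiv.orderOf_eq]; exact h.1, h.2.1.map φ, fun q hq ho => ?_⟩
  obtain ⟨r, rfl⟩ := φ.surjective q
  rw [MulEquiv.orderOf_eq] at ho
  refine (h.2.2 r ?_ ho).map φ
  have := hq.map φ.symm
  simpa using this

theorem InO.conj {v x : H} (h : InO v x) (g : H) : InO (g * v * g⁻¹) (g * x * g⁻¹) :=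
  h.map (MulAut.conj g)

theorem mem_cent {x z : H} : x ∈ centralizer ({z} : Set H) ↔ Commute x z :=
  mem_centralizer_singleton_iff

theorem K_le (b : H) : K b ≤ centralizer ({b} : Set H) := Subgroup.map_subtype_le _

theorem odd_K (b : H) : Odd (Nat.card (K b)) :=
  Nat.coprime_two_right.1 (CfsgLib.Base.coprime_card_map_pPrimeCore _)

theorem odd_order_of_mem {X : Subgroup H} (hX : Odd (Nat.card X)) {x : H} (hx : x ∈ X) :
    Odd (orderOf x) :=
  hX.of_dvd_nat (Subgroup.orderOf_dvd_natCard X hx)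

theorem K_inv (b : H) : K b⁻¹ = K b := by
  have h : centralizer ({b⁻¹} : Set H) = centralizer ({b} : Set H) := by
    ext x
    rw [mem_cent, mem_cent, Commute.inv_right_iff]
  exact congrArg (fun C : Subgroup H => (Cfsg.oddCore C).map C.subtype) h

theorem K_conj (g b : H) {x : H} (hx : x ∈ K b) : g * x * g⁻¹ ∈ K (g * b * g⁻¹) := by
  have key : (K b).map (MulAut.conj g).toMonoidHom ≤ K (g * b * g⁻¹) := by
    refine CfsgLib.Base.le_map_pPrimeCore ?_ ?_ ?_
    · rintro _ ⟨y, hy, rfl⟩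
      exact mem_cent.2 ((mem_cent.1 (K_le b hy)).map (MulAut.conj g))
    · intro c hc
      have hc' : g⁻¹ * c * g ∈ centralizer ({b} : Set H) := mem_cent.2 (by
        have h := (mem_cent.1 hc).map (MulAut.conj g⁻¹)
        simp only [MulAut.conj_apply] at h
        rwa [inv_inv, show g⁻¹ * (g * b * g⁻¹) * g = b by group] at h)
      have hn := CfsgLib.Base.le_normalizer_map_pPrimeCore (p := 2) _ hc'
      rw [Subgroup.mem_normalizer_iff] at hn ⊢
      intro y
      simp only [Subgroup.mem_map_equiv, MulAut.conj_symm_apply]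
      rw [show g⁻¹ * (c * y * c⁻¹) * g = (g⁻¹ * c * g) * (g⁻¹ * y * g) * (g⁻¹ * c * g)⁻¹ by group]
      exact hn _
    · rw [Subgroup.card_map_of_injective (MulAut.conj g).injective]
      exact Nat.coprime_two_right.2 (odd_K b)
  exact key (Subgroup.mem_map_of_mem _ hx)

section Four

variable (hV : Setup H V)
include hV

theorem v_sq {v : H} (hv : v ∈ V) : v * v = 1 := by
  haveI := hV.four
  exact congrArg Subtype.val (IsKleinFour.mul_self (⟨v, hv⟩ : V))

theorem v_order {v : H} (hv : v ∈ V) (h1 : v ≠ 1) : orderOf v = 2 :=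
  orderOf_eq_prime (by rw [sq, v_sq hV hv]) h1

theorem v_inv {v : H} (hv : v ∈ V) : v⁻¹ = v := inv_eq_of_mul_eq_one_right (v_sq hV hv)

theorem v_comm {v w : H} (hv : v ∈ V) (hw : w ∈ V) : Commute v w := by
  have h := v_inv hV (V.mul_mem hv hw)
  rw [mul_inv_rev, v_inv hV hv, v_inv hV hw] at h
  exact h.symm

theorem v_cases {v w x : H} (hv : v ∈ V) (hw : w ∈ V) (hx : x ∈ V) (hv1 : v ≠ 1) (hw1 : w ≠ 1)
    (hvw : v ≠ w) : x = 1 ∨ x = v ∨ x = w ∨ x = v * w := by
  haveI := hV.four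
  by_cases h1 : x = 1
  · exact Or.inl h1
  by_cases h2 : x = v
  · exact Or.inr (Or.inl h2)
  by_cases h3 : x = w
  · exact Or.inr (Or.inr (Or.inl h3))
  refine Or.inr (Or.inr (Or.inr ?_))
  have := IsKleinFour.eq_mul_of_ne_all (x := (⟨v, hv⟩ : V)) (y := ⟨w, hw⟩) (z := ⟨x, hx⟩)
    (by simpa [Subtype.ext_iff] using hv1) (by simpa [Subtype.ext_iff] using hw1)
    (by simpa [Subtype.ext_iff] using hvw) (by simpa [Subtype.ext_iff] using h1)
    (by simpa [Subtype.ext_iff] using h2) (by simpa [Subtype.ext_iff] using h3)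
  exact congrArg Subtype.val this

theorem v_mul_ne_one {v w : H} (hw : w ∈ V) (hvw : v ≠ w) : v * w ≠ 1 := fun h =>
  hvw ((mul_eq_one_iff_eq_inv.1 h).trans (v_inv hV hw))

theorem eq_one_of_cent {v w : H} (hv : v ∈ V) (hw : w ∈ V) (hv1 : v ≠ 1) (hw1 : w ≠ 1)
    (hvw : v ≠ w) {x : H} (hx : Odd (orderOf x)) (h1 : Commute x v) (h2 : Commute x w) : x = 1 := by
  have hxV : x ∈ V := by
    have : x ∈ centralizer (V : Set H) := by
      rw [mem_centralizer_iff]
      intro y hy
      rcases v_cases hV hv hw hy hv1 hw1 hvw with rfl | rfl | rfl | rfl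
      · simp
      · exact h1.eq.symm
      · exact h2.eq.symm
      · exact (h1.mul_right h2).eq.symm
    rwa [hV.cent] at this
  exact CfsgLib.Involutions.sq_odd_eq_one (by rw [sq, v_sq hV hxV]) hx

/-- An element of `V` inverts the fixed points of another in an odd subgroup it normalises. -/
theorem inv_of_cent {v w : H} (hv : v ∈ V) (hw : w ∈ V) (hv1 : v ≠ 1) (hw1 : w ≠ 1) (hvw : v ≠ w)
    {X : Subgroup H} (hX : Odd (Nat.card X)) (hn : w ∈ normalizer (X : Set H)) {x : H}
    (hx : x ∈ X) (hxv : Commute x v) : w * x * w⁻¹ = x⁻¹ := by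
  have hw2 : orderOf w = 2 := v_order hV hw hw1
  have key := CfsgLib.Involutions.inverts_of_fpf (X ⊓ centralizer ({v} : Set H)) hw2 ?_ ?_ x
    ⟨hx, mem_cent.2 hxv⟩
  · rwa [v_inv hV hw]
  · intro d hd
    refine ⟨?_, mem_cent.2 (((v_comm hV hw hv).mul_left (mem_cent.1 hd.2)).mul_left (v_comm hV hw hv))⟩
    have := (Subgroup.mem_normalizer_iff.1 hn d).1 hd.1
    rwa [v_inv hV hw] at this
  · intro d hd hdw
    refine eq_one_of_cent hV hv hw hv1 hw1 hvw (odd_order_of_mem hX hd.1) (mem_cent.1 hd.2) ?_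
    calc d * w = w * d * w * w := by rw [hdw]
      _ = w * d := by rw [mul_assoc, v_sq hV hw, mul_one]

end Four

section Cent

variable (hV : Setup H V) (S : SDCent H V)
include hV

theorem z_ne_one : S.z ≠ 1 := fun h => by
  have := S.ord
  rw [h, orderOf_one] at this
  omega

theorem z_sq : S.z * S.z = 1 := v_sq hV S.mem

theorem odd_ker {c : centralizer ({S.z} : Set H)} (hc : S.π c = 1) : Odd (orderOf c) :=
  odd_order_of_mem S.kerOdd (MonoidHom.mem_ker.2 hc)

theorem pi_z : (S.π ⟨S.z, mem_cent.2 (Commute.refl _)⟩).val = !![2, 0; 0, 2] := by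
  refine GL23.central_involution _ (GL23.mem_els _) ?_ ?_ ?_
  · intro h
    have h1 := odd_ker hV S (Units.ext h : S.π ⟨S.z, mem_cent.2 (Commute.refl _)⟩ = 1)
    rw [Subgroup.orderOf_mk, S.ord] at h1
    exact absurd h1 (by decide)
  · rw [← map_mul]
    rw [show (⟨S.z, _⟩ * ⟨S.z, _⟩ : centralizer ({S.z} : Set H)) = 1 from Subtype.ext (z_sq hV S),
      map_one]
    rfl
  · intro h _
    obtain ⟨c, rfl⟩ := S.surj h
    rw [← map_mul, ← map_mul]
    exact congrArg (fun y => (S.π y).val) (Subtype.ext (mem_cent.1 c.2).eq.symm)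

theorem pi_mul_z_eq_one {c : centralizer ({S.z} : Set H)} (hc : (S.π c).val = !![2, 0; 0, 2]) :
    S.π (c * ⟨S.z, mem_cent.2 (Commute.refl _)⟩) = 1 := by
  have h : S.π c = S.π ⟨S.z, mem_cent.2 (Commute.refl _)⟩ := Units.ext (hc.trans (pi_z hV S).symm)
  rw [map_mul, h, ← map_mul,
    show (⟨S.z, _⟩ * ⟨S.z, _⟩ : centralizer ({S.z} : Set H)) = 1 from Subtype.ext (z_sq hV S),
    map_one]

/-- An involution of the centraliser lying over a central element of `GL(2,3)` is `1` or `z`. -/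
theorem eq_of_pi {w : H} (hw : w * w = 1) (hwz : Commute w S.z)
    (h : (S.π ⟨w, mem_cent.2 hwz⟩).val = 1 ∨ (S.π ⟨w, mem_cent.2 hwz⟩).val = !![2, 0; 0, 2]) :
    w = 1 ∨ w = S.z := by
  rcases h with h | h
  · refine Or.inl (CfsgLib.Involutions.sq_odd_eq_one (by rw [sq, hw]) ?_)
    simpa [Subgroup.orderOf_mk] using odd_ker hV S (Units.ext h : S.π ⟨w, mem_cent.2 hwz⟩ = 1)
  · refine Or.inr ?_
    have h1 := odd_ker hV S (pi_mul_z_eq_one hV S h)
    rw [← Subgroup.orderOf_coe] at h1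
    have h2 : w * S.z = 1 := CfsgLib.Involutions.sq_odd_eq_one
      (by rw [sq, (hwz.symm).mul_mul_mul_comm, hw, z_sq hV S, one_mul]) h1
    exact (mul_eq_one_iff_eq_inv.1 h2).trans (v_inv hV S.mem)

theorem odd_pi {c : centralizer ({S.z} : Set H)} (hc : Odd (orderOf c)) : S.π c ^ 3 = 1 := by
  have hd : orderOf (S.π c) ∣ orderOf c := orderOf_map_dvd _ _
  have h24 : orderOf (S.π c) ∣ 8 * 3 := orderOf_dvd_of_pow_eq_one
    (Units.ext (pow_twentyfour _ (GL23.mem_els _)))
  refine orderOf_dvd_iff_pow_eq_one.1 ((Nat.Coprime.dvd_of_dvd_mul_left ?_ h24))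
  have h2 : (orderOf (S.π c)).Coprime 2 := Nat.coprime_two_right.2 (hc.of_dvd_nat hd)
  simpa using h2.pow_right 3

theorem det_of_odd {c : centralizer ({S.z} : Set H)} (hc : Odd (orderOf c)) :
    GL23.det (S.π c) = 1 :=
  det_of_cube _ (GL23.mem_els _) (congrArg Units.val (odd_pi hV S hc))

/-- Lifting the square roots of the central involution. -/
theorem exists_lift {q : GL23.H} (hq : (q * q).val = !![2, 0; 0, 2]) :
    ∃ c : centralizer ({S.z} : Set H), (S.π c = q ∨ S.π c = q⁻¹) ∧ (c : H) * c = S.z ∧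
      orderOf (c : H) = 4 := by
  obtain ⟨c₀, hc₀⟩ := S.surj q
  have hzz : S.π ⟨S.z, mem_cent.2 (Commute.refl _)⟩ = q * q := Units.ext ((pi_z hV S).trans hq.symm)
  have hq4 : q ^ 4 = 1 := by
    rw [show (4 : ℕ) = 2 + 2 from rfl, pow_add, sq, ← hzz, ← map_mul,
      show (⟨S.z, _⟩ * ⟨S.z, _⟩ : centralizer ({S.z} : Set H)) = 1 from Subtype.ext (z_sq hV S),
      map_one]
  obtain ⟨m, hm⟩ := S.kerOdd
  set k := Nat.card S.π.ker with hk
  have hpi : S.π (c₀ ^ k) = q ∨ S.π (c₀ ^ k) = q⁻¹ := by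
    rw [map_pow, hc₀, ← pow_mod_orderOf]
    have hmod : q ^ (k % orderOf q) = q ^ (k % 4) := by
      rw [pow_mod_orderOf, ← Nat.div_add_mod k 4, pow_add, pow_mul, hq4, one_pow, one_mul,
        Nat.mul_add_mod, Nat.mod_mod]
    rw [hmod]
    rcases (show k % 4 = 1 ∨ k % 4 = 3 by omega) with h | h
    · exact Or.inl (by rw [h, pow_one])
    · refine Or.inr (eq_inv_of_mul_eq_one_left ?_)
      rw [h, ← pow_succ, hq4]
  refine ⟨c₀ ^ k, hpi, ?_⟩
  have hcc : S.π (c₀ ^ k * c₀ ^ k) = q * q := by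
    rw [map_mul]
    rcases hpi with h | h
    · rw [h]
    · rw [h]
      calc q⁻¹ * q⁻¹ = q⁻¹ * q⁻¹ * q ^ 4 := by rw [hq4, mul_one]
        _ = q * q := by rw [show q⁻¹ * q⁻¹ * q ^ 4 = q ^ 2 by group, sq]
  have h1 : S.π (c₀ ^ k * c₀ ^ k * ⟨S.z, mem_cent.2 (Commute.refl _)⟩) = 1 :=
    pi_mul_z_eq_one hV S (by rw [hcc]; exact hq)
  have h4 : (c₀ ^ k) ^ 4 = 1 := by
    rw [← pow_mul, mul_comm, pow_mul]
    have : c₀ ^ 4 ∈ S.π.ker := by rw [MonoidHom.mem_ker, map_pow, hc₀, hq4]
    exact congrArg Subtype.val (pow_card_eq_one' (x := (⟨c₀ ^ 4, this⟩ : S.π.ker)))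
  set c : centralizer ({S.z} : Set H) := c₀ ^ k with hc
  have hsq : (c : H) * c = S.z := by
    have ho := odd_ker hV S h1
    rw [← Subgroup.orderOf_coe] at ho
    have hcz : Commute ((c : H) * c) S.z := (mem_cent.1 c.2).mul_left (mem_cent.1 c.2)
    have h2 : (c : H) * c * S.z = 1 := CfsgLib.Involutions.sq_odd_eq_one (by
      rw [sq, hcz.symm.mul_mul_mul_comm, z_sq hV S, mul_one]
      have := congrArg (fun y : centralizer ({S.z} : Set H) => (y : H)) h4
      simpa [pow_succ, mul_assoc] using this) ho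
    exact (mul_eq_one_iff_eq_inv.1 h2).trans (v_inv hV S.mem)
  refine ⟨hsq, ?_⟩
  refine orderOf_eq_prime_pow (p := 2) (n := 1) ?_ ?_
  · rw [pow_one, sq, hsq]
    exact z_ne_one hV S
  · show (c : H) ^ 4 = 1
    rw [← SubgroupClass.coe_pow, h4, OneMemClass.coe_one]

theorem mem_ker_iff (c : centralizer ({S.z} : Set H)) : S.π c = 1 ↔ InO S.z (c : H) := by
  constructor
  · intro hc
    refine ⟨by rw [Subgroup.orderOf_coe]; exact odd_ker hV S hc, mem_cent.1 c.2, fun q hq ho => ?_⟩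
    set q' : centralizer ({S.z} : Set H) := ⟨q, mem_cent.2 hq⟩
    have h4 : q' ^ 4 = 1 := Subtype.ext (by
      show q ^ 4 = 1
      rw [← ho, pow_orderOf_eq_one])
    have hne : (S.π q' * S.π q').val ≠ 1 := by
      intro h
      have h1 := odd_ker hV S (c := q' * q') (by rw [map_mul]; exact Units.ext h)
      have h2 : orderOf (q' * q') = 2 := by
        rw [← sq, orderOf_pow' _ two_ne_zero, Subgroup.orderOf_mk, ho]
        rfl
      rw [h2] at h1
      exact absurd h1 (by decide)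
    have h44 : ((S.π q' * S.π q') * (S.π q' * S.π q')).val = 1 := by
      rw [← map_mul, ← map_mul, show q' * q' * (q' * q') = q' ^ 4 by simp [pow_succ, mul_assoc], h4, map_one]
      rfl
    have hd := det_of_four _ (GL23.mem_els _) (invol_of_four _ (GL23.mem_els _) h44 hne)
    have := S.inner q' c (MonoidHom.mem_ker.2 hc) hd
    exact (mul_inv_eq_iff_eq_mul.1 (congrArg Subtype.val this : q * (c : H) * q⁻¹ = c)).symm
  · rintro ⟨ho, hcz, hq⟩
    rw [Subgroup.orderOf_coe] at ho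
    by_contra hne
    obtain ⟨q, -, hqq, hgq⟩ := exists_noncommuting _ (GL23.mem_els (S.π c))
      (fun h => hne (Units.ext h)) (congrArg Units.val (odd_pi hV S ho))
    obtain ⟨d, hd, -, hd4⟩ := exists_lift hV S hqq
    have hcd : Commute c d := Subtype.ext (hq d (mem_cent.1 d.2) hd4).eq
    have hc := hcd.map S.π
    refine hgq ?_
    rcases hd with h | h <;> rw [h] at hc
    · exact congrArg Units.val hc.eq
    · exact congrArg Units.val (Commute.inv_right_iff.1 hc).eq

theorem mem_O_iff {x : H} : x ∈ S.O ↔ InO S.z x := by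
  constructor
  · rintro ⟨c, hc, rfl⟩
    exact (mem_ker_iff hV S c).1 hc
  · intro h
    exact ⟨⟨x, mem_cent.2 h.2.1⟩, (mem_ker_iff hV S _).2 h, rfl⟩

theorem det_eq_one_comm {c a : H} (hc : Commute c S.z) (ha : InO S.z a)
    (hd : GL23.det (S.π ⟨c, mem_cent.2 hc⟩) = 1) : Commute c a := by
  have := S.inner ⟨c, mem_cent.2 hc⟩ ⟨a, mem_cent.2 ha.2.1⟩
    (MonoidHom.mem_ker.2 ((mem_ker_iff hV S _).2 ha)) hd
  exact mul_inv_eq_iff_eq_mul.1 (congrArg Subtype.val this : c * a * c⁻¹ = a)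

/-- Elements of odd order of the centraliser centralise the odd core. -/
theorem odd_comm {c a : H} (hc : Commute c S.z) (ho : Odd (orderOf c)) (ha : InO S.z a) :
    Commute c a :=
  det_eq_one_comm hV S hc ha (det_of_odd hV S (by rw [Subgroup.orderOf_mk]; exact ho))

theorem four_comm {c a : H} (hc : Commute c S.z) (ho : orderOf c = 4) (ha : InO S.z a) :
    Commute c a :=
  (ha.2.2 c hc ho).symm

theorem pi_noncentral {w : H} (hw : w ∈ V) (hw1 : w ≠ 1) (hwz : w ≠ S.z) :
    (S.π ⟨w, mem_cent.2 (v_comm hV hw S.mem)⟩).val ≠ 1 ∧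
      (S.π ⟨w, mem_cent.2 (v_comm hV hw S.mem)⟩).val ≠ !![2, 0; 0, 2] ∧
      ((S.π ⟨w, mem_cent.2 (v_comm hV hw S.mem)⟩) * (S.π ⟨w, mem_cent.2 (v_comm hV hw S.mem)⟩)).val
        = 1 := by
  refine ⟨fun h => ?_, fun h => ?_, ?_⟩
  · rcases eq_of_pi hV S (v_sq hV hw) (v_comm hV hw S.mem) (Or.inl h) with h' | h'
    · exact hw1 h'
    · exact hwz h'
  · rcases eq_of_pi hV S (v_sq hV hw) (v_comm hV hw S.mem) (Or.inr h) with h' | h'
    · exact hw1 h'
    · exact hwz h'
  · rw [← map_mul, show (⟨w, _⟩ * ⟨w, _⟩ : centralizer ({S.z} : Set H)) = 1 from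
      Subtype.ext (v_sq hV hw), map_one]
    rfl

theorem det_four {w : H} (hw : w ∈ V) (hw1 : w ≠ 1) (hwz : w ≠ S.z) :
    GL23.det (S.π ⟨w, mem_cent.2 (v_comm hV hw S.mem)⟩) ≠ 1 :=
  let ⟨h1, h2, h3⟩ := pi_noncentral hV S hw hw1 hwz
  det_invol _ (GL23.mem_els _) h1 h2 h3

theorem inverts_O {w a : H} (hw : w ∈ V) (hw1 : w ≠ 1) (hwz : w ≠ S.z) (ha : InO S.z a) :
    w * a * w⁻¹ = a⁻¹ :=
  congrArg Subtype.val (S.outer ⟨w, mem_cent.2 (v_comm hV hw S.mem)⟩ ⟨a, mem_cent.2 ha.2.1⟩
    (MonoidHom.mem_ker.2 ((mem_ker_iff hV S _).2 ha)) (det_four hV S hw hw1 hwz))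

theorem O_comm {a b : H} (ha : InO S.z a) (hb : InO S.z b) : Commute a b :=
  odd_comm hV S ha.2.1 ha.1 hb

/-- The element of order four exchanging the other two involutions. -/
theorem exists_swap' {w : H} (hw : w ∈ V) (hw1 : w ≠ 1) (hwz : w ≠ S.z) :
    ∃ n : H, Commute n S.z ∧ n * n = S.z ∧ orderOf n = 4 ∧ n * w * n⁻¹ = w * S.z := by
  obtain ⟨h1, h2, h3⟩ := pi_noncentral hV S hw hw1 hwz
  obtain ⟨q, -, hqq, hconj⟩ := exists_swap _ (GL23.mem_els _) h1 h2 h3
  obtain ⟨c, hc, hcc, hc4⟩ := exists_lift hV S hqq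
  set w' : centralizer ({S.z} : Set H) := ⟨w, mem_cent.2 (v_comm hV hw S.mem)⟩ with hw'
  set z' : centralizer ({S.z} : Set H) := ⟨S.z, mem_cent.2 (Commute.refl _)⟩ with hz'
  have hqz : S.π z' = q * q := Units.ext ((pi_z hV S).trans hqq.symm)
  have hcen : ∀ y : centralizer ({S.z} : Set H), Commute z' y := fun y =>
    Subtype.ext (mem_cent.1 y.2).eq.symm
  have hk : S.π (c * w' * c⁻¹) = S.π (w' * z') := by
    have e : q * S.π w' * q⁻¹ = S.π w' * (q * q) := Units.ext (by rw [hconj, mul_assoc])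
    rcases hc with h | h
    · rw [map_mul, map_mul, map_inv, h, e, map_mul, hqz]
    · have hcomm : Commute (q * q) (S.π w') := hqz ▸ (hcen w').map S.π
      rw [map_mul, map_mul, map_inv, h, inv_inv, map_mul, hqz]
      calc q⁻¹ * S.π w' * q = q⁻¹ * (S.π w' * (q * q)) * q⁻¹ := by group
        _ = q⁻¹ * ((q * q) * S.π w') * q⁻¹ := by rw [hcomm.eq]
        _ = q * S.π w' * q⁻¹ := by group
        _ = S.π w' * (q * q) := e
  set o : H := (w * S.z)⁻¹ * ((c : H) * w * (c : H)⁻¹) with ho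
  have hoO : InO S.z o := by
    refine (mem_ker_iff hV S ((w' * z')⁻¹ * (c * w' * c⁻¹))).1 ?_
    rw [map_mul, map_inv, hk, inv_mul_cancel]
  have hco : Commute (c : H) o := four_comm hV S (mem_cent.1 c.2) hc4 hoO
  have hwo := inverts_O hV S hw hw1 hwz hoO
  have e1 : (c : H) * w * (c : H)⁻¹ = w * S.z * o := by rw [ho]; group
  have hcw : Commute ((c : H) * c) w := by rw [hcc]; exact v_comm hV S.mem hw
  have hcz : (c : H) * S.z * (c : H)⁻¹ = S.z := by
    rw [(mem_cent.1 c.2).eq]; group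
  have e2 : w = w * o * o := by
    calc w = ((c : H) * c) * w * ((c : H) * c)⁻¹ := by rw [hcw.eq]; group
      _ = ((c : H) * ((c : H) * w * (c : H)⁻¹) * (c : H)⁻¹) := by group
      _ = ((c : H) * w * (c : H)⁻¹) * ((c : H) * S.z * (c : H)⁻¹) * ((c : H) * o * (c : H)⁻¹) := by
        conv_lhs => rw [e1]
        group
      _ = (w * S.z * o) * S.z * o := by rw [e1, hcz, hco.eq, mul_inv_cancel_right]
      _ = w * o * o := by
        rw [show w * S.z * o * S.z * o = w * (S.z * (o * S.z)) * o by group, hoO.2.1.eq,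
          ← mul_assoc S.z, z_sq hV S, one_mul]
  have ho1 : o = 1 := CfsgLib.Involutions.sq_odd_eq_one
    (mul_left_cancel (a := w) (by rw [sq, ← mul_assoc, ← e2, mul_one])) hoO.1
  refine ⟨c, mem_cent.1 c.2, hcc, hc4, ?_⟩
  rw [e1, ho1, mul_one]

/-- An odd subgroup of the centraliser containing `d` and a conjugate of it by a square root of
`z` consists of core elements. -/
theorem inO_of_mem {n : H} (hn : Commute n S.z) (hnn : n * n = S.z) {D : Subgroup H}
    (hD : Odd (Nat.card D)) (hDC : ∀ d ∈ D, Commute d S.z) {d : H} (hd : d ∈ D)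
    (hnd : n * d * n⁻¹ ∈ D) : InO S.z d := by
  set n' : centralizer ({S.z} : Set H) := ⟨n, mem_cent.2 hn⟩ with hn'
  set d' : centralizer ({S.z} : Set H) := ⟨d, mem_cent.2 (hDC d hd)⟩ with hd'
  have hodd : ∀ y : centralizer ({S.z} : Set H), (y : H) ∈ D → (S.π y ^ 3).val = 1 := fun y hy =>
    congrArg Units.val (odd_pi hV S (by rw [← Subgroup.orderOf_coe]; exact odd_order_of_mem hD hy))
  refine (mem_ker_iff hV S d').1 (Units.ext (not_normalized _ (GL23.mem_els (S.π n')) ?_ _
    (GL23.mem_els (S.π d')) (hodd d' hd) ?_ ?_))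
  · rw [← map_mul, show n' * n' = ⟨S.z, mem_cent.2 (Commute.refl _)⟩ from Subtype.ext hnn, pi_z hV S]
  · have := hodd (d' * (n' * d' * n'⁻¹)) (D.mul_mem hd hnd)
    simpa only [map_mul, map_inv] using this
  · have := hodd (d' * (n' * d' * n'⁻¹)⁻¹) (D.mul_mem hd (D.inv_mem hnd))
    simpa only [map_mul, map_inv] using this

/-- The data at every involution of `V`. -/
theorem exists_at (S : SDCent H V) {v : H} (hv : v ∈ V) (hv1 : v ≠ 1) :
    ∃ S' : SDCent H V, S'.z = v := by
  obtain ⟨c, hc⟩ := isConj_iff.1 (S.conj v (v_order hV hv hv1))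
  let f : centralizer ({v} : Set H) →* centralizer ({S.z} : Set H) :=
    { toFun := fun h => ⟨c⁻¹ * h * c, mem_cent.2 (by
        have h1 := (mem_cent.1 h.2).map (MulAut.conj c⁻¹)
        simp only [MulAut.conj_apply] at h1
        rw [inv_inv] at h1
        rwa [show c⁻¹ * v * c = S.z by rw [← hc]; group] at h1)⟩
      map_one' := Subtype.ext (by simp)
      map_mul' := fun a b => Subtype.ext (by simp [mul_assoc]) }
  have hf : Function.Bijective f := by
    refine ⟨fun a b h => Subtype.ext ?_, fun y => ⟨⟨c * y * c⁻¹, mem_cent.2 ?_⟩, Subtype.ext ?_⟩⟩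
    · simpa [f] using congrArg Subtype.val h
    · have h1 := (mem_cent.1 y.2).map (MulAut.conj c)
      simp only [MulAut.conj_apply] at h1
      rwa [hc] at h1
    · show c⁻¹ * (c * (y : H) * c⁻¹) * c = y
      group
  refine ⟨{ z := v
            ord := v_order hV hv hv1
            mem := hv
            conj := fun w hw => ((S.conj v (v_order hV hv hv1)).symm).trans (S.conj w hw)
            sylow := S.sylow
            π := S.π.comp f
            surj := S.surj.comp hf.2
            kerOdd := ?_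
            inner := fun a o ho hd => hf.1 (by
              rw [map_mul, map_mul, map_inv]
              exact S.inner (f a) (f o) (MonoidHom.mem_ker.2 ho) hd)
            outer := fun a o ho hd => hf.1 (by
              rw [map_mul, map_mul, map_inv, map_inv]
              exact S.outer (f a) (f o) (MonoidHom.mem_ker.2 ho) hd) }, rfl⟩
  rw [Nat.card_congr (Equiv.subtypeEquiv (Equiv.ofBijective f hf) fun a => ?_ :
    (S.π.comp f).ker ≃ S.π.ker)]
  · exact S.kerOdd
  · exact Iff.rfl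

/-- The only involution of `C(z)` centralising an element `b ≠ 1` of odd order is `z`. -/
theorem cent_invol {b : H} (hb : Commute b S.z) (ho : Odd (orderOf b)) (h1 : b ≠ 1) {w : H}
    (hw : w * w = 1) (hwb : Commute w b) (hwz : Commute w S.z) : w = 1 ∨ w = S.z := by
  refine eq_of_pi hV S hw hwz ?_
  set w' : centralizer ({S.z} : Set H) := ⟨w, mem_cent.2 hwz⟩
  have hw2 : (S.π w' * S.π w').val = 1 := by
    rw [← map_mul, show w' * w' = 1 from Subtype.ext hw, map_one]; rfl
  by_cases hbO : InO S.z b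
  · by_cases hd : GL23.det (S.π w') = 1
    · exact det_one_invol _ (GL23.mem_els _) hd hw2
    · exfalso
      have h := congrArg Subtype.val (S.outer w' ⟨b, mem_cent.2 hb⟩
        (MonoidHom.mem_ker.2 ((mem_ker_iff hV S _).2 hbO)) hd)
      change w * b * w⁻¹ = b⁻¹ at h
      rw [hwb.eq, mul_inv_cancel_right] at h
      exact h1 (CfsgLib.Involutions.sq_odd_eq_one (by rw [sq]; exact eq_inv_iff_mul_eq_one.1 h) ho)
  · refine cent_cube _ (GL23.mem_els (S.π ⟨b, mem_cent.2 hb⟩))
      (fun h => hbO ((mem_ker_iff hV S _).1 (Units.ext h)))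
      (congrArg Units.val (odd_pi hV S (by rw [Subgroup.orderOf_mk]; exact ho))) _ (GL23.mem_els _)
      hw2 ?_
    exact congrArg Units.val ((show Commute (⟨b, mem_cent.2 hb⟩ : centralizer ({S.z} : Set H)) w'
      from Subtype.ext hwb.eq.symm).map S.π).eq

theorem isolated {b : H} (hb : Commute b S.z) (ho : Odd (orderOf b)) (h1 : b ≠ 1) :
    Cfsg.IsIsolatedInvolution (⟨S.z, mem_cent.2 hb.symm⟩ : centralizer ({b} : Set H)) := by
  refine ⟨by rw [Subgroup.orderOf_mk, S.ord], fun g hc => Subtype.ext ?_⟩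
  set w : H := (g : H) * S.z * (g : H)⁻¹ with hw
  have hwz : Commute w S.z := (hc.map (centralizer ({b} : Set H)).subtype).symm
  have hwb : Commute w b := mem_cent.1 (mul_mem (mul_mem g.2 (mem_cent.2 hb.symm)) (inv_mem g.2))
  have hw2 : w * w = 1 := by rw [hw, ← sq, conj_pow, sq, z_sq hV S, mul_one, mul_inv_cancel]
  rcases cent_invol hV S hb ho h1 hw2 hwb hwz with h | h
  · exfalso
    exact z_ne_one hV S (conj_eq_one_iff.1 h)
  · exact h

theorem mem_K_inv {b : H} (hb : Commute b S.z) (ho : Odd (orderOf b)) (h1 : b ≠ 1) {x : H}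
    (hxb : Commute x b) (hxo : Odd (orderOf x)) (hinv : S.z * x * S.z⁻¹ = x⁻¹) : x ∈ K b := by
  have h := CfsgLib.Involutions.ZStar.centralModCore (isolated hV S hb ho h1) ⟨x, mem_cent.2 hxb⟩
  have h2 : (x⁻¹) ^ 2 ∈ K b := by
    refine ⟨_, h, ?_⟩
    show S.z * x * S.z⁻¹ * x⁻¹ = x⁻¹ ^ 2
    rw [hinv, sq]
  rw [inv_pow, inv_mem_iff] at h2
  obtain ⟨k, hk⟩ := hxo
  have := (K b).pow_mem h2 (k + 1)
  rwa [← pow_mul, show 2 * (k + 1) = orderOf x + 1 by omega, pow_succ, pow_orderOf_eq_one,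
    one_mul] at this

theorem exists_mul {b g : H} (hb : Commute b S.z) (ho : Odd (orderOf b)) (h1 : b ≠ 1)
    (hg : Commute g b) : ∃ a ∈ K b, ∃ c : H, Commute c S.z ∧ Commute c b ∧ g = a * c := by
  obtain ⟨a, ha, c, hc, hgac⟩ :=
    CfsgLib.Involutions.ZStar.exists_mul_centralizer (isolated hV S hb ho h1) ⟨g, mem_cent.2 hg⟩
  refine ⟨a, Subgroup.mem_map_of_mem _ ha, c, ?_, mem_cent.1 c.2, congrArg Subtype.val hgac⟩
  exact congrArg Subtype.val (Subgroup.mem_centralizer_singleton_iff.1 hc)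

theorem mem_K_O {b : H} (hb : Commute b S.z) (ho : Odd (orderOf b)) (h1 : b ≠ 1) {x : H}
    (hx : InO S.z x) (hxb : Commute x b) : x ∈ K b := by
  set X : Subgroup H := S.O ⊓ centralizer ({b} : Set H) with hX
  have hKC := K_le b
  have hXodd : Odd (Nat.card X) := by
    refine Odd.of_dvd_nat ?_ (Subgroup.card_dvd_of_le (inf_le_left : X ≤ S.O))
    rw [SDCent.O, Subgroup.card_map_of_injective (Subgroup.subtype_injective _)]
    exact S.kerOdd
  have hXK : X ≤ normalizer (K b : Set H) :=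
    inf_le_right.trans (CfsgLib.Base.le_normalizer_map_pPrimeCore _)
  suffices h : K b ⊔ X ≤ K b from h (mem_sup_right ⟨(mem_O_iff hV S).2 hx, mem_cent.2 hxb⟩)
  refine CfsgLib.Base.le_map_pPrimeCore (sup_le hKC inf_le_right) ?_ ?_
  · intro g hg
    obtain ⟨a, ha, c, hcz, hcb, rfl⟩ := exists_mul hV S hb ho h1 (mem_cent.1 hg)
    refine mul_mem (Subgroup.le_normalizer (mem_sup_left ha)) ?_
    rw [Subgroup.mem_normalizer_iff']
    have hcK := CfsgLib.Base.le_normalizer_map_pPrimeCore (p := 2) _ (mem_cent.2 hcb)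
    have hcX : ∀ y ∈ X, ∀ d : H, Commute d S.z → Commute d b → d * y * d⁻¹ ∈ X := fun y hy d hd hdb =>
      ⟨(mem_O_iff hV S).2 (by
          have := ((mem_O_iff hV S).1 hy.1).conj d
          rwa [hd.eq, mul_inv_cancel_right] at this),
        mem_cent.2 (((hdb.mul_left (mem_cent.1 hy.2))).mul_left hdb.inv_left)⟩
    have hmap : ∀ d : H, Commute d S.z → Commute d b →
        (K b ⊔ X).map (MulAut.conj d).toMonoidHom ≤ K b ⊔ X := fun d hd hdb => by
      rw [Subgroup.map_sup]
      refine sup_le_sup ?_ ?_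
      · rintro _ ⟨y, hy, rfl⟩
        exact (Subgroup.mem_normalizer_iff.1
          (CfsgLib.Base.le_normalizer_map_pPrimeCore (p := 2) _ (mem_cent.2 hdb)) y).1 hy
      · rintro _ ⟨y, hy, rfl⟩
        exact hcX y hy d hd hdb
    intro y
    constructor
    · intro h
      have := hmap c hcz hcb (Subgroup.mem_map_of_mem _ h)
      simpa [MulAut.conj_apply, mul_assoc] using this
    · intro h
      have := hmap c⁻¹ hcz.inv_left hcb.inv_left (Subgroup.mem_map_of_mem _ h)
      simpa [MulAut.conj_apply, mul_assoc] using this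
  · refine Nat.coprime_two_right.2 (Odd.of_dvd_nat ((odd_K b).mul hXodd) ?_)
    rw [sup_comm, mul_comm]
    exact CfsgLib.Coprime.card_sup_dvd hXK

end Cent

end CfsgLib.Subdeg3.TI
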