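import Cfsg.Agent.Lib.Subdeg3.TIBasic

/-!
# The core of an involution centraliser is a trivial intersection set (S3686, P4)

Odd subgroups normalised by `V` have a unique invariant Sylow subgroup.  An element of odd order
outside the core of `C(u)` cannot centralise the `3`-part of the core of `C(z)` (`key`), so the
cores of two commuting involutions have no commuting nontrivial elements (`g_one`) and
`C(a) ≤ C(z)` for every nontrivial `a` in the core of `C(z)` (`cent_le`).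
-/

set_option autoImplicit false
set_option linter.unusedSectionVars false
set_option linter.style.haveILetI false

namespace CfsgLib.Subdeg3.TI

open Subgroup CfsgLib.Small

universe u

variable {H : Type u} [Group H] [Finite H] {V : Subgroup H}

theorem eq_sq_pow {x : H} (hx : Odd (orderOf x)) : ∃ k : ℕ, x = (x ^ 2) ^ k := by
  obtain ⟨k, hk⟩ := hx
  exact ⟨k + 1, by
    rw [← pow_mul, show 2 * (k + 1) = orderOf x + 1 by omega, pow_succ, pow_orderOf_eq_one, one_mul]⟩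

theorem commute_of_sq {x y : H} (hx : Odd (orderOf x)) (h : Commute (x ^ 2) y) : Commute x y := by
  obtain ⟨k, hk⟩ := eq_sq_pow hx
  rw [hk]
  exact h.pow_left k

theorem odd_card_of_odd_order {X : Subgroup H} (h : ∀ x ∈ X, Odd (orderOf x)) :
    Odd (Nat.card X) := by
  by_contra hn
  haveI : Fact (Nat.Prime 2) := ⟨Nat.prime_two⟩
  obtain ⟨x, hx⟩ := exists_prime_orderOf_dvd_card' (G := X) 2
    (even_iff_two_dvd.1 (Nat.not_odd_iff_even.1 hn))
  have := h x x.2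
  rw [Subgroup.orderOf_coe, hx] at this
  exact absurd this (by decide)

theorem InO.inv {v x : H} (h : InO v x) : InO v x⁻¹ :=
  ⟨by rw [orderOf_inv]; exact h.1, h.2.1.inv_left, fun q hq ho => (h.2.2 q hq ho).inv_left⟩

theorem InO.pow {v x : H} (h : InO v x) (k : ℕ) : InO v (x ^ k) :=
  ⟨h.1.of_dvd_nat (orderOf_pow_dvd k), h.2.1.pow_left k, fun q hq ho => (h.2.2 q hq ho).pow_left k⟩

theorem isPGroup_zpowers {p : ℕ} {x : H} {k : ℕ} (h : x ^ p ^ k = 1) :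
    IsPGroup p (zpowers x) := fun y => ⟨k, Subtype.ext (by
  obtain ⟨m, hm⟩ := mem_zpowers_iff.1 y.2
  rw [SubgroupClass.coe_pow, ← hm, ← zpow_natCast, ← zpow_mul, mul_comm, zpow_mul, zpow_natCast, h,
    one_zpow]
  rfl)⟩

section

variable (hV : Setup H V)
include hV

theorem le_normalizer_of_conj_mem {X : Subgroup H} (h : ∀ y ∈ V, ∀ x ∈ X, y * x * y⁻¹ ∈ X) :
    V ≤ normalizer (X : Set H) := by
  intro y hy
  rw [Subgroup.mem_normalizer_iff]
  refine fun x => ⟨h y hy x, fun hx => ?_⟩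
  have h2 := h y hy _ hx
  rw [show y * (y * x * y⁻¹) * y⁻¹ = (y * y) * x * (y * y)⁻¹ by group, v_sq hV hy] at h2
  simpa using h2

theorem conj_cases {v w x : H} (hv : v ∈ V) (hw : w ∈ V) (hv1 : v ≠ 1) (hw1 : w ≠ 1) (hvw : v ≠ w)
    (hxv : Commute x v) (hinv : w * x * w⁻¹ = x⁻¹) :
    ∀ y ∈ V, y * x * y⁻¹ = x ∨ y * x * y⁻¹ = x⁻¹ := by
  intro y hy
  rcases v_cases hV hv hw hy hv1 hw1 hvw with rfl | rfl | rfl | rfl
  · exact Or.inl (by group)
  · exact Or.inl (by rw [hxv.symm.eq, mul_inv_cancel_right])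
  · exact Or.inr hinv
  · refine Or.inr ?_
    rw [show v * w * x * (v * w)⁻¹ = v * (w * x * w⁻¹) * v⁻¹ by group, hinv, hxv.inv_left.symm.eq,
      mul_inv_cancel_right]

theorem le_normalizer_K {b : H} (h : ∀ y ∈ V, y * b * y⁻¹ = b ∨ y * b * y⁻¹ = b⁻¹) :
    V ≤ normalizer (K b : Set H) := by
  refine le_normalizer_of_conj_mem hV fun y hy x hx => ?_
  have := K_conj y b hx
  rcases h y hy with h | h <;> rw [h] at this
  · exact this
  · rwa [K_inv] at this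

theorem le_normalizer_cent {v : H} (hv : v ∈ V) : V ≤ normalizer (centralizer ({v} : Set H) : Set H) := by
  refine le_normalizer_of_conj_mem hV fun y hy x hx => mem_cent.2 ?_
  exact ((v_comm hV hy hv).mul_left (mem_cent.1 hx)).mul_left (v_comm hV hy hv).inv_left

theorem le_normalizer_zpowers {x : H} (h : ∀ y ∈ V, y * x * y⁻¹ = x ∨ y * x * y⁻¹ = x⁻¹) :
    V ≤ normalizer (zpowers x : Set H) := by
  refine le_normalizer_of_conj_mem hV fun y hy w hw => ?_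
  obtain ⟨k, rfl⟩ := mem_zpowers_iff.1 hw
  rw [← conj_zpow]
  rcases h y hy with h | h <;> rw [h]
  · exact hw
  · rw [inv_zpow]
    exact inv_mem hw

theorem card_coprime {X : Subgroup H} (hX : Odd (Nat.card X)) : (Nat.card V).Coprime (Nat.card X) := by
  rw [hV.four.card_four, show (4 : ℕ) = 2 ^ 2 from rfl]
  exact ((Nat.coprime_two_left.2 hX)).pow_left 2

theorem solvable_V : Group.IsSolvable V := by
  haveI := hV.four
  exact Group.isSolvable_of_comm fun a b => (IsKleinFour.isMulCommutative (G := V)).is_comm.comm a b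

/-- The invariant Sylow subgroup of an odd subgroup normalised by `V`. -/
theorem exists_syl {X : Subgroup H} (hX : Odd (Nat.card X)) (hn : V ≤ normalizer (X : Set H))
    (p : ℕ) [Fact p.Prime] :
    ∃ U : Subgroup H, U ≤ X ∧ IsPGroup p U ∧ V ≤ normalizer (U : Set H) ∧
      ∀ Y : Subgroup H, Y ≤ X → IsPGroup p Y → V ≤ normalizer (Y : Set H) → Y ≤ U := by
  have hcop := card_coprime hV hX
  obtain ⟨P, hP⟩ := CfsgLib.Coprime.exists_invariant_sylow (p := p) hn hcop (Or.inl (solvable_V hV))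
  refine ⟨(P : Subgroup X).map X.subtype, Subgroup.map_subtype_le _, P.2.map _, hP,
    fun Y hY hYp hYn => ?_⟩
  obtain ⟨Q, hYQ, hQ⟩ := CfsgLib.Coprime.exists_invariant_sylow_ge hn hcop
    (Or.inl (solvable_V hV)) hY hYp hYn
  obtain ⟨c, hc, hcPQ⟩ := CfsgLib.Coprime.invariant_sylow_conj hn hcop (Or.inl (solvable_V hV)) P Q hP hQ
  rw [hV.cent] at hc
  have hc1 : (c : H) = 1 := CfsgLib.Involutions.sq_odd_eq_one (by rw [sq, v_sq hV hc])
    (odd_order_of_mem hX c.2)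
  rw [show c = 1 from Subtype.ext hc1, map_one, one_smul] at hcPQ
  rwa [hcPQ]

theorem mem_of_syl {X U : Subgroup H} {p : ℕ}
    (hU : ∀ Y : Subgroup H, Y ≤ X → IsPGroup p Y → V ≤ normalizer (Y : Set H) → Y ≤ U) {x : H}
    (hxX : x ∈ X) {k : ℕ} (hk : x ^ p ^ k = 1)
    (h : ∀ y ∈ V, y * x * y⁻¹ = x ∨ y * x * y⁻¹ = x⁻¹) : x ∈ U :=
  hU _ (zpowers_le.2 hxX) (isPGroup_zpowers hk) (le_normalizer_zpowers hV h) (mem_zpowers x)

theorem not_isCyclic_V : ¬ IsCyclic V := by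
  haveI := hV.four
  exact IsKleinFour.not_isCyclic

/-- If all fixed points of the nontrivial elements of `V` on an odd subgroup lie in `R`, so does it. -/
theorem le_of_fixed {X R : Subgroup H} (hX : Odd (Nat.card X)) (hn : V ≤ normalizer (X : Set H))
    (h : ∀ y ∈ V, y ≠ 1 → ∀ x ∈ X, Commute x y → x ∈ R) : X ≤ R := by
  haveI := hV.four
  haveI : IsMulCommutative V := IsKleinFour.isMulCommutative
  exact CfsgLib.Coprime.le_of_centralizer_le_of_not_isCyclic (not_isCyclic_V hV) hn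
    (card_coprime hV hX) fun a ha ha1 x hx => h a ha ha1 x hx.1 (mem_cent.1 hx.2)

/-- In a `p`-group normalised by `V` but not centralised by `v` some element inverted by `v`
centralises the fixed points of `v`. -/
theorem layer {p : ℕ} [Fact p.Prime] {U : Subgroup H} (hUo : Odd (Nat.card U))
    (hU : IsPGroup p U) (hn : V ≤ normalizer (U : Set H)) {v : H} (hv : v ∈ V) (hv1 : v ≠ 1)
    {x₀ : H} (hx₀ : x₀ ∈ U) (hx₀v : ¬ Commute x₀ v) :
    ∃ w ∈ V, w ≠ 1 ∧ w ≠ v ∧ ∃ e ∈ U, e ≠ 1 ∧ Commute e w ∧ v * e * v⁻¹ = e⁻¹ ∧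
      ∀ y ∈ U, Commute y v → Commute e y := by
  set P : Subgroup H := U ⊓ centralizer ({v} : Set H) with hP
  set N : Subgroup H := U ⊓ normalizer (P : Set H) with hN
  have hVP : V ≤ normalizer (P : Set H) :=
    CfsgLib.Coprime.le_normalizer_inf_inf hn (le_normalizer_cent hV hv)
  have hVN : V ≤ normalizer (N : Set H) :=
    CfsgLib.Coprime.le_normalizer_inf_inf hn (hVP.trans Subgroup.le_normalizer)
  obtain ⟨y, hyU, hyn, hyP⟩ : ∃ y ∈ U, y ∈ normalizer (P : Set H) ∧ y ∉ P := by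
    haveI : Group.IsNilpotent U := hU.isNilpotent
    have hlt : P.subgroupOf U < ⊤ := lt_top_iff_ne_top.2 fun h =>
      hx₀v (mem_cent.1 (Subgroup.subgroupOf_eq_top.1 h hx₀).2)
    obtain ⟨y, hy, hyP⟩ := SetLike.exists_of_lt (Group.normalizerCondition_of_isNilpotent _ hlt)
    rw [← Subgroup.subgroupOf_normalizer_eq inf_le_left, Subgroup.mem_subgroupOf] at hy
    exact ⟨y, y.2, hy, fun h => hyP (Subgroup.mem_subgroupOf.2 h)⟩
  by_contra hcon
  push Not at hcon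
  refine hyP (le_of_fixed hV (hUo.of_dvd_nat (Subgroup.card_dvd_of_le inf_le_left)) hVN ?_
    (⟨hyU, hyn⟩ : y ∈ N))
  intro w hw hw1 e he hew
  by_cases hwv : w = v
  · subst hwv
    exact ⟨he.1, mem_cent.2 hew⟩
  by_cases he1 : e = 1
  · rw [he1]; exact one_mem _
  exfalso
  have hinv : v * e * v⁻¹ = e⁻¹ :=
    inv_of_cent hV hw hv hw1 hv1 hwv hUo (hn hv) he.1 hew
  obtain ⟨y, hyU, hyv, hey⟩ := hcon w hw hw1 hwv e he.1 he1 hew hinv
  refine hey (commute_of_sq (odd_order_of_mem hUo he.1) ?_)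
  have h1 : Commute (e * y * e⁻¹) v :=
    mem_cent.1 ((Subgroup.mem_normalizer_iff.1 he.2 y).1 ⟨hyU, mem_cent.2 hyv⟩).2
  have h2 : e⁻¹ * y * e = e * y * e⁻¹ := by
    calc e⁻¹ * y * e = (v * e * v⁻¹) * (v * y * v⁻¹) * (v * e * v⁻¹)⁻¹ := by
          rw [hinv, hyv.symm.eq, mul_inv_cancel_right, inv_inv]
      _ = v * (e * y * e⁻¹) * v⁻¹ := by group
      _ = e * y * e⁻¹ := by rw [h1.symm.eq, mul_inv_cancel_right]
  show e ^ 2 * y = y * e ^ 2
  calc e ^ 2 * y = e * (e * y * e⁻¹) * e := by rw [sq]; group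
    _ = e * (e⁻¹ * y * e) * e := by rw [h2]
    _ = y * e ^ 2 := by rw [sq]; group

variable (S₀ : SDCent H V)
include S₀

/-- An element of order four at `v` exchanging the other two involutions of `V`. -/
theorem exists_move {v w : H} (hv : v ∈ V) (hw : w ∈ V) (hv1 : v ≠ 1) (hw1 : w ≠ 1) (hvw : w ≠ v) :
    ∃ n : H, Commute n v ∧ n * n = v ∧ orderOf n = 4 ∧ n * w * n⁻¹ = w * v ∧
      n * (w * v) * n⁻¹ = w ∧ ∀ y ∈ V, n⁻¹ * y * n ∈ V := by
  obtain ⟨S, rfl⟩ := exists_at hV S₀ hv hv1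
  obtain ⟨n, h1, h2, h3, h4⟩ := exists_swap' hV S hw hw1 hvw
  have h5 : n * (w * S.z) * n⁻¹ = w := by
    calc n * (w * S.z) * n⁻¹ = (n * w * n⁻¹) * (n * S.z * n⁻¹) := by group
      _ = w := by rw [h4, h1.eq, mul_inv_cancel_right, mul_assoc, z_sq hV S, mul_one]
  refine ⟨n, h1, h2, h3, h4, h5, fun y hy => ?_⟩
  rcases v_cases hV hv hw hy hv1 hw1 hvw.symm with rfl | rfl | rfl | rfl
  · simp
  · rw [mul_assoc, h1.symm.eq, inv_mul_cancel_left]; exact hv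
  · rw [show n⁻¹ * y * n = n⁻¹ * (n * (y * S.z) * n⁻¹) * n by rw [h5],
      show n⁻¹ * (n * (y * S.z) * n⁻¹) * n = y * S.z by group]
    exact V.mul_mem hw hv
  · rw [show S.z * w = w * S.z from (v_comm hV hv hw).eq, show n⁻¹ * (w * S.z) * n = w by
      rw [← h4]; group]
    exact hw

/-- A `p`-element of the core of `C(v)` centralising those of another `w` is trivial. -/
theorem wp {p : ℕ} {v w : H} (hv : v ∈ V) (hw : w ∈ V) (hv1 : v ≠ 1) (hw1 : w ≠ 1) (hvw : w ≠ v)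
    {a : H} (ha : InO v a) {k : ℕ} (hk : a ^ p ^ k = 1)
    (h : ∀ b, InO w b → ∀ l, b ^ p ^ l = 1 → Commute a b) : a = 1 := by
  obtain ⟨n, hn1, -, hn4, hnw, -, -⟩ := exists_move hV S₀ hv hw hv1 hw1 hvw
  have hna : Commute n a := (ha.2.2 n hn1 hn4).symm
  set A : Set H := {x | ∃ y ∈ V, y ≠ 1 ∧ InO y x ∧ (∃ l, x ^ p ^ l = 1) ∧
    ∀ y' ∈ V, y' ≠ 1 → ∀ b, InO y' b → (∃ l, b ^ p ^ l = 1) → Commute x b} with hA
  have haA : a ∈ A := by
    refine ⟨v, hv, hv1, ha, ⟨k, hk⟩, fun y hy hy1 b hb ⟨l, hl⟩ => ?_⟩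
    rcases v_cases hV hv hw hy hv1 hw1 hvw.symm with rfl | rfl | rfl | rfl
    · exact absurd rfl hy1
    · obtain ⟨S, rfl⟩ := exists_at hV S₀ hv hv1
      exact O_comm hV S ha hb
    · exact h b hb l hl
    · have hb' : InO w (n⁻¹ * b * n) := by
        have := hb.conj n⁻¹
        rwa [inv_inv, show n⁻¹ * (v * w) * n = w by
          rw [show v * w = w * v from (v_comm hV hv hw).eq, ← hnw]; group] at this
      have hc := h _ hb' l (by
        rw [show n⁻¹ * b * n = n⁻¹ * b * n⁻¹⁻¹ by group, conj_pow, hl]; group)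
      have := hc.map (MulAut.conj n)
      simp only [MulAut.conj_apply] at this
      rwa [hna.eq, mul_inv_cancel_right, show n * (n⁻¹ * b * n) * n⁻¹ = b by group] at this
  set W : Subgroup H := Subgroup.closure A with hW
  have hcomm : ∀ x ∈ W, ∀ y ∈ W, Commute x y := by
    have h1 : A ⊆ (centralizer A : Set H) := fun x hx y hy => by
      obtain ⟨_, hx1, hx2, hx3, hx4, hx5⟩ := hx
      obtain ⟨_, hy1, hy2, hy3, hy4, hy5⟩ := hy
      exact (hy5 _ hx1 hx2 x hx3 hx4).eq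
    have h2 : W ≤ centralizer A := (Subgroup.closure_le _).2 h1
    have h3 : A ⊆ (centralizer (W : Set H) : Set H) := fun x hx y hy =>
      ((Subgroup.mem_centralizer_iff.1 (h2 hy)) x hx).symm
    intro x hx y hy
    exact ((Subgroup.mem_centralizer_iff.1 ((Subgroup.closure_le _).2 h3 hx)) y hy).symm
  have hodd : Odd (Nat.card W) := by
    refine odd_card_of_odd_order fun x hx => ?_
    induction hx using Subgroup.closure_induction with
    | mem x hx => obtain ⟨_, _, _, hxO, _, _⟩ := hx; exact hxO.1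
    | one => simp
    | mul x y hx hy ox oy =>
      exact (ox.mul oy).of_dvd_nat
        ((hcomm x hx y hy).orderOf_mul_dvd_lcm.trans (Nat.lcm_dvd_mul _ _))
    | inv x _ ox => rwa [orderOf_inv]
  have hinv : ∀ φ : MulAut H, V.map φ.toMonoidHom = V → W.map φ.toMonoidHom = W := by
    intro φ hφ
    have hmemV : ∀ y, φ y ∈ V → y ∈ V := fun y hy => by
      rw [← hφ] at hy
      obtain ⟨y', hy', he⟩ := hy
      rwa [← φ.injective (show φ y' = φ y from he)]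
    refine Subgroup.eq_of_le_of_card_ge ?_ (by rw [Subgroup.card_map_of_injective φ.injective])
    rw [hW, MonoidHom.map_closure]
    refine Subgroup.closure_mono ?_
    rintro _ ⟨x, ⟨y, hy, hy1, hxy, ⟨l, hl⟩, hall⟩, rfl⟩
    refine ⟨φ y, hφ ▸ Subgroup.mem_map_of_mem φ.toMonoidHom hy, by simpa using hy1, hxy.map φ,
      ⟨l, by show (φ x) ^ p ^ l = 1; rw [← map_pow, hl, map_one]⟩, ?_⟩
    intro y' hy' hy'1 b hb ⟨m, hm⟩
    obtain ⟨y₀, rfl⟩ := φ.surjective y'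
    obtain ⟨b₀, rfl⟩ := φ.surjective b
    refine (hall y₀ (hmemV _ hy') (fun h => hy'1 (by rw [h, map_one])) b₀ ?_ ⟨m, ?_⟩).map φ
    · simpa using hb.map φ.symm
    · exact φ.injective (by rw [map_pow, hm, map_one])
  have := Subgroup.subset_closure (k := A) haA
  rw [← hW, hV.noW W hodd hinv] at this
  exact Subgroup.mem_bot.1 this

/-- An element of odd order of `C(u)` outside the core, inverted by `z`, does not centralise the
`3`-part of the core of `C(z)`, unless that is trivial. -/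
theorem key {z w : H} (hz : z ∈ V) (hw : w ∈ V) (hz1 : z ≠ 1) (hw1 : w ≠ 1) (hwz : w ≠ z)
    {g : H} (hg : Commute g w) (hgo : Odd (orderOf g)) (hgO : ¬ InO w g)
    (hgi : z * g * z⁻¹ = g⁻¹) (hcomm : ∀ a, InO z a → ∀ l, a ^ 3 ^ l = 1 → Commute g a)
    {a₀ : H} (ha₀ : InO z a₀) {l₀ : ℕ} (hl₀ : a₀ ^ 3 ^ l₀ = 1) (ha₀1 : a₀ ≠ 1) : False := by
  haveI : Fact (Nat.Prime 3) := ⟨Nat.prime_three⟩
  set v : H := z * w with hvdef
  have hv : v ∈ V := V.mul_mem hz hw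
  have hv1 : v ≠ 1 := v_mul_ne_one hV hw hwz.symm
  have hzv : z ≠ v := fun h => hw1 (mul_eq_left.1 h.symm)
  have hwv : w ≠ v := fun h => hz1 (mul_eq_right.1 h.symm)
  have hzvw : z * v = w := by rw [hvdef, ← mul_assoc, v_sq hV hz, one_mul]
  obtain ⟨n, hnv, hnn, hn4, hnz, hnw, hnV⟩ := exists_move hV S₀ hv hz hv1 hz1 hzv
  rw [hzvw] at hnz hnw
  set x : H := n * g * n⁻¹ with hxdef
  have hxz : Commute x z := by
    have := hg.map (MulAut.conj n)
    simp only [MulAut.conj_apply] at this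
    rwa [hnw] at this
  have hxo : Odd (orderOf x) := by
    rw [hxdef, show n * g * n⁻¹ = MulAut.conj n g from rfl, MulEquiv.orderOf_eq]; exact hgo
  have hxi : w * x * w⁻¹ = x⁻¹ := by
    rw [← hnz, hxdef, show n * z * n⁻¹ * (n * g * n⁻¹) * (n * z * n⁻¹)⁻¹ = n * (z * g * z⁻¹) * n⁻¹
      by group, hgi]
    group
  have hvg : v * g * v⁻¹ = g⁻¹ := by
    rw [hvdef, show z * w * g * (z * w)⁻¹ = z * (w * g * w⁻¹) * z⁻¹ by group, hg.symm.eq,
      mul_inv_cancel_right, hgi]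
  have hnx : n * x * n⁻¹ = g⁻¹ := by
    rw [hxdef, show n * (n * g * n⁻¹) * n⁻¹ = (n * n) * g * (n * n)⁻¹ by group, hnn, hvg]
  have hg1 : g ≠ 1 := fun h => hgO (h ▸ ⟨by simp, Commute.one_left _, fun q _ _ => Commute.one_left _⟩)
  have hx1 : x ≠ 1 := fun h => hg1 (conj_eq_one_iff.1 h)
  obtain ⟨Sz, hSz⟩ := exists_at hV S₀ hz hz1
  obtain ⟨Sw, hSw⟩ := exists_at hV S₀ hw hw1
  obtain ⟨Sv, hSv⟩ := exists_at hV S₀ hv hv1
  subst hSz
  have haX : ∀ a, InO Sz.z a → ∀ l, a ^ 3 ^ l = 1 → a ∈ K g ⊓ K x := fun a ha l hl => by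
    refine ⟨?_, mem_K_O hV Sz hxz hxo hx1 ha (odd_comm hV Sz hxz hxo ha).symm⟩
    refine mem_K_inv hV Sw (hSw ▸ hg) hgo hg1 (hcomm a ha l hl).symm ha.1 ?_
    rw [hSw]
    exact inverts_O hV Sz hw hw1 hwz ha
  have hnX : ∀ y ∈ K g ⊓ K x, n * y * n⁻¹ ∈ K g ⊓ K x := fun y hy => by
    have h1 : n * y * n⁻¹ ∈ K x := K_conj n g hy.1
    have h2 := K_conj n x hy.2
    rw [hnx, K_inv] at h2
    exact ⟨h2, h1⟩
  have hVX : V ≤ normalizer ((K g ⊓ K x : Subgroup H) : Set H) :=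
    CfsgLib.Coprime.le_normalizer_inf_inf
      (le_normalizer_K hV (conj_cases hV hw hz hw1 hz1 hwz hg hgi))
      (le_normalizer_K hV (conj_cases hV hz hw hz1 hw1 hwz.symm hxz hxi))
  obtain ⟨U, hUX, hUp, hVU, hUmax⟩ := exists_syl hV
    ((odd_K g).of_dvd_nat (Subgroup.card_dvd_of_le inf_le_left)) hVX 3
  have hUo : Odd (Nat.card U) :=
    (odd_K g).of_dvd_nat (Subgroup.card_dvd_of_le (hUX.trans inf_le_left))
  have hnU : ∀ y ∈ U, n * y * n⁻¹ ∈ U := by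
    intro y hy
    refine hUmax (U.map (MulAut.conj n).toMonoidHom) ?_ (hUp.map _) ?_ (Subgroup.mem_map_of_mem _ hy)
    · rintro _ ⟨u', hu', rfl⟩
      exact hnX u' (hUX hu')
    · refine le_normalizer_of_conj_mem hV fun t ht w' hw' => ?_
      obtain ⟨u', hu', rfl⟩ := hw'
      exact ⟨(n⁻¹ * t * n) * u' * (n⁻¹ * t * n)⁻¹,
        (Subgroup.mem_normalizer_iff.1 (hVU (hnV t ht)) u').1 hu', by
          show n * ((n⁻¹ * t * n) * u' * (n⁻¹ * t * n)⁻¹) * n⁻¹ = t * (n * u' * n⁻¹) * t⁻¹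
          group⟩
  have haU : ∀ a, InO Sz.z a → ∀ l, a ^ 3 ^ l = 1 → a ∈ U := fun a ha l hl =>
    mem_of_syl hV hUmax (haX a ha l hl) hl
      (conj_cases hV hz hw hz1 hw1 hwz.symm ha.2.1 (inverts_O hV Sz hw hw1 hwz ha))
  have hback : ∀ b, InO w b → ∀ l, b ^ 3 ^ l = 1 →
      ∃ a, InO Sz.z a ∧ a ^ 3 ^ l = 1 ∧ b = n * a * n⁻¹ := fun b hb l hl => by
    refine ⟨n⁻¹ * b * n, ?_, ?_, by group⟩
    · have := hb.conj n⁻¹
      rwa [inv_inv, show n⁻¹ * w * n = Sz.z by rw [← hnz]; group] at this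
    · rw [show n⁻¹ * b * n = n⁻¹ * b * n⁻¹⁻¹ by group, conj_pow, hl]; group
  obtain ⟨c, hcU, hcv, hc1⟩ : ∃ c ∈ U, Commute c v ∧ c ≠ 1 := by
    by_contra hno
    push Not at hno
    refine ha₀1 (wp hV S₀ hz hw hz1 hw1 hwz ha₀ hl₀ fun b hb l hl => ?_)
    obtain ⟨a, ha, hla, rfl⟩ := hback b hb l hl
    have hinv := CfsgLib.Involutions.inverts_of_fpf U (v_order hV hv hv1)
      (fun d hd => by
        have := (Subgroup.mem_normalizer_iff.1 (hVU hv) d).1 hd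
        rwa [v_inv hV hv] at this)
      (fun d hd hdv => hno d hd (by
        show d * v = v * d
        calc d * v = v * d * v * v := by rw [hdv]
          _ = v * d := by rw [mul_assoc, v_sq hV hv, mul_one]))
    have h1 := haU a₀ ha₀ l₀ hl₀
    have h2 := hnU _ (haU a ha l hla)
    have h3 := hinv _ (U.mul_mem h1 h2)
    rw [show v * (a₀ * (n * a * n⁻¹)) * v = (v * a₀ * v) * (v * (n * a * n⁻¹) * v) by
      simp only [mul_assoc]
      rw [← mul_assoc v v, v_sq hV hv, one_mul], hinv _ h1, hinv _ h2] at h3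
    exact Commute.inv_inv_iff.1 (h3.trans (mul_inv_rev _ _))
  clear_value v
  subst hSv
  set D : Subgroup H := U ⊓ centralizer ({Sv.z} : Set H) with hD
  have hcD : c ∈ D := ⟨hcU, mem_cent.2 hcv⟩
  have hncD : n * c * n⁻¹ ∈ D := by
    refine ⟨hnU c hcU, mem_cent.2 ?_⟩
    exact (hnv.mul_left hcv).mul_left hnv.inv_left
  have hcO : InO Sv.z c := inO_of_mem hV Sv hnv hnn
    (hUo.of_dvd_nat (Subgroup.card_dvd_of_le inf_le_left)) (fun d hd => mem_cent.1 hd.2) hcD hncD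
  obtain ⟨l, hl⟩ := IsPGroup.iff_orderOf.1 hUp ⟨c, hcU⟩
  rw [Subgroup.orderOf_mk] at hl
  obtain ⟨s, hsz, hss, -, hsw, -, -⟩ := exists_move hV S₀ hz hw hz1 hw1 hwz
  have hsw' : s * w * s⁻¹ = Sv.z := by rw [hsw, hvdef]; exact (v_comm hV hw hz).eq
  have hvx : Sv.z * x * Sv.z⁻¹ = x⁻¹ := by
    rw [hvdef, show Sz.z * w * x * (Sz.z * w)⁻¹ = Sz.z * (w * x * w⁻¹) * Sz.z⁻¹ by group, hxi,
      hxz.inv_left.symm.eq, mul_inv_cancel_right]
  have hwinv : w = s⁻¹ * Sv.z * s := by rw [← hsw']; group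
  have hsv : s * Sv.z * s⁻¹ = w := by
    rw [← hsw', show s * (s * w * s⁻¹) * s⁻¹ = (s * s) * w * (s * s)⁻¹ by group, hss,
      (v_comm hV hz hw).eq, mul_inv_cancel_right]
  have hcx : Commute c x := mem_cent.1 (K_le x (hUX hcU).2)
  have hxK : x ∈ K c := mem_K_inv hV Sv hcv hcO.1 hc1 hcx.symm hxo hvx
  have hxK' : s * x * s⁻¹ ∈ K c := by
    refine mem_K_inv hV Sv hcv hcO.1 hc1 ?_ ?_ ?_
    · have hc'O : InO w (s⁻¹ * c * s) := by
        have := hcO.conj s⁻¹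
        rwa [inv_inv, ← hwinv] at this
      obtain ⟨a, ha, hla, he⟩ := hback _ hc'O l (by
        rw [show s⁻¹ * c * s = s⁻¹ * c * s⁻¹⁻¹ by group, conj_pow, ← hl, pow_orderOf_eq_one]; group)
      have h1 : Commute x (s⁻¹ * c * s) := by
        rw [he]
        exact (hcomm a ha l hla).map (MulAut.conj n)
      have h2 := h1.map (MulAut.conj s)
      simp only [MulAut.conj_apply] at h2
      rwa [show s * (s⁻¹ * c * s) * s⁻¹ = c by group] at h2
    · rw [show s * x * s⁻¹ = MulAut.conj s x from rfl, MulEquiv.orderOf_eq]; exact hxo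
    · calc Sv.z * (s * x * s⁻¹) * Sv.z⁻¹ = s * ((s⁻¹ * Sv.z * s) * x * (s⁻¹ * Sv.z * s)⁻¹) * s⁻¹ := by
            group
        _ = s * x⁻¹ * s⁻¹ := by rw [← hwinv, hxi]
        _ = (s * x * s⁻¹)⁻¹ := by group
  have hxO : InO Sz.z x := inO_of_mem hV Sz hsz hss (D := K c ⊓ centralizer ({Sz.z} : Set H))
    ((odd_K c).of_dvd_nat (Subgroup.card_dvd_of_le inf_le_left)) (fun d hd => mem_cent.1 hd.2)
    ⟨hxK, mem_cent.2 hxz⟩ ⟨hxK', mem_cent.2 ((hsz.mul_left hxz).mul_left hsz.inv_left)⟩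
  have := hxO.conj n
  rw [hnz, hnx] at this
  exact hgO (by simpa using this.inv)

/-- Nontrivial elements of the cores of two commuting involutions do not commute. -/
theorem g_one {z w : H} (hz : z ∈ V) (hw : w ∈ V) (hz1 : z ≠ 1) (hw1 : w ≠ 1) (hwz : w ≠ z)
    {a b : H} (ha : InO z a) (hb : InO w b) (ha1 : a ≠ 1) (hb1 : b ≠ 1) (hab : Commute a b) :
    False := by
  classical
  obtain ⟨Sz, hSz⟩ := exists_at hV S₀ hz hz1
  obtain ⟨Sw, hSw⟩ := exists_at hV S₀ hw hw1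
  subst hSz
  subst hSw
  obtain ⟨p, hp, hpd⟩ := Nat.exists_prime_and_dvd (fun h => ha1 (orderOf_eq_one_iff.1 h))
  haveI := Fact.mk hp
  obtain ⟨a', ha'def⟩ : ∃ a', a' = a ^ (orderOf a / p) := ⟨_, rfl⟩
  have ha'p : orderOf a' = p := ha'def ▸ orderOf_pow_orderOf_div (orderOf_pos a).ne' hpd
  have ha'O : InO Sz.z a' := ha'def ▸ ha.pow _
  have ha'b : Commute a' b := ha'def ▸ hab.pow_left _
  have ha'1 : a' ≠ 1 := fun h => hp.ne_one (by rw [← ha'p, h, orderOf_one])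
  set v : H := Sz.z * Sw.z with hvdef
  have hv : v ∈ V := V.mul_mem hz hw
  have hv1 : v ≠ 1 := v_mul_ne_one hV hw hwz.symm
  have hzv : Sz.z ≠ v := fun h => hw1 (mul_eq_left.1 h.symm)
  have hinvb : Sz.z * b * Sz.z⁻¹ = b⁻¹ := inverts_O hV Sw hz hz1 hwz.symm hb
  obtain ⟨U, hUX, hUp, hVU, hUmax⟩ := exists_syl hV (odd_K b)
    (le_normalizer_K hV (conj_cases hV hw hz hw1 hz1 hwz hb.2.1 hinvb)) p
  have hUo : Odd (Nat.card U) := (odd_K b).of_dvd_nat (Subgroup.card_dvd_of_le hUX)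
  have hinva : Sw.z * a' * Sw.z⁻¹ = a'⁻¹ := inverts_O hV Sz hw hw1 hwz ha'O
  have haU : a' ∈ U := mem_of_syl hV hUmax (k := 1)
    (mem_K_inv hV Sw hb.2.1 hb.1 hb1 ha'b ha'O.1 hinva)
    (by rw [pow_one, ← ha'p, pow_orderOf_eq_one])
    (conj_cases hV hz hw hz1 hw1 hwz.symm ha'O.2.1 hinva)
  have hbU : ∀ b', InO Sw.z b' → ∀ l, b' ^ p ^ l = 1 → b' ∈ U := fun b' hb' l hl =>
    mem_of_syl hV hUmax (mem_K_O hV Sw hb.2.1 hb.1 hb1 hb' (O_comm hV Sw hb' hb)) hl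
      (conj_cases hV hw hz hw1 hz1 hwz hb'.2.1 (inverts_O hV Sw hz hz1 hwz.symm hb'))
  have final : ∀ e : H, Commute e Sz.z → Sw.z * e * Sw.z⁻¹ = e⁻¹ → Odd (orderOf e) → e ≠ 1 →
      ∀ k, e ^ p ^ k = 1 →
      (∀ b', InO Sw.z b' → ∀ l, b' ^ p ^ l = 1 → Commute e b') → False := by
    intro e hez hei heo he1 k hk hcm
    by_cases heO : InO Sz.z e
    · exact he1 (wp hV S₀ hz hw hz1 hw1 hwz heO hk hcm)
    have hp3 : p = 3 := by
      by_contra hne
      refine heO ((mem_ker_iff hV Sz ⟨e, mem_cent.2 hez⟩).1 ?_)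
      have h3 := odd_pi hV Sz (c := ⟨e, mem_cent.2 hez⟩) (by rw [Subgroup.orderOf_mk]; exact heo)
      have hpk : (Sz.π ⟨e, mem_cent.2 hez⟩) ^ p ^ k = 1 := by
        rw [← map_pow, show (⟨e, mem_cent.2 hez⟩ : centralizer ({Sz.z} : Set H)) ^ p ^ k = 1 from
          Subtype.ext hk, map_one]
      have := pow_gcd_eq_one.2 ⟨hpk, h3⟩
      rwa [(((Nat.coprime_primes hp Nat.prime_three).2 hne).pow_left k).gcd_eq_one, pow_one] at this
    obtain ⟨m, hm1, -, -, hmz, -, -⟩ := exists_move hV S₀ hv hz hv1 hz1 hzv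
    have ha₀ : InO Sw.z (m * a' * m⁻¹) := by
      have := ha'O.conj m
      rwa [hmz, hvdef, ← mul_assoc, v_sq hV hz, one_mul] at this
    subst hp3
    refine key hV S₀ hw hz hw1 hz1 hwz.symm hez heo heO hei hcm ha₀ (l₀ := 1) ?_
      (fun h => ha'1 (conj_eq_one_iff.1 h))
    rw [conj_pow, pow_one, ← ha'p, pow_orderOf_eq_one]
    group
  obtain ⟨w', hw', hw'1, hw'w, e, heU, he1, hew', hei, hey⟩ := layer hV hUo hUp hVU hw hw1 haU
    (fun h => ha'1 (eq_one_of_cent hV hz hw hz1 hw1 hwz.symm ha'O.1 ha'O.2.1 h))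
  obtain ⟨k, hk⟩ := IsPGroup.iff_orderOf.1 hUp ⟨e, heU⟩
  rw [Subgroup.orderOf_mk] at hk
  have hek : e ^ p ^ k = 1 := by rw [← hk, pow_orderOf_eq_one]
  have hcm : ∀ b', InO Sw.z b' → ∀ l, b' ^ p ^ l = 1 → Commute e b' := fun b' hb' l hl =>
    hey b' (hbU b' hb' l hl) hb'.2.1
  rcases v_cases hV hz hw hw' hz1 hw1 hwz.symm with h | h | h | h
  · exact hw'1 h
  · exact final e (h ▸ hew') hei (odd_order_of_mem hUo heU) he1 k hek hcm
  · exact hw'w h
  · obtain ⟨n, hn1, -, hn4, -, hn5, -⟩ := exists_move hV S₀ hw hz hw1 hz1 hwz.symm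
    refine final (n * e * n⁻¹) ?_ ?_ ?_ (fun h => he1 (conj_eq_one_iff.1 h)) k
      (by rw [conj_pow, hek]; group) fun b' hb' l hl => ?_
    · have := hew'.map (MulAut.conj n)
      simp only [MulAut.conj_apply] at this
      rwa [h, hn5] at this
    · have hnz : Sw.z = n * Sw.z * n⁻¹ := by rw [hn1.eq, mul_inv_cancel_right]
      conv_lhs => rw [hnz]
      rw [show n * Sw.z * n⁻¹ * (n * e * n⁻¹) * (n * Sw.z * n⁻¹)⁻¹ =
        n * (Sw.z * e * Sw.z⁻¹) * n⁻¹ by group, hei]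
      group
    · rw [show n * e * n⁻¹ = MulAut.conj n e from rfl, MulEquiv.orderOf_eq]
      exact odd_order_of_mem hUo heU
    · have hnb : Commute n b' := four_comm hV Sw hn1 hn4 hb'
      exact (hnb.mul_left (hcm b' hb' l hl)).mul_left hnb.inv_left

/-- The centraliser of a nontrivial element of the core of `C(z)` lies in `C(z)`. -/
theorem cent_le {z : H} (hz : z ∈ V) (hz1 : z ≠ 1) {a : H} (ha : InO z a) (ha1 : a ≠ 1) {c : H}
    (hc : Commute c a) : Commute c z := by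
  classical
  obtain ⟨Sz, hSz⟩ := exists_at hV S₀ hz hz1
  subst hSz
  suffices hK : K a ≤ centralizer ({Sz.z} : Set H) by
    obtain ⟨k, hk, d, hd, -, rfl⟩ := exists_mul hV Sz ha.2.1 ha.1 ha1 hc
    exact (mem_cent.1 (hK hk)).mul_left hd
  obtain ⟨w₀, hw₀, hw₀1, hw₀z⟩ : ∃ w₀ ∈ V, w₀ ≠ 1 ∧ w₀ ≠ Sz.z := by
    by_contra hno
    push Not at hno
    haveI := hV.four
    refine not_isCyclic_V hV ⟨⟨Sz.z, hz⟩, fun y => ?_⟩
    by_cases hy : (y : H) = 1
    · exact ⟨0, Subtype.ext (by simp [hy])⟩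
    · exact ⟨1, Subtype.ext (by simp [hno y y.2 hy])⟩
  have hcases := conj_cases hV hz hw₀ hz1 hw₀1 hw₀z.symm ha.2.1 (inverts_O hV Sz hw₀ hw₀1 hw₀z ha)
  have hVK := le_normalizer_K hV hcases
  refine le_of_fixed hV (odd_K a) hVK fun w hw hw1 e he hew => mem_cent.2 ?_
  by_cases hwz : w = Sz.z
  · exact hwz ▸ hew
  suffices he1 : e = 1 by rw [he1]; exact Commute.one_left _
  have hea : Commute e a := mem_cent.1 (K_le a he)
  have heo : Odd (orderOf e) := odd_order_of_mem (odd_K a) he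
  have hei : Sz.z * e * Sz.z⁻¹ = e⁻¹ := inv_of_cent hV hw hz hw1 hz1 hwz (odd_K a) (hVK hz) he hew
  obtain ⟨Sw, hSw⟩ := exists_at hV S₀ hw hw1
  subst hSw
  have hcube : ∀ y : H, Commute y Sw.z → Odd (orderOf y) → InO Sw.z (y ^ 3) := fun y hy ho =>
    (mem_ker_iff hV Sw (⟨y, mem_cent.2 hy⟩ ^ 3)).1 (by
      rw [map_pow]; exact odd_pi hV Sw (by rw [Subgroup.orderOf_mk]; exact ho))
  by_contra he1
  have he3 : e ^ 3 = 1 := by
    by_contra h3
    exact g_one hV S₀ hz hw hz1 hw1 hwz ha (hcube e hew heo) ha1 h3 (hea.symm.pow_right 3)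
  have heO : ¬ InO Sw.z e := fun h => g_one hV S₀ hz hw hz1 hw1 hwz ha h ha1 he1 hea.symm
  obtain ⟨q, hq, hqd⟩ := Nat.exists_prime_and_dvd (fun h => ha1 (orderOf_eq_one_iff.1 h))
  haveI := Fact.mk hq
  obtain ⟨a', ha'def⟩ : ∃ a', a' = a ^ (orderOf a / q) := ⟨_, rfl⟩
  have ha'q : orderOf a' = q := ha'def ▸ orderOf_pow_orderOf_div (orderOf_pos a).ne' hqd
  have ha'O : InO Sz.z a' := ha'def ▸ ha.pow _
  have hea' : Commute e a' := ha'def ▸ hea.pow_right _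
  have ha'1 : a' ≠ 1 := fun h => hq.ne_one (by rw [← ha'q, h, orderOf_one])
  have ha'inv : ∀ y ∈ V, y ≠ 1 → y ≠ Sz.z → y * a' * y⁻¹ = a'⁻¹ := fun y hy hy1 hyz =>
    inverts_O hV Sz hy hy1 hyz ha'O
  have ha'cases := conj_cases hV hz hw hz1 hw1 (Ne.symm hwz) ha'O.2.1 (ha'inv _ hw hw1 hwz)
  by_cases hq3 : q = 3
  · subst hq3
    obtain ⟨U, hUX, hUp, hVU, hUmax⟩ := exists_syl hV (odd_K a') (le_normalizer_K hV ha'cases) 3
    have hUo : Odd (Nat.card U) := (odd_K a').of_dvd_nat (Subgroup.card_dvd_of_le hUX)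
    have heU : e ∈ U := mem_of_syl hV hUmax (k := 1)
      (mem_K_inv hV Sz ha'O.2.1 ha'O.1 ha'1 hea' heo hei) (by rw [pow_one, he3])
      (conj_cases hV hw hz hw1 hz1 hwz hew hei)
    obtain ⟨w', hw', hw'1, hw'z, e₂, he₂U, he₂1, he₂w, he₂i, he₂c⟩ :=
      layer hV hUo hUp hVU hz hz1 heU
        (fun h => he1 (eq_one_of_cent hV hz hw hz1 hw1 (Ne.symm hwz) heo h hew))
    have hcm : ∀ b, InO Sz.z b → ∀ l, b ^ 3 ^ l = 1 → Commute e₂ b := fun b hb l hl =>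
      he₂c b (mem_of_syl hV hUmax (mem_K_O hV Sz ha'O.2.1 ha'O.1 ha'1 hb (O_comm hV Sz hb ha'O)) hl
        (conj_cases hV hz hw hz1 hw1 (Ne.symm hwz) hb.2.1 (inverts_O hV Sz hw hw1 hwz hb))) hb.2.1
    have ha'3 : a' ^ 3 ^ 1 = 1 := by rw [pow_one, ← ha'q, pow_orderOf_eq_one]
    by_cases h2 : InO w' e₂
    · exact g_one hV S₀ hz hw' hz1 hw'1 hw'z ha'O h2 ha'1 he₂1 (hcm a' ha'O 1 ha'3).symm
    · exact key hV S₀ hz hw' hz1 hw'1 hw'z he₂w (odd_order_of_mem hUo he₂U) h2 he₂i hcm ha'O ha'3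
        ha'1
  · obtain ⟨U, hUX, hUp, hVU, hUmax⟩ := exists_syl hV (odd_K e)
      (le_normalizer_K hV (conj_cases hV hw hz hw1 hz1 hwz hew hei)) q
    have hUo : Odd (Nat.card U) := (odd_K e).of_dvd_nat (Subgroup.card_dvd_of_le hUX)
    set v : H := Sz.z * Sw.z with hvdef
    have hv : v ∈ V := V.mul_mem hz hw
    have hv1 : v ≠ 1 := v_mul_ne_one hV hw (Ne.symm hwz)
    have hzv : Sz.z ≠ v := fun h => hw1 (mul_eq_left.1 h.symm)
    obtain ⟨n, -, -, -, hnz, -, -⟩ := exists_move hV S₀ hv hz hv1 hz1 hzv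
    set b : H := n * a' * n⁻¹ with hbdef
    have hbO : InO Sw.z b := by
      have := ha'O.conj n
      rwa [hnz, hvdef, ← mul_assoc, v_sq hV hz, one_mul] at this
    have hb1 : b ≠ 1 := fun h => ha'1 (conj_eq_one_iff.1 h)
    have haq : a' ^ q ^ 1 = 1 := by rw [pow_one, ← ha'q, pow_orderOf_eq_one]
    have haU : a' ∈ U := mem_of_syl hV hUmax
      (mem_K_inv hV Sw hew heo he1 hea'.symm ha'O.1 (ha'inv _ hw hw1 hwz)) haq ha'cases
    have hbU : b ∈ U := mem_of_syl hV hUmax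
      (mem_K_O hV Sw hew heo he1 hbO (odd_comm hV Sw hew heo hbO).symm)
      (k := 1) (by rw [hbdef, conj_pow, haq]; group)
      (conj_cases hV hw hz hw1 hz1 hwz hbO.2.1 (inverts_O hV Sw hz hz1 (Ne.symm hwz) hbO))
    obtain ⟨w', hw', hw'1, hw'z, e₂, he₂U, he₂1, he₂w, -, he₂c⟩ :=
      layer hV hUo hUp hVU hz hz1 hbU
        (fun h => hb1 (eq_one_of_cent hV hz hw hz1 hw1 (Ne.symm hwz) hbO.1 h hbO.2.1))
    obtain ⟨Sw', hSw'⟩ := exists_at hV S₀ hw' hw'1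
    subst hSw'
    obtain ⟨k, hk⟩ := IsPGroup.iff_orderOf.1 hUp ⟨e₂, he₂U⟩
    rw [Subgroup.orderOf_mk] at hk
    have h2 : InO Sw'.z e₂ := (mem_ker_iff hV Sw' ⟨e₂, mem_cent.2 he₂w⟩).1 (by
      have h3 := odd_pi hV Sw' (c := ⟨e₂, mem_cent.2 he₂w⟩)
        (by rw [Subgroup.orderOf_mk]; exact odd_order_of_mem hUo he₂U)
      have hpk : (Sw'.π ⟨e₂, mem_cent.2 he₂w⟩) ^ q ^ k = 1 := by
        rw [← map_pow, show (⟨e₂, mem_cent.2 he₂w⟩ : centralizer ({Sw'.z} : Set H)) ^ q ^ k = 1 from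
          Subtype.ext (by show e₂ ^ q ^ k = 1; rw [← hk, pow_orderOf_eq_one]), map_one]
      have := pow_gcd_eq_one.2 ⟨hpk, h3⟩
      rwa [(((Nat.coprime_primes hq Nat.prime_three).2 hq3).pow_left k).gcd_eq_one, pow_one] at this)
    exact g_one hV S₀ hz hw' hz1 hw'1 hw'z ha'O h2 ha'1 he₂1 (he₂c a' haU ha'O.2.1).symm

/-- If the core has order divisible by three, the centraliser of an element of odd order of `C(z)`
inverted by `u` lies in `C(z)`. -/
theorem cent_le_three {z w₀ : H} (hz : z ∈ V) (hw₀ : w₀ ∈ V) (hz1 : z ≠ 1) (hw₀1 : w₀ ≠ 1)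
    (hw₀z : w₀ ≠ z) {a₀ : H} (ha₀ : InO z a₀) {l₀ : ℕ} (hl₀ : a₀ ^ 3 ^ l₀ = 1) (ha₀1 : a₀ ≠ 1)
    {t : H} (htz : Commute t z) (hto : Odd (orderOf t)) (ht1 : t ≠ 1)
    (hti : w₀ * t * w₀⁻¹ = t⁻¹) {c : H} (hc : Commute c t) : Commute c z := by
  classical
  haveI : Fact (Nat.Prime 3) := ⟨Nat.prime_three⟩
  obtain ⟨Sz, hSz⟩ := exists_at hV S₀ hz hz1
  subst hSz
  suffices hK : K t ≤ centralizer ({Sz.z} : Set H) by
    obtain ⟨k, hk, d, hd, -, rfl⟩ := exists_mul hV Sz htz hto ht1 hc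
    exact (mem_cent.1 (hK hk)).mul_left hd
  have hVK := le_normalizer_K hV (conj_cases hV hz hw₀ hz1 hw₀1 hw₀z.symm htz hti)
  refine le_of_fixed hV (odd_K t) hVK fun w hw hw1 e he hew => mem_cent.2 ?_
  by_cases hwz : w = Sz.z
  · exact hwz ▸ hew
  suffices he1 : e = 1 by rw [he1]; exact Commute.one_left _
  have het : Commute e t := mem_cent.1 (K_le t he)
  have heo : Odd (orderOf e) := odd_order_of_mem (odd_K t) he
  have hei : Sz.z * e * Sz.z⁻¹ = e⁻¹ := inv_of_cent hV hw hz hw1 hz1 hwz (odd_K t) (hVK hz) he hew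
  obtain ⟨Sw, hSw⟩ := exists_at hV S₀ hw hw1
  subst hSw
  by_contra he1
  have he3 : e ^ 3 = 1 := by
    by_contra h3
    have hO : InO Sw.z (e ^ 3) := (mem_ker_iff hV Sw (⟨e, mem_cent.2 hew⟩ ^ 3)).1 (by
      rw [map_pow]; exact odd_pi hV Sw (by rw [Subgroup.orderOf_mk]; exact heo))
    exact ht1 (eq_one_of_cent hV hz hw hz1 hw1 (Ne.symm hwz) hto htz
      (cent_le hV S₀ hw hw1 hO h3 (het.symm.pow_right 3)))
  obtain ⟨U, hUX, hUp, hVU, hUmax⟩ := exists_syl hV (odd_K t) hVK 3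
  have hUo : Odd (Nat.card U) := (odd_K t).of_dvd_nat (Subgroup.card_dvd_of_le hUX)
  have heU : e ∈ U := mem_of_syl hV hUmax (k := 1) he (by rw [pow_one, he3])
    (conj_cases hV hw hz hw1 hz1 hwz hew hei)
  have haU : a₀ ∈ U := mem_of_syl hV hUmax
    (mem_K_O hV Sz htz hto ht1 ha₀ (odd_comm hV Sz htz hto ha₀).symm) hl₀
    (conj_cases hV hz hw₀ hz1 hw₀1 hw₀z.symm ha₀.2.1 (inverts_O hV Sz hw₀ hw₀1 hw₀z ha₀))
  obtain ⟨w', hw', hw'1, hw'z, e₂, he₂U, he₂1, he₂w, -, he₂c⟩ :=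
    layer hV hUo hUp hVU hz hz1 heU
      (fun h => he1 (eq_one_of_cent hV hz hw hz1 hw1 (Ne.symm hwz) heo h hew))
  exact he₂1 (eq_one_of_cent hV hz hw' hz1 hw'1 (Ne.symm hw'z) (odd_order_of_mem hUo he₂U)
    (cent_le hV S₀ hz hz1 ha₀ ha₀1 (he₂c a₀ haU ha₀.2.1)) he₂w)

end

end CfsgLib.Subdeg3.TI
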