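import Cfsg.Agent.Lib.Subdeg3.TimesTwoLocal

/-!
# Coordinates for two conjugate stabilisers `Sym 4 × 2` meeting in a Sylow subgroup
-/

set_option autoImplicit false
set_option maxRecDepth 100000
set_option linter.unusedSectionVars false
set_option linter.style.haveILetI false

namespace CfsgLib.Subdeg3.TimesTwo

open Subgroup

universe u

variable {G : Type u} [Group G]

theorem card_comap_of_le {H : Type*} [Group H] (f : H →* G) (hf : Function.Injective f)
    {K : Subgroup G} (hK : K ≤ f.range) : Nat.card (K.comap f) = Nat.card K := by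
  have h := Nat.card_congr ((K.comap f).equivMapOfInjective f hf).toEquiv
  rwa [map_comap_eq_self hK] at h

/-- The coordinates. -/
theorem exists_cfg [Finite G] (hrad : ∀ N : Subgroup G, N.Normal → Group.IsSolvable N → N = ⊥)
    (M M' : Subgroup G) (hM : IsCoatom M)
    (hiso : Nonempty (M ≃* Equiv.Perm (Fin 4) × Multiplicative (ZMod 2)))
    (hconj : ∃ g : G, M.map (MulAut.conj g).toMonoidHom = M')
    (h16 : Nat.card (M ⊓ M' : Subgroup G) = 16) :
    ∃ (ι : X →* G) (k : G), Cfg ι k := by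
  obtain ⟨e⟩ := hiso
  obtain ⟨g, rfl⟩ := hconj
  set ι : X →* G := M.subtype.comp e.symm.toMonoidHom with hι
  have hrange : ι.range = M := by
    ext y
    exact ⟨fun ⟨x, hx⟩ => hx ▸ (e.symm x).2, fun hy => ⟨e ⟨y, hy⟩, by simp [hι]⟩⟩
  have hinj : Function.Injective ι := Subtype.val_injective.comp e.symm.injective
  have S : Stab ι := ⟨hinj, hrange ▸ hM, hrad⟩
  have hM' : ∀ y, y ∈ M.map (MulAut.conj g).toMonoidHom ↔ g⁻¹ * y * g ∈ M := fun y => by
    rw [mem_map_equiv]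
    simp [MulAut.conj_symm_apply]
  obtain ⟨h, hh⟩ := exists_conj_R0 ((M ⊓ M.map (MulAut.conj g).toMonoidHom).comap ι)
    ((card_comap_of_le ι hinj (hrange.symm ▸ inf_le_left)).trans h16)
  set g1 := ι h * g
  have hg1 : ∀ x, g1⁻¹ * ι x * g1 ∈ ι.range ↔ isR x := by
    intro x
    have e1 : g1⁻¹ * ι x * g1 = g⁻¹ * ι (h⁻¹ * x * h) * g := by
      show (ι h * g)⁻¹ * ι x * (ι h * g) = _
      rw [map_mul, map_mul, map_inv]; group
    have e2 := hh (h⁻¹ * x * h)
    rw [mem_comap, mem_inf, hM', ← e1, show h * (h⁻¹ * x * h) * h⁻¹ = x by group] at e2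
    rw [hrange, ← e2]
    exact ⟨fun hy => ⟨hrange ▸ ⟨_, rfl⟩, hy⟩, fun hy => hy.2⟩
  have hnot : g1 ∉ ι.range := by
    rintro ⟨a, ha⟩
    have hall : ∀ x, isR x := fun x => (hg1 x).1 ⟨a⁻¹ * x * a, by rw [← ha]; simp⟩
    have := Fintype.card_subtype (p := isR) (α := X)
    rw [cards.1, Finset.filter_true_of_mem fun x _ => hall x, Finset.card_univ, cards.2.2.2] at this
    omega
  have hcomm : ∀ r, isR r → (g1 * ι t0 * g1⁻¹) * ι r = ι r * (g1 * ι t0 * g1⁻¹) := by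
    intro r hr
    obtain ⟨a, ha⟩ := (hg1 r).2 hr
    have e3 : ι r = g1 * ι a * g1⁻¹ := by rw [ha]; group
    rw [e3]
    calc g1 * ι t0 * g1⁻¹ * (g1 * ι a * g1⁻¹) = g1 * ι (t0 * a) * g1⁻¹ := by rw [map_mul]; group
      _ = g1 * ι (a * t0) * g1⁻¹ := by rw [t0_central]
      _ = _ := by rw [map_mul]; group
  obtain ⟨c, hc⟩ := S.mem_range_of_comm (hcomm t0 basic.1)
  have hcR : isR c := (hg1 c).1 ⟨t0, by rw [hc]; group⟩
  have hcc : ∀ r, isR r → c * r = r * c := fun r hr =>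
    hinj (by rw [map_mul, map_mul, hc]; exact hcomm r hr)
  have ht1 : g1 * ι t0 * g1⁻¹ = ι (t0 * z0) := by
    rcases center_R c hcR hcc with rfl | rfl | rfl | rfl
    · rw [map_one, eq_comm, mul_inv_eq_one, mul_eq_left] at hc
      exact absurd hc S.t_ne
    · exact absurd (S.mem_range_of_comm (mul_inv_eq_iff_eq_mul.1 hc.symm)) hnot
    · obtain ⟨-, -, -, -, -, hs, -, hv, -, -, -, -, -, -, hz, -⟩ := basic
      obtain ⟨a, ha⟩ := (hg1 _).2 hs
      obtain ⟨b, hb⟩ := (hg1 _).2 ((subset_R _).1 hv.1).1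
      have : ι t0 = ι (a * b * a⁻¹ * b⁻¹) := by
        rw [map_mul, map_mul, map_mul, map_inv, map_inv, ha, hb]
        calc ι t0 = g1⁻¹ * (g1 * ι t0 * g1⁻¹) * g1 := by group
          _ = g1⁻¹ * ι z0 * g1 := by rw [hc]
          _ = _ := by rw [hz, map_mul, map_mul, map_mul, map_inv, map_inv]; group
      have h2 := congrArg Prod.snd (hinj this)
      simp only [Prod.snd_mul, Prod.snd_inv, mul_inv_cancel_comm, mul_inv_cancel] at h2
      exact absurd h2 (by decide +kernel)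
    · exact hc.symm
  set f : X →* G := (MulAut.conj g1).toMonoidHom.comp ι
  have hf : Function.Injective f := (MulAut.conj g1).injective.comp hinj
  have hfR : R0.map ι ≤ f.range := by
    rintro _ ⟨r, hr, rfl⟩
    obtain ⟨a, ha⟩ := (hg1 r).2 hr
    exact ⟨a, show g1 * ι a * g1⁻¹ = ι r by rw [ha]; group⟩
  obtain ⟨h', hh'⟩ := exists_conj_R0 ((R0.map ι).comap f) (by
    rw [card_comap_of_le f hf hfR, card_map_of_injective hinj, card_R0])
  set k := g1 * (ι h')⁻¹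
  have P : Pre ι k := by
    refine ⟨S, fun r hr => ?_, ?_⟩
    · have e4 : (h'⁻¹ * r * h') ∈ (R0.map ι).comap f :=
        (hh' _).2 (by rwa [show h' * (h'⁻¹ * r * h') * h'⁻¹ = r by group])
      obtain ⟨r', h1, e5⟩ := e4
      refine ⟨r', h1, ?_⟩
      rw [e5]
      show g1 * (ι h')⁻¹ * ι r * (g1 * (ι h')⁻¹)⁻¹ = g1 * ι (h'⁻¹ * r * h') * g1⁻¹
      rw [map_mul, map_mul, map_inv]; group
    · rw [← ht1]
      show g1 * (ι h')⁻¹ * ι t0 * (g1 * (ι h')⁻¹)⁻¹ = g1 * ι t0 * g1⁻¹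
      have e5 : h'⁻¹ * t0 * h' = t0 := by rw [mul_assoc, ← t0_central h', inv_mul_cancel_left]
      calc g1 * (ι h')⁻¹ * ι t0 * (g1 * (ι h')⁻¹)⁻¹ = g1 * ι (h'⁻¹ * t0 * h') * g1⁻¹ := by
            rw [map_mul, map_mul, map_inv]; group
        _ = _ := by rw [e5]
  obtain ⟨a, ha, ea⟩ := P.conjE (vp, 1) basic.2.2.2.2.2.2.2.1.1
  have hne : ∀ (x y : X), k * ι x * k⁻¹ = ι y → x ≠ (vp, 1) → a ≠ y := fun x y e5 hx h5 =>
    hx (hinj ((MulAut.conj k).injective (by
      show k * ι x * k⁻¹ = k * ι (vp, 1) * k⁻¹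
      rw [e5, ea, h5])))
  have hcase := image_cases a ha
    (hne 1 1 (by rw [map_one]; group) (by decide +kernel))
    (hne (t0 * z0) t0 P.conjTZ (by decide +kernel))
    (hne z0 z0 P.conjZ (by decide +kernel))
    (hne t0 (t0 * z0) P.conjT (by decide +kernel))
  obtain ⟨v, b, hv, ev⟩ : ∃ (v : X) (b : Multiplicative (ZMod 2)),
      isV v ∧ k * ι v * k⁻¹ = ι ((sp, b) : X) := by
    rcases hcase with h' | h'
    · exact ⟨(vp, 1), a.2, basic.2.2.2.2.2.2.2.1,
        ea.trans (congrArg ι (Prod.ext h' rfl))⟩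
    · exact ⟨(vp, 1) * z0, (a * z0).2, closed.2.2.2.1 _ _ basic.2.2.2.2.2.2.2.1 basic.2.2.2.1,
        (P.map_conj _ _ ea P.conjZ).trans (congrArg ι (Prod.ext h' rfl))⟩
  rcases (show ∀ b : Multiplicative (ZMod 2), b = 1 ∨ b = Multiplicative.ofAdd 1 by
      decide +kernel) b with rfl | rfl
  · exact ⟨ι, k, P, v, hv, ev⟩
  refine ⟨ι.comp twistEquiv.toMonoidHom, k, ⟨⟨⟨hinj.comp twistEquiv.injective, ?_, hrad⟩,
    fun r hr => ?_, ?_⟩, v, hv, ?_⟩⟩
  · rw [MonoidHom.range_comp, MonoidHom.range_eq_top.2 twistEquiv.surjective,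
      ← MonoidHom.range_eq_map]
    exact S.max
  · obtain ⟨r', h1, e5⟩ := P.conjR (twist r) ((twist_facts.1 r).2.1.2 hr)
    refine ⟨twist r', (twist_facts.1 r').2.1.2 h1, ?_⟩
    show k * ι (twist r) * k⁻¹ = ι (twist (twist r'))
    rw [(twist_facts.1 r').1, e5]
  · show k * ι (twist t0) * k⁻¹ = ι (twist (t0 * z0))
    rw [twist_mul, twist_facts.2.1, twist_facts.2.2.1]
    exact P.conjT
  · show k * ι (twist v) * k⁻¹ = ι (twist (sp, 1))
    rw [(twist_facts.1 v).2.2.2 hv, twist_facts.2.2.2]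
    exact ev

end CfsgLib.Subdeg3.TimesTwo
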