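import Cfsg.Agent.Lib.Subdeg3.Defs
import Cfsg.Agent.Lib.Subdeg3.TimesTwoBasis
import Cfsg.Agent.Lib.CharApps.Kazarin
import Cfsg.Agent.Lib.FT.OddOrderTheorem

/-!
# The stabiliser `Sym 4 × 2` reduces to a normal subgroup of index two
-/

set_option autoImplicit false
set_option maxRecDepth 100000
set_option linter.unusedSectionVars false
set_option linter.style.haveILetI false

namespace CfsgLib.Subdeg3.TimesTwo

open Subgroup

universe u

variable {G : Type u} [Group G] [Finite G]

namespace Cfg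

variable {ι : X →* G} {k : G} (C : Cfg ι k)
include C

/-- A normal subgroup containing the four-group contains `Sym 4`. -/
theorem sym_mem (K : Subgroup G) [hK : K.Normal] (hV : ∀ v, isV v → ι v ∈ K)
    (σ : Equiv.Perm (Fin 4)) : ι ((σ, 1) : X) ∈ K := by
  obtain ⟨v, hv, ev⟩ := C.conjS
  have hs : ι ((sp, 1) : X) ∈ K := ev ▸ hK.conj_mem _ (hV v hv) k
  induction σ using Equiv.Perm.swap_induction_on with
  | one => rw [show ((1, 1) : X) = 1 from rfl, map_one]; exact one_mem _
  | swap_mul f a b hab hf =>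
    obtain ⟨c, hc⟩ := isConj_iff.1 (Equiv.Perm.isConj_swap (show (0 : Fin 4) ≠ 1 by decide) hab)
    have e : ((Equiv.swap a b * f, 1) : X) = (c, 1) * (sp, 1) * ((c, 1) : X)⁻¹ * (f, 1) := by
      refine Prod.ext ?_ (by simp)
      show Equiv.swap a b * f = c * sp * c⁻¹ * f
      rw [sp, hc]
    rw [e, map_mul, map_mul, map_mul, map_inv]
    exact mul_mem (hK.conj_mem _ hs _) hf

/-- Such a subgroup and the central involution give everything. -/
theorem cover (K : Subgroup G) [hK : K.Normal] (hV : ∀ v, isV v → ι v ∈ K) (n : G) :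
    n ∈ K ∨ ι t0 * n ∈ K := by
  have hne : K ≠ ⊥ := by
    rintro rfl
    exact basic.2.2.2.2.2.2.2.2.2.1 (C.inj ((mem_bot.1 (hV z0 basic.2.2.2.1)).trans (map_one ι).symm))
  have htop : ι.range ⊔ K = ⊤ := by
    refine (C.toStab.eq_top_or_eq le_sup_left).resolve_right fun h => hne (C.rad K hK ?_)
    have := C.toStab.solvable
    exact Group.isSolvable_of_isSolvable_injective
      (inclusion_injective (h ▸ le_sup_right : K ≤ ι.range))
  have hn : n ∈ ι.range ⊔ K := htop ▸ mem_top n
  rw [← SetLike.mem_coe, mul_normal, Set.mem_mul] at hn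
  obtain ⟨_, ⟨⟨σ, a⟩, rfl⟩, y, hy, rfl⟩ := hn
  have hσ := C.sym_mem K hV σ
  rcases (show ∀ b : Multiplicative (ZMod 2), b = 1 ∨ b = Multiplicative.ofAdd 1 by
    decide +kernel) a with rfl | rfl
  · exact Or.inl (mul_mem hσ hy)
  · refine Or.inr ?_
    rw [← mul_assoc, ← map_mul, show t0 * ((σ, Multiplicative.ofAdd 1) : X) = (σ, 1) from
      Prod.ext (one_mul σ)
        (show Multiplicative.ofAdd (1 : ZMod 2) * Multiplicative.ofAdd 1 = 1 by decide +kernel)]
    exact mul_mem hσ hy

theorem card_facts (N : Subgroup G) (hN : N.index = 2) :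
    16 ∣ Nat.card N ∧ ¬ 32 ∣ Nat.card N := by
  have : Fact (Nat.Prime 2) := ⟨Nat.prime_two⟩
  obtain ⟨T, hT⟩ := C.exists_sylow
  have hodd := T.not_dvd_index
  have h1 := card_mul_index (T : Subgroup G)
  have h2 := card_mul_index N
  rw [hN] at h2
  rw [hT, C.card_tGrp, ← h2] at h1
  rw [hT] at hodd
  omega

theorem exists_index_two :
    ∃ N : Subgroup G, N.Normal ∧ N.index = 2 ∧ ∀ x : X, ι x ∈ N ↔ x.2 = 1 := by
  obtain ⟨A, _, φ, hφ⟩ := C.exists_hom
  have hV : ∀ v, isV v → ι v ∈ φ.ker := by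
    intro v hv
    obtain ⟨a, b, rfl⟩ := V_comm v hv
    simp [MonoidHom.mem_ker]
  have hsq : φ (ι t0) * φ (ι t0) = 1 := by
    rw [← map_mul, ← map_mul, basic.2.2.2.2.2.2.2.2.2.2.1, map_one, map_one]
  refine ⟨φ.ker, inferInstance, index_eq_two_iff.2 ⟨ι t0, fun b => ?_⟩, fun x => ?_⟩
  · rcases C.cover φ.ker hV b with h | h
    · refine Or.inr ⟨h, fun h' => hφ ?_⟩
      rwa [MonoidHom.mem_ker, map_mul, MonoidHom.mem_ker.1 h, one_mul] at h'
    · refine Or.inl ⟨?_, fun h' => hφ ?_⟩
      · rw [MonoidHom.mem_ker, map_mul, mul_comm, ← map_mul]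
        exact MonoidHom.mem_ker.1 h
      · rwa [MonoidHom.mem_ker, map_mul, MonoidHom.mem_ker.1 h', mul_one] at h
  · obtain ⟨σ, a⟩ := x
    have hσ := MonoidHom.mem_ker.1 (C.sym_mem φ.ker hV σ)
    rcases (show ∀ b : Multiplicative (ZMod 2), b = 1 ∨ b = Multiplicative.ofAdd 1 by
      decide +kernel) a with rfl | rfl
    · exact iff_of_true (MonoidHom.mem_ker.2 hσ) rfl
    · refine iff_of_false (fun h => hφ ?_)
        (show Multiplicative.ofAdd (1 : ZMod 2) ≠ 1 by decide +kernel)
      rw [show ((σ, Multiplicative.ofAdd 1) : X) = t0 * (σ, 1) from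
        Prod.ext (one_mul σ).symm (mul_one _).symm] at h
      rwa [MonoidHom.mem_ker, map_mul, map_mul, hσ, mul_one] at h

variable (N : Subgroup G) [N.Normal] (hι : ∀ x : X, ι x ∈ N ↔ x.2 = 1)

include hι in
theorem card_inf : Nat.card (N ⊓ ι.range : Subgroup G) = 24 := by
  let f : Equiv.Perm (Fin 4) →* G := ι.comp (MonoidHom.inl _ _)
  have hf : Function.Injective f := fun a b h => congrArg Prod.fst (C.inj h)
  have e : f.range = N ⊓ ι.range := by
    ext y
    constructor
    · rintro ⟨σ, rfl⟩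
      exact ⟨(hι _).2 rfl, ⟨_, rfl⟩⟩
    · rintro ⟨h1, ⟨σ, a⟩, rfl⟩
      have ha : a = 1 := (hι _).1 h1
      subst ha
      exact ⟨σ, rfl⟩
  rw [← e, ← Nat.card_congr (MonoidHom.ofInjective hf).toEquiv, Nat.card_eq_fintype_card,
    Fintype.card_perm, Fintype.card_fin]
  rfl

include hι in
theorem centralizer_eq_bot (hN : N.index = 2) : centralizer (N : Set G) = ⊥ := by
  have hK : (centralizer (N : Set G)).Normal := inferInstance
  have hab : (centralizer (N : Set G) ⊓ N : Subgroup G) = ⊥ :=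
    C.rad _ inferInstance (Group.isSolvable_of_comm fun a b => Subtype.ext
      ((mem_centralizer_iff.1 a.2.1 (b : G) b.2.2).symm))
  have hsub : ∀ a ∈ centralizer (N : Set G), a * a = 1 := fun a ha => by
    have h : a * a ∈ centralizer (N : Set G) ⊓ N :=
      ⟨mul_mem ha ha, mul_self_mem_of_index_two hN a⟩
    rwa [hab] at h
  refine C.rad _ hK (Group.isSolvable_of_comm fun a b => Subtype.ext ?_)
  show (a : G) * b = b * a
  exact comm_of_sq (hsub a a.2) (hsub b b.2) (hsub _ (mul_mem a.2 b.2))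

include hι in
theorem setup (hN : N.index = 2) : Setup N ((V0.map ι).subgroupOf N) := by
  have hVN : V0.map ι ≤ N := by
    rintro _ ⟨v, hv, rfl⟩
    exact (hι v).2 hv.2
  have : V0.Normal := ⟨fun v hv x => (conj_closed x v).2.1 hv⟩
  have hV0 : V0 ≠ ⊥ := fun h =>
    basic.2.2.2.2.2.2.2.2.2.1 ((eq_bot_iff_forall _).1 h z0 basic.2.2.2.1)
  have hnor := C.toStab.normalizer_map V0 hV0
  have ht : ι t0 ∉ N := fun h => absurd ((hι t0).1 h) (by decide +kernel)
  have hvmem : ∀ {v}, isV v → ι v ∈ V0.map ι := fun {v} hv => ⟨v, hv, rfl⟩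
  have hcard : Nat.card ((V0.map ι).subgroupOf N) = 4 := by
    rw [Nat.card_congr (subgroupOfEquivOfLe hVN).toEquiv, card_map_of_injective C.inj,
      show Nat.card V0 = Fintype.card {x : X // isV x} from
        (Nat.card_congr (Equiv.refl _) : Nat.card V0 = Nat.card {x : X // isV x}).trans
          Nat.card_eq_fintype_card]
    exact cards.2.2.1
  have hrad : ∀ K : Subgroup N, K.Normal → Group.IsSolvable K → K = ⊥ := by
    intro K hK hS
    set c := MulAut.conjNormal (H := N) (ι t0)
    have := hK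
    have : (K.map c.toMonoidHom).Normal := hK.map _ c.surjective
    have hS' : Group.IsSolvable (K.map c.toMonoidHom) :=
      Group.isSolvable_of_surjective (f := c.toMonoidHom.subgroupMap K)
        (c.toMonoidHom.subgroupMap_surjective K)
    set L := K ⊔ K.map c.toMonoidHom
    have hL := CfsgLib.CharApps.Kazarin.isSolvable_sup K (K.map c.toMonoidHom) hS hS'
    have hcc : ∀ y : N, c (c y) = y := fun y => Subtype.ext (by
      show ((MulAut.conjNormal (ι t0) (MulAut.conjNormal (ι t0) y) : N) : G) = y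
      rw [MulAut.conjNormal_apply, MulAut.conjNormal_apply]
      calc ι t0 * (ι t0 * (y : G) * (ι t0)⁻¹) * (ι t0)⁻¹
          = ι (t0 * t0) * y * (ι (t0 * t0))⁻¹ := by rw [map_mul]; group
        _ = y := by rw [basic.2.2.2.2.2.2.2.2.2.2.1, map_one]; group)
    have hcL : L.map c.toMonoidHom = L := by
      rw [Subgroup.map_sup, Subgroup.map_map,
        show c.toMonoidHom.comp c.toMonoidHom = MonoidHom.id N from MonoidHom.ext hcc,
        Subgroup.map_id, sup_comm]
    have hnorm : (L.map N.subtype).Normal := by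
      refine ⟨?_⟩
      rintro _ ⟨y, hy, rfl⟩ g
      have key : ∀ (n : G) (hn : n ∈ N) (y : N), y ∈ L → n * y * n⁻¹ ∈ L.map N.subtype :=
        fun n hn y hy => ⟨⟨n, hn⟩ * y * ⟨n, hn⟩⁻¹, (inferInstance : L.Normal).conj_mem y hy _, rfl⟩
      by_cases hg : g ∈ N
      · exact key g hg y hy
      · have hg' : g * ι t0 ∈ N := (mul_mem_iff_of_index_two hN).2 (iff_of_false hg ht)
        have hy' : c y ∈ L := hcL ▸ ⟨y, hy, rfl⟩
        have := key _ hg' _ hy'
        rw [show ((c y : N) : G) = ι t0 * y * (ι t0)⁻¹ from MulAut.conjNormal_apply _ _] at this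
        convert this using 1
        show g * (y : G) * g⁻¹ = _
        calc g * (y : G) * g⁻¹ = g * (ι (t0 * t0) * y * (ι (t0 * t0))⁻¹) * g⁻¹ := by
              rw [basic.2.2.2.2.2.2.2.2.2.2.1, map_one, one_mul, inv_one, mul_one]
          _ = _ := by rw [map_mul]; group
    have hbot := (L.map_eq_bot_iff_of_injective N.subtype_injective).1 (C.rad _ hnorm
      (Group.isSolvable_of_surjective (f := N.subtype.subgroupMap L)
        (N.subtype.subgroupMap_surjective L)))
    exact (eq_bot_iff.2 (hbot ▸ le_sup_left))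
  refine ⟨?_, ?_, ?_, (C.card_facts N hN).1, hrad, ?_, ?_⟩
  · haveI : Nontrivial ((V0.map ι).subgroupOf N) :=
      Finite.one_lt_card_iff_nontrivial.1 (by omega)
    refine ⟨hcard, (Monoid.exponent_eq_prime_iff Nat.prime_two).2 fun y hy =>
      orderOf_eq_prime (Subtype.ext (Subtype.ext ?_)) hy⟩
    obtain ⟨v, hv, e⟩ := y.2
    show ((y : N) : G) ^ 2 = 1
    rw [show ((y : N) : G) = ι v from e.symm, sq, ← map_mul, ((subset_R v).1 hv.1).2, map_one]
  · ext n
    rw [mem_centralizer_iff]
    constructor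
    · intro h
      have hc : ∀ v, isV v → ι v * (n : G) = n * ι v := fun v hv =>
        congrArg Subtype.val (h ⟨ι v, hVN (hvmem hv)⟩ (hvmem hv))
      have hnV : (n : G) ∈ ι.range := by
        rw [← hnor]
        refine Subgroup.centralizer_le_normalizer _ (mem_centralizer_iff.2 ?_)
        rintro _ ⟨v, hv, rfl⟩
        exact hc v hv
      obtain ⟨x, hx⟩ := hnV
      refine ⟨x, ⟨cent_V x fun v hv => C.inj ?_, (hι x).1 (hx ▸ n.2)⟩, hx⟩
      rw [map_mul, map_mul, hx, hc v hv]
    · rintro ⟨v, hv, e⟩ y ⟨w, hw, e'⟩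
      refine Subtype.ext ?_
      show (y : G) * n = n * y
      rw [show (y : G) = ι w from e'.symm, show (n : G) = ι v from e.symm, ← map_mul, ← map_mul]
      exact congrArg ι (comm_of_sq ((subset_R w).1 hw.1).2 ((subset_R v).1 hv.1).2
        ((subset_R _).1 (closed.2.2.2.1 _ _ hw hv).1).2)
  · rw [← subgroupOf_normalizer_eq hVN, hnor, ← inf_subgroupOf_right,
      Nat.card_congr (subgroupOfEquivOfLe inf_le_right).toEquiv, inf_comm]
    exact C.card_inf N hι
  · -- no invariant odd subgroup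
    intro W hodd hinv
    have hW : ∀ x : X, ι x ∈ normalizer (W.map N.subtype : Set G) := by
      intro x
      set c := MulAut.conjNormal (H := N) (ι x)
      have hVc : ((V0.map ι).subgroupOf N).map c.toMonoidHom = (V0.map ι).subgroupOf N := by
        refine eq_of_le_of_card_ge ?_ (Nat.card_congr
          (((V0.map ι).subgroupOf N).equivMapOfInjective _ c.injective).toEquiv).le
        rintro _ ⟨y, ⟨v, hv, e⟩, rfl⟩
        refine ⟨x * v * x⁻¹, (conj_closed x v).2.1 hv, ?_⟩
        show ι (x * v * x⁻¹) = ((c y : N) : G)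
        rw [MulAut.conjNormal_apply, show (y : G) = ι v from e.symm, map_mul, map_mul, map_inv]
      have hWc := hinv c hVc
      rw [mem_normalizer_iff]
      intro y
      constructor
      · rintro ⟨w, hw, rfl⟩
        refine ⟨c w, ?_, MulAut.conjNormal_apply _ _⟩
        show c w ∈ W
        rw [← hWc]
        exact ⟨w, hw, rfl⟩
      · rintro ⟨w, hw, e⟩
        obtain ⟨w', hw', ew⟩ : w ∈ W.map c.toMonoidHom := hWc.symm ▸ hw
        refine ⟨w', hw', ?_⟩
        have : ι x * (w' : G) * (ι x)⁻¹ = ι x * y * (ι x)⁻¹ := by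
          rw [← MulAut.conjNormal_apply]
          exact (congrArg Subtype.val ew).trans e
        exact mul_left_cancel (mul_right_cancel this)
    set L := W.map N.subtype
    have hcardL : Odd (Nat.card L) := by rwa [card_map_of_injective N.subtype_injective]
    refine (W.map_eq_bot_iff_of_injective N.subtype_injective).1 ?_
    rcases C.toStab.eq_top_or_eq (K := normalizer (L : Set G)) (by
      rintro _ ⟨x, rfl⟩; exact hW x) with htop | heq
    · exact C.rad L (normalizer_eq_top_iff.1 htop) (CfsgLib.FT.isSolvable_of_odd hcardL)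
    · rw [eq_bot_iff_forall]
      intro y hy
      obtain ⟨x, hx⟩ : y ∈ ι.range := heq ▸ le_normalizer hy
      have hone : ∀ w ∈ L, w * w = 1 → w = 1 := fun w hw h => by
        have h1 : orderOf (⟨w, hw⟩ : L) ∣ 2 :=
          orderOf_dvd_of_pow_eq_one (Subtype.ext (by simpa [sq] using h))
        have h2 : orderOf (⟨w, hw⟩ : L) ∣ Nat.card L := orderOf_dvd_natCard _
        rcases (Nat.dvd_prime Nat.prime_two).1 h1 with h3 | h3
        · exact congrArg Subtype.val (orderOf_eq_one_iff.1 h3)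
        · exact absurd (h3 ▸ h2) (fun h4 => Nat.not_even_iff_odd.2 hcardL (even_iff_two_dvd.2 h4))
      have hxE : isE x := by
        refine cent_V x fun v hv => ?_
        have hw : ι (x * (v * x⁻¹ * v⁻¹)) ∈ L := by
          rw [map_mul, map_mul, map_mul, map_inv, map_inv]
          refine mul_mem (hx ▸ hy) ?_
          exact (mem_normalizer_iff.1 (hW v) _).1 (inv_mem (hx ▸ hy))
        have hV' : isV (x * (v * x⁻¹ * v⁻¹)) := by
          rw [show x * (v * x⁻¹ * v⁻¹) = x * v * x⁻¹ * v⁻¹ by group]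
          exact closed.2.2.2.1 _ _ ((conj_closed x v).2.1 hv) (V0.inv_mem hv)
        have h1 := hone _ hw (by rw [← map_mul, ((subset_R _).1 hV'.1).2, map_one])
        rw [← map_one ι] at h1
        have h2 := C.inj h1
        rw [show x * (v * x⁻¹ * v⁻¹) = x * v * (v * x)⁻¹ by group] at h2
        exact mul_inv_eq_one.1 h2
      exact hone y hy (by rw [← hx, ← map_mul, ((subset_R x).1 hxE).2, map_one])
  · -- no subgroup of index two
    intro K hK
    set c := MulAut.conjNormal (H := N) (ι t0)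
    have := normal_of_index_eq_two hK
    set K' := K ⊓ K.comap c.toMonoidHom
    have hcc : ∀ y : N, c (c y) = y := fun y => Subtype.ext (by
      show ((MulAut.conjNormal (ι t0) (MulAut.conjNormal (ι t0) y) : N) : G) = y
      rw [MulAut.conjNormal_apply, MulAut.conjNormal_apply]
      calc ι t0 * (ι t0 * (y : G) * (ι t0)⁻¹) * (ι t0)⁻¹
          = ι (t0 * t0) * y * (ι (t0 * t0))⁻¹ := by rw [map_mul]; group
        _ = y := by rw [basic.2.2.2.2.2.2.2.2.2.2.1, map_one]; group)
    have : (K'.map N.subtype).Normal := ⟨by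
      rintro _ ⟨y, hy, rfl⟩ g
      have key : ∀ (n : G) (hn : n ∈ N) (y : N), y ∈ K' → n * y * n⁻¹ ∈ K'.map N.subtype :=
        fun n hn y hy => ⟨⟨n, hn⟩ * y * ⟨n, hn⟩⁻¹, (inferInstance : K'.Normal).conj_mem y hy _, rfl⟩
      by_cases hg : g ∈ N
      · exact key g hg y hy
      · have hg' : g * ι t0 ∈ N := (mul_mem_iff_of_index_two hN).2 (iff_of_false hg ht)
        have hy' : c y ∈ K' := ⟨hy.2, show c (c y) ∈ K by rw [hcc]; exact hy.1⟩
        have := key _ hg' _ hy'
        rw [show ((c y : N) : G) = ι t0 * y * (ι t0)⁻¹ from MulAut.conjNormal_apply _ _] at this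
        convert this using 1
        show g * (y : G) * g⁻¹ = _
        calc g * (y : G) * g⁻¹ = g * (ι (t0 * t0) * y * (ι (t0 * t0))⁻¹) * g⁻¹ := by
              rw [basic.2.2.2.2.2.2.2.2.2.2.1, map_one, one_mul, inv_one, mul_one]
          _ = _ := by rw [map_mul]; group⟩
    have hV : ∀ v, isV v → ι v ∈ K'.map N.subtype := by
      intro v hv
      obtain ⟨σ, rfl⟩ := V_square v hv
      refine ⟨⟨ι (σ, 1), (hι _).2 rfl⟩ * ⟨ι (σ, 1), (hι _).2 rfl⟩,
        ⟨mul_self_mem_of_index_two hK _, ?_⟩, (map_mul ι _ _).symm⟩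
      show c (_ * _) ∈ K
      rw [map_mul]
      exact mul_self_mem_of_index_two hK _
    have htop : K = ⊤ := by
      refine eq_top_iff.2 fun n _ => ?_
      rcases C.cover _ hV (n : G) with h | h
      · obtain ⟨y, hy, e⟩ := h
        exact (Subtype.ext e : y = n) ▸ hy.1
      · obtain ⟨y, -, e⟩ := h
        refine absurd ?_ ht
        have : ι t0 * (n : G) * (n : G)⁻¹ ∈ N := mul_mem (e ▸ y.2) (inv_mem n.2)
        rwa [mul_inv_cancel_right] at this
    rw [htop, index_top] at hK
    omega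

end Cfg

end CfsgLib.Subdeg3.TimesTwo

namespace CfsgLib.Subdeg3

open Subgroup TimesTwo

universe u

/-- Piece P7: the stabiliser `Sym 4 × 2` reduces to a normal subgroup of index two. -/
theorem timesTwo : StmtTimesTwo.{u} := by
  intro G _ _ hrad M M' hM _ hiso hconj h16
  obtain ⟨ι, k, C⟩ := exists_cfg hrad M M' hM hiso hconj h16
  obtain ⟨N, hNn, hN, hι⟩ := C.exists_index_two
  have := hNn
  refine ⟨N, hNn, ι t0, (V0.map ι).subgroupOf N, hN, C.centralizer_eq_bot N hι hN,
    orderOf_eq_prime (by rw [sq, ← map_mul, basic.2.2.2.2.2.2.2.2.2.2.1, map_one]) C.toStab.t_ne,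
    fun h => absurd ((hι t0).1 h) (by decide +kernel), ?_, C.setup N hι hN, ?_,
    (C.card_facts N hN).2⟩
  · have e : centralizer ({ι t0} : Set G) = ι.range := by
      ext y
      exact ⟨fun hy => C.toStab.mem_range_of_comm (mem_centralizer_singleton_iff.1 hy),
        fun ⟨x, hx⟩ => mem_centralizer_singleton_iff.2 (hx ▸ C.toStab.comm_range)⟩
    rw [e]
    exact C.card_inf N hι
  · rintro v ⟨x, -, e⟩
    rw [show (v : G) = ι x from e.symm, ← C.toStab.comm_range, mul_inv_cancel_right]

end CfsgLib.Subdeg3
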