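import Cfsg.Agent.Lib.Transfer.TransferFixed

/-!
# Transfer at an involution with extremal conjugates of constant value

If all conjugates of the involution which are extremal with respect to a 2-subgroup of its
centralizer have the same image, then that image is the value of the transfer.
-/

set_option autoImplicit false

namespace CfsgLib.Subdeg3.TimesTwo

open Subgroup CfsgLib.Transfer

variable {G : Type*} [Group G] [Finite G] {A : Type*} [CommGroup A]

/-- The transfer at an involution, read off from the extremal conjugates. -/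
theorem transfer_eq_of_extremal (T : Sylow 2 G) (χ : ↥(T : Subgroup G) →* A) {x : G}
    (hx : x * x = 1) (hx1 : x ≠ 1) (R : Subgroup G) (hR : IsPGroup 2 R) (hxR : x ∈ R)
    (hRx : ∀ r ∈ R, r * x = x * r) (a : A)
    (hext : ∀ g : G, (∀ r ∈ R, g⁻¹ * r * g ∈ (T : Subgroup G)) →
      ∀ h : g⁻¹ * x * g ∈ (T : Subgroup G), χ ⟨_, h⟩ = a) :
    MonoidHom.transfer χ x = a := by
  classical
  have := Fintype.ofFinite (G ⧸ (T : Subgroup G))
  have : Fact (Nat.Prime 2) := ⟨Nat.prime_two⟩
  have hord : orderOf x = 2 := orderOf_eq_prime (by rw [sq, hx]) hx1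
  rw [transfer_eq_prod_fixedVal χ x]
  swap
  · intro k hk hkd g h
    rw [hord] at hkd
    obtain rfl : k = 2 := by have := Nat.le_of_dvd two_pos hkd; omega
    refine (congrArg χ (show (⟨_, h⟩ : ↥(T : Subgroup G)) = 1 from Subtype.ext ?_)).trans (map_one χ)
    show g⁻¹ * x ^ 2 * g = 1
    rw [sq, hx]; group
  set f := fixedVal χ x
  have hinv : ∀ (r : R) (q : G ⧸ (T : Subgroup G)), f ((r : G) • q) = f q := by
    intro r q
    obtain ⟨g, rfl⟩ := QuotientGroup.mk_surjective q
    have hr : (r : G)⁻¹ * x * r = x := by rw [mul_assoc, ← hRx r r.2, inv_mul_cancel_left]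
    have e : ((r : G) * g)⁻¹ * x * ((r : G) * g) = g⁻¹ * x * g := by
      calc ((r : G) * g)⁻¹ * x * ((r : G) * g) = g⁻¹ * ((r : G)⁻¹ * x * r) * g := by group
        _ = _ := by rw [hr]
    show f ((((r : G) * g : G) : G ⧸ (T : Subgroup G))) = f (g : G ⧸ (T : Subgroup G))
    by_cases hg : g⁻¹ * x * g ∈ (T : Subgroup G)
    · show fixedVal χ x _ = fixedVal χ x _
      rw [fixedVal_of_mem χ x (e ▸ hg), fixedVal_of_mem χ x hg]
      exact congrArg χ (Subtype.ext e)
    · show fixedVal χ x _ = fixedVal χ x _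
      rw [fixedVal_of_ne χ x fun h => hg ((mem_iff_smul_eq x g).2 h),
        fixedVal_of_ne χ x fun h => hg (e ▸ (mem_iff_smul_eq x _).2 h)]
  have hsq : ∀ q, f q * f q = 1 := by
    intro q
    obtain ⟨g, rfl⟩ := QuotientGroup.mk_surjective q
    by_cases hg : g⁻¹ * x * g ∈ (T : Subgroup G)
    · show fixedVal χ x _ * fixedVal χ x _ = 1
      rw [fixedVal_of_mem χ x hg, ← map_mul,
        show (⟨_, hg⟩ : ↥(T : Subgroup G)) * ⟨_, hg⟩ = 1 from Subtype.ext (by
          show g⁻¹ * x * g * (g⁻¹ * x * g) = 1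
          calc g⁻¹ * x * g * (g⁻¹ * x * g) = g⁻¹ * (x * x) * g := by group
            _ = 1 := by rw [hx]; group), map_one]
    · show fixedVal χ x _ * fixedVal χ x _ = 1
      rw [fixedVal_of_ne χ x fun h => hg ((mem_iff_smul_eq x g).2 h), one_mul]
  have hfix : ∀ q ∈ MulAction.fixedPoints R (G ⧸ (T : Subgroup G)), f q = a := by
    intro q hq
    obtain ⟨g, rfl⟩ := QuotientGroup.mk_surjective q
    have hg : ∀ r ∈ R, g⁻¹ * r * g ∈ (T : Subgroup G) := fun r hr =>
      (mem_iff_smul_eq r g).2 (hq ⟨r, hr⟩)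
    show fixedVal χ x _ = a
    rw [fixedVal_of_mem χ x (hg x hxR)]
    exact hext g hg _
  -- parities of the fibres
  have hpar : ∀ b : A, (Finset.univ.filter fun q => f q = b).card % 2 =
      if b = a then 1 else 0 := by
    intro b
    letI act : MulAction R {q : G ⧸ (T : Subgroup G) // f q = b} :=
      { smul := fun r q => ⟨(r : G) • q.1, (hinv r q.1).trans q.2⟩
        one_smul := fun q => Subtype.ext (one_smul G q.1)
        mul_smul := fun r s q => Subtype.ext (mul_smul (r : G) (s : G) q.1) }
    have h1 := hR.card_modEq_card_fixedPoints {q : G ⧸ (T : Subgroup G) // f q = b}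
    rw [Nat.card_eq_fintype_card, Fintype.card_subtype] at h1
    rw [h1]
    split_ifs with hb
    · have e : Nat.card (MulAction.fixedPoints R {q : G ⧸ (T : Subgroup G) // f q = b}) =
          Nat.card (MulAction.fixedPoints R (G ⧸ (T : Subgroup G))) :=
        Nat.card_congr
          { toFun := fun q => ⟨q.1.1, fun r => congrArg Subtype.val (q.2 r)⟩
            invFun := fun q => ⟨⟨q.1, (hfix _ q.2).trans hb.symm⟩, fun r => Subtype.ext (q.2 r)⟩
            left_inv := fun q => rfl
            right_inv := fun q => rfl }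
      rw [e, ← (hR.card_modEq_card_fixedPoints (G ⧸ (T : Subgroup G)))]
      have := T.not_dvd_index
      rw [index_eq_card] at this
      omega
    · have : IsEmpty (MulAction.fixedPoints R {q : G ⧸ (T : Subgroup G) // f q = b}) :=
        ⟨fun q => hb (q.1.2.symm.trans (hfix _ fun r => congrArg Subtype.val (q.2 r)))⟩
      rw [Nat.card_of_isEmpty]
  rw [Finset.prod_comp (fun b : A => b) f, Finset.prod_eq_single a]
  · have h := hpar a
    rw [if_pos rfl] at h
    obtain ⟨q, hq⟩ : (Finset.univ.filter fun q => f q = a).Nonempty :=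
      Finset.card_pos.1 (by omega)
    have ha : a ^ 2 = 1 := by rw [sq, ← (Finset.mem_filter.1 hq).2]; exact hsq q
    rw [← Nat.div_add_mod (Finset.univ.filter fun q => f q = a).card 2, h, pow_succ, pow_mul, ha,
      one_pow, one_mul]
  · intro b hb hne
    obtain ⟨q, -, rfl⟩ := Finset.mem_image.1 hb
    have h := hpar (f q)
    rw [if_neg hne] at h
    rw [← Nat.div_add_mod (Finset.univ.filter fun p => f p = f q).card 2, h, add_zero, pow_mul, sq,
      hsq q, one_pow]
  · intro ha
    exfalso
    have h := hpar a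
    rw [if_pos rfl, Finset.filter_eq_empty_iff.2 fun q _ e =>
      ha (Finset.mem_image.2 ⟨q, Finset.mem_univ _, e⟩)] at h
    simp at h

end CfsgLib.Subdeg3.TimesTwo
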