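import Cfsg.Agent.Lib.Subdeg3.TimesTwoModel
import Cfsg.Agent.Lib.Subdeg3.TimesTwoTransfer
import Cfsg.Agent.Lib.FgsC.Basic

/-!
# A maximal subgroup `Sym 4 × 2`: the Sylow subgroup and the transfer

A maximal subgroup `Sym 4 × 2` whose Sylow subgroup is normalised by an element outside gives a
homomorphism to an abelian group which does not kill the central involution.
-/

set_option autoImplicit false
set_option maxRecDepth 100000
set_option linter.unusedSectionVars false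
set_option linter.style.haveILetI false

namespace CfsgLib.Subdeg3.TimesTwo

open Subgroup

universe u

variable {G : Type u} [Group G]

/-- A maximal subgroup isomorphic to the model in a group without solvable normal subgroup. -/
structure Stab (ι : X →* G) : Prop where
  inj : Function.Injective ι
  max : IsCoatom ι.range
  rad : ∀ N : Subgroup G, N.Normal → Group.IsSolvable N → N = ⊥

/-- The same with an element normalising the Sylow subgroup, outside the stabiliser. -/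
structure Pre (ι : X →* G) (k : G) : Prop extends Stab ι where
  conjR : ∀ r, isR r → ∃ r', isR r' ∧ k * ι r * k⁻¹ = ι r'
  conjT : k * ι t0 * k⁻¹ = ι (t0 * z0)

/-- The coordinates are chosen such that the conjugate of the four-group lies in `Sym 4`. -/
structure Cfg (ι : X →* G) (k : G) : Prop extends Pre ι k where
  conjS : ∃ v, isV v ∧ k * ι v * k⁻¹ = ι ((sp, 1) : X)

/-- the Sylow subgroup -/
def tGrp (ι : X →* G) : Subgroup G := normalizer (R0.map ι : Set G)

/-- Involutions with involutory product commute. -/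
theorem comm_of_sq {H : Type*} [Group H] {a b : H} (ha : a * a = 1) (hb : b * b = 1)
    (hab : a * b * (a * b) = 1) : a * b = b * a := by
  calc a * b = a * 1 * b := by rw [mul_one]
    _ = a * (a * b * (a * b)) * b := by rw [hab]
    _ = (a * a) * b * a * (b * b) := by group
    _ = b * a := by rw [ha, hb, one_mul, mul_one]

namespace Stab

variable {ι : X →* G} (S : Stab ι)
include S

theorem solvable : Group.IsSolvable ι.range := by
  have := CfsgLib.FgsC.isSolvable_perm_fin_four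
  exact Group.isSolvable_of_surjective (f := ι.rangeRestrict) ι.rangeRestrict_surjective

theorem solvable_map (P : Subgroup X) : Group.IsSolvable (P.map ι) := by
  have := CfsgLib.FgsC.isSolvable_perm_fin_four
  exact Group.isSolvable_of_surjective (f := ι.subgroupMap P) (ι.subgroupMap_surjective P)

theorem eq_top_or_eq {K : Subgroup G} (h : ι.range ≤ K) : K = ⊤ ∨ K = ι.range :=
  (S.max.le_iff).1 h

/-- A nontrivial subgroup normal in the stabiliser has normaliser the stabiliser. -/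
theorem normalizer_map (P : Subgroup X) [P.Normal] (hP : P ≠ ⊥) :
    normalizer (P.map ι : Set G) = ι.range := by
  refine (S.eq_top_or_eq ?_).resolve_left fun h => hP ?_
  · rintro _ ⟨x, rfl⟩
    rw [mem_normalizer_iff]
    intro y
    constructor
    · rintro ⟨p, hp, rfl⟩
      exact ⟨x * p * x⁻¹, Normal.conj_mem inferInstance p hp x, by simp⟩
    · rintro ⟨p, hp, e⟩
      exact ⟨x⁻¹ * p * x, by simpa using Normal.conj_mem inferInstance p hp x⁻¹, by
        rw [map_mul, map_mul, e, map_inv]; group⟩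
  · have hn : (P.map ι).Normal := normalizer_eq_top_iff.1 h
    exact (P.map_eq_bot_iff_of_injective S.inj).1 (S.rad _ hn (S.solvable_map P))

theorem t_ne : ι t0 ≠ 1 := fun h => basic.2.2.2.2.2.2.2.2.1 (S.inj (h.trans (map_one ι).symm))

/-- The centraliser of the central involution. -/
theorem mem_range_of_comm {g : G} (h : g * ι t0 = ι t0 * g) : g ∈ ι.range := by
  have hle : ι.range ≤ centralizer ({ι t0} : Set G) := by
    rintro _ ⟨x, rfl⟩
    rw [mem_centralizer_singleton_iff, ← map_mul, ← map_mul, t0_central]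
  rcases S.eq_top_or_eq hle with h' | h'
  · have hn : (zpowers (ι t0)).Normal := ⟨fun n hn x => by
      obtain ⟨i, rfl⟩ := hn
      have hx : x * ι t0 = ι t0 * x :=
        mem_centralizer_singleton_iff.1 (h' ▸ mem_top x : x ∈ centralizer ({ι t0} : Set G))
      show x * (ι t0) ^ i * x⁻¹ ∈ zpowers (ι t0)
      rw [(Commute.zpow_right (show Commute x (ι t0) from hx) i).eq, mul_inv_cancel_right]
      exact ⟨i, rfl⟩⟩
    have := zpowers_eq_bot.1 (S.rad _ hn (Group.isSolvable_of_comm fun a b => Subtype.ext (by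
      obtain ⟨i, hi⟩ := a.2
      obtain ⟨j, hj⟩ := b.2
      show (a : G) * b = b * a
      rw [← hi, ← hj]
      exact (Commute.zpow_zpow_self _ i j).eq)))
    exact absurd this S.t_ne
  · exact h' ▸ mem_centralizer_singleton_iff.2 h

theorem comm_range {x : X} : ι x * ι t0 = ι t0 * ι x := by
  rw [← map_mul, ← map_mul, t0_central]

theorem mem_range_of_mem_map {P : Subgroup X} [P.Normal] (hP : P ≠ ⊥) [Finite G] {g : G}
    (h : ∀ x ∈ P, ∃ y ∈ P, g * ι x * g⁻¹ = ι y) : g ∈ ι.range := by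
  rw [← S.normalizer_map P hP]
  have hle : (P.map ι).map (MulAut.conj g).toMonoidHom ≤ P.map ι := by
    rintro _ ⟨_, ⟨x, hx, rfl⟩, rfl⟩
    obtain ⟨y, hy, e⟩ := h x hx
    exact ⟨y, hy, e.symm⟩
  have heq := eq_of_le_of_card_ge hle
    (Nat.card_congr ((P.map ι).equivMapOfInjective _ (MulAut.conj g).injective).toEquiv).le
  rw [mem_normalizer_iff]
  intro y
  conv_rhs => rw [← heq]
  exact ⟨fun hy => ⟨y, hy, rfl⟩, fun ⟨y', hy', e⟩ =>
    (MulAut.conj g).injective e ▸ hy'⟩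

end Stab

namespace Pre

variable {ι : X →* G} {k : G} (C : Pre ι k)
include C

theorem map_conj (a b : X) {a' b' : X} (ha : k * ι a * k⁻¹ = ι a') (hb : k * ι b * k⁻¹ = ι b') :
    k * ι (a * b) * k⁻¹ = ι (a' * b') := by
  rw [map_mul, map_mul, ← ha, ← hb]; group

theorem map_inv' {a a' : X} (ha : k * ι a * k⁻¹ = ι a') : k * ι a⁻¹ * k⁻¹ = ι a'⁻¹ := by
  rw [map_inv, map_inv, ← ha]; group

theorem map_sq {a a' : X} (h : a * a = 1) (ha : k * ι a * k⁻¹ = ι a') : a' * a' = 1 := by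
  apply C.inj
  rw [map_mul, map_one, ← ha]
  calc k * ι a * k⁻¹ * (k * ι a * k⁻¹) = k * (ι (a * a)) * k⁻¹ := by rw [map_mul]; group
    _ = 1 := by rw [h, map_one]; group

theorem map_comm {a b a' b' : X} (h : a * b = b * a) (ha : k * ι a * k⁻¹ = ι a')
    (hb : k * ι b * k⁻¹ = ι b') : a' * b' = b' * a' :=
  C.inj ((C.map_conj a b ha hb).symm.trans (by rw [h]; exact C.map_conj b a hb ha))

theorem k_notMem : k ∉ ι.range := by
  rintro ⟨x, rfl⟩
  have h := C.conjT
  rw [← map_inv, ← map_mul, ← map_mul, t0_central, mul_inv_cancel_right] at h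
  exact basic.2.2.2.2.2.2.2.2.2.2.2.2.1 (C.inj h).symm

theorem conjZ : k * ι z0 * k⁻¹ = ι z0 := by
  obtain ⟨-, -, -, -, -, hs, -, hv, -, h1, -, -, -, -, hz, -⟩ := basic
  have hvR : isR (vp, 1) := (subset_R _).1 hv.1 |>.1
  obtain ⟨a, ha, ea⟩ := C.conjR _ hs
  obtain ⟨b, hb, eb⟩ := C.conjR _ hvR
  have e := C.map_conj _ _ (C.map_conj _ _ (C.map_conj _ _ ea eb) (C.map_inv' ea)) (C.map_inv' eb)
  rw [← hz] at e
  rcases comm_R a b ha hb with h | h
  · rw [h, map_one, mul_inv_eq_one, mul_eq_left] at e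
    exact absurd (C.inj (e.trans (map_one ι).symm)) h1
  · rw [h] at e; exact e

theorem conjTZ : k * ι (t0 * z0) * k⁻¹ = ι t0 := by
  rw [C.map_conj _ _ C.conjT C.conjZ, basic.2.2.2.2.2.2.2.2.2.2.2.2.2.1]

theorem kk : ∃ r, isR r ∧ k * k = ι r := by
  have h : k * k * ι t0 = ι t0 * (k * k) := by
    calc k * k * ι t0 = k * (k * ι t0 * k⁻¹) * k := by group
      _ = k * ι (t0 * z0) * k⁻¹ * (k * k) := by rw [C.conjT]; group
      _ = ι t0 * (k * k) := by rw [C.conjTZ]
  obtain ⟨x, hx⟩ := C.toStab.mem_range_of_comm h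
  refine ⟨x, norm_R x fun r hr => ?_, hx.symm⟩
  obtain ⟨r1, h1, e1⟩ := C.conjR r hr
  obtain ⟨r2, h2, e2⟩ := C.conjR r1 h1
  have : x * r * x⁻¹ = r2 := C.inj (by
    rw [map_mul, map_mul, map_inv, hx, ← e2, ← e1]; group)
  rwa [this]

theorem conjE [Finite G] : ∀ e, isE e → ∃ e', isE' e' ∧ k * ι e * k⁻¹ = ι e' := by
  by_contra hne
  push Not at hne
  obtain ⟨e1, he1, h1⟩ := hne
  obtain ⟨a, ha, ea⟩ := C.conjR e1 ((subset_R _).1 he1).1
  refine C.k_notMem ?_
  have : E0.Normal := ⟨fun e he x => (conj_closed x e).1 he⟩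
  refine C.toStab.mem_range_of_mem_map (P := E0) (fun h => ?_) fun e he => ?_
  · exact basic.2.2.2.2.2.2.2.2.1 ((eq_bot_iff_forall _).1 h t0 basic.2.1)
  obtain ⟨b, hb, eb⟩ := C.conjR e ((subset_R _).1 (mem_E0.1 he)).1
  refine ⟨b, mem_E0.2 ?_, eb⟩
  rcases invol_pair a b ha hb (C.map_sq ((subset_R _).1 he1).2 ea)
    (C.map_sq ((subset_R _).1 (mem_E0.1 he)).2 eb)
    (C.map_comm (comm_of_sq ((subset_R _).1 he1).2 ((subset_R _).1 (mem_E0.1 he)).2
      ((subset_R _).1 (closed.1 e1 e he1 (mem_E0.1 he))).2) ea eb) with h | h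
  · exact h.2
  · exact absurd ea (h1 a h.1)

end Pre

namespace Cfg

variable {ι : X →* G} {k : G} (C : Cfg ι k)
include C

theorem conjE' [Finite G] : ∀ e, isE' e → ∃ e', isE e' ∧ k * ι e * k⁻¹ = ι e' := by
  intro e he
  obtain ⟨v, hv, ev⟩ := C.conjS
  obtain ⟨r, hr, er⟩ := C.kk
  obtain ⟨-, -, -, -, -, hs, hs', hvp, -, -, -, -, -, -, -, hnc⟩ := basic
  -- the image of `vp` is in the second group, that of the transposition in the first
  have hsE : k * ι ((sp, 1) : X) * k⁻¹ = ι (r * v * r⁻¹) := by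
    rw [← ev, map_mul, map_mul, map_inv, ← er]; group
  have hrE : isE (r * v * r⁻¹) := (conj_closed r v).1 hv.1
  obtain ⟨b, hb, eb⟩ := C.conjR e ((subset_R _).2 he).1
  refine ⟨b, ?_, eb⟩
  have hse : ((sp, 1) : X) * e = e * (sp, 1) :=
    comm_of_sq ((subset_R _).2 hs').2 ((subset_R _).2 he).2
      ((subset_R _).2 (closed.2.1 _ e hs' he)).2
  rcases invol_pair (r * v * r⁻¹) b ((subset_R _).1 hrE).1 hb
    ((subset_R _).1 hrE).2 (C.map_sq ((subset_R _).2 he).2 eb) (C.map_comm hse hsE eb) with h | h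
  · exact h.2
  · -- otherwise the images of the transposition and of `vp` commute
    obtain ⟨a, ha, ea⟩ := C.conjE (vp, 1) hvp.1
    have hcomm : r * v * r⁻¹ * a = a * (r * v * r⁻¹) :=
      comm_of_sq ((subset_R _).2 h.1).2 ((subset_R _).2 ha).2
        ((subset_R _).2 (closed.2.1 _ _ h.1 ha)).2
    refine absurd (C.inj ((MulAut.conj k).injective ?_)) hnc
    show k * ι _ * k⁻¹ = k * ι _ * k⁻¹
    rw [C.map_conj _ _ hsE ea, C.map_conj _ _ ea hsE, hcomm]

/-- The coordinate of the central involution is preserved. -/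
theorem conj_snd [Finite G] : ∀ r r', isR r → k * ι r * k⁻¹ = ι r' → r'.2 = r.2 := by
  intro r r' hr e
  obtain ⟨v, hv, ev⟩ := C.conjS
  obtain ⟨c, hc, ec⟩ := C.kk
  have hv1 : v ≠ 1 := by
    rintro rfl
    rw [map_one, mul_one, mul_inv_cancel, ← map_one ι] at ev
    exact (show ((1 : X) ≠ (sp, 1)) by decide +kernel) (C.inj ev)
  have hvz : v ≠ z0 := by
    rintro rfl
    exact (show (z0 ≠ ((sp, 1) : X)) by decide +kernel) (C.inj (C.conjZ.symm.trans ev))
  have hs : k * ι ((sp, 1) : X) * k⁻¹ = ι (c * v * c⁻¹) := by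
    rw [← ev, map_mul, map_mul, map_inv, ← ec]; group
  obtain ⟨a, b, i, d, rfl⟩ := R_gen v hv hv1 hvz r hr
  have hpow : ∀ {x x' : X}, k * ι x * k⁻¹ = ι x' → ∀ n : ℕ,
      k * ι (x ^ n) * k⁻¹ = ι (x' ^ n) := fun {x x'} h n => by
    rw [map_pow, map_pow, ← h, conj_pow]
  have e' := C.map_conj _ _ (C.map_conj _ _ (C.map_conj _ _ (hpow ev a) (hpow hs b))
    (hpow C.conjZ i)) (hpow C.conjT d)
  rw [C.inj (e.symm.trans e')]
  simp only [Prod.snd_mul, Prod.pow_snd, Prod.snd_inv, hv.2, mul_one, mul_inv_cancel, one_mul,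
    one_pow, show z0.2 = 1 from rfl, show (((sp, 1) : X)).2 = 1 from rfl]


theorem iota_mem {r : X} (hr : isR r) : ι r ∈ R0.map ι := ⟨r, hr, rfl⟩

theorem mem_tGrp [Finite G] {n : G} :
    n ∈ (tGrp ι) ↔ ∃ r, isR r ∧ (n = ι r ∨ n = k * ι r) := by
  have hle : ∀ g : G, (∀ r, isR r → g * ι r * g⁻¹ ∈ R0.map ι) → g ∈ (tGrp ι) := by
    intro g hg
    have hle : (R0.map ι).map (MulAut.conj g).toMonoidHom ≤ R0.map ι := by
      rintro _ ⟨_, ⟨x, hx, rfl⟩, rfl⟩
      exact hg x hx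
    have heq := eq_of_le_of_card_ge hle
      (Nat.card_congr ((R0.map ι).equivMapOfInjective _ (MulAut.conj g).injective).toEquiv).le
    rw [tGrp, mem_normalizer_iff]
    intro y
    conv_rhs => rw [← heq]
    exact ⟨fun hy => ⟨y, hy, rfl⟩, fun ⟨y', hy', e⟩ => (MulAut.conj g).injective e ▸ hy'⟩
  have hRT : ∀ r, isR r → ι r ∈ (tGrp ι) := fun r hr => le_normalizer (C.iota_mem hr)
  have hkT : k ∈ (tGrp ι) := hle k fun r hr => by
    obtain ⟨r', h', e⟩ := C.conjR r hr
    rw [e]; exact C.iota_mem h'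
  constructor
  · intro hn
    have hcj : ∀ r, isR r → ∃ r', isR r' ∧ n * ι r * n⁻¹ = ι r' := fun r hr => by
      obtain ⟨r', h', e⟩ := (mem_normalizer_iff.1 hn (ι r)).1 (C.iota_mem hr)
      exact ⟨r', h', e.symm⟩
    have inR : ∀ m ∈ (tGrp ι), m * ι t0 = ι t0 * m → ∃ r, isR r ∧ m = ι r := by
      intro m hm h
      obtain ⟨x, rfl⟩ := C.toStab.mem_range_of_comm h
      refine ⟨x, norm_R x fun r hr => ?_, rfl⟩
      obtain ⟨r', h', e⟩ := (mem_normalizer_iff.1 hm (ι r)).1 (C.iota_mem hr)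
      rw [← map_inv, ← map_mul, ← map_mul] at e
      exact C.inj e ▸ h'
    obtain ⟨c, hc, ec⟩ := hcj t0 basic.1
    have hcc : ∀ r, isR r → c * r = r * c := by
      intro r hr
      obtain ⟨r1, h1, e1⟩ := (mem_normalizer_iff.1 (inv_mem hn) (ι r)).1 (C.iota_mem hr)
      have : r1 * t0 = t0 * r1 := t0_central r1
      apply C.inj
      have e2 : ι r = n * ι r1 * n⁻¹ := by rw [e1]; group
      rw [map_mul, map_mul, ← ec, e2]
      calc n * ι t0 * n⁻¹ * (n * ι r1 * n⁻¹) = n * (ι (t0 * r1)) * n⁻¹ := by rw [map_mul]; group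
        _ = n * ι (r1 * t0) * n⁻¹ := by rw [this]
        _ = _ := by rw [map_mul]; group
    rcases center_R c hc hcc with rfl | rfl | rfl | rfl
    · rw [map_one, mul_inv_eq_one, mul_eq_left] at ec
      exact absurd ec C.toStab.t_ne
    · obtain ⟨r, hr, e⟩ := inR n hn (mul_inv_eq_iff_eq_mul.1 ec)
      exact ⟨r, hr, Or.inl e⟩
    · -- `z0` is a commutator and the central involution is none
      obtain ⟨-, -, -, -, -, hs, -, hv, -, -, -, -, -, -, hz, -⟩ := basic
      obtain ⟨a, ha, ea⟩ := (mem_normalizer_iff.1 (inv_mem hn) _).1 (C.iota_mem hs)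
      obtain ⟨b, hb, eb⟩ := (mem_normalizer_iff.1 (inv_mem hn) _).1
        (C.iota_mem (r := (vp, 1)) ((subset_R _).1 hv.1).1)
      have : ι t0 = ι (a * b * a⁻¹ * b⁻¹) := by
        rw [map_mul, map_mul, map_mul, map_inv, map_inv, ea, eb]
        calc ι t0 = n⁻¹ * (n * ι t0 * n⁻¹) * n := by group
          _ = n⁻¹ * ι z0 * n := by rw [ec]
          _ = _ := by rw [hz, map_mul, map_mul, map_mul, map_inv, map_inv]; group
      have h2 := congrArg Prod.snd (C.inj this)
      simp only [Prod.snd_mul, Prod.snd_inv, mul_inv_cancel_comm, mul_inv_cancel] at h2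
      exact absurd h2 (by decide +kernel)
    · have hm : (k⁻¹ * n) * ι t0 = ι t0 * (k⁻¹ * n) := by
        calc k⁻¹ * n * ι t0 = k⁻¹ * (n * ι t0 * n⁻¹) * n := by group
          _ = k⁻¹ * (k * ι t0 * k⁻¹) * n := by rw [ec, C.conjT]
          _ = _ := by group
      obtain ⟨r, hr, e⟩ := inR _ (mul_mem (inv_mem hkT) hn) hm
      exact ⟨r, hr, Or.inr (by rw [← e]; group)⟩
  · rintro ⟨r, hr, rfl | rfl⟩
    · exact hRT r hr
    · exact mul_mem hkT (hRT r hr)

/-- A conjugate of the elementary group inside the Sylow subgroup is inside the smaller one. -/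
theorem conj_mem_R [Finite G] (g : G) (h : ∀ e, isE e → g * ι e * g⁻¹ ∈ (tGrp ι)) :
    ∀ e, isE e → ∃ r, isR r ∧ g * ι e * g⁻¹ = ι r := by
  intro e he
  obtain ⟨r, hr, e1 | e1⟩ := C.mem_tGrp.1 (h e he)
  · exact ⟨r, hr, e1⟩
  exfalso
  set x := g * ι e * g⁻¹
  have hxx : x * x = 1 := by
    show g * ι e * g⁻¹ * (g * ι e * g⁻¹) = 1
    rw [show g * ι e * g⁻¹ * (g * ι e * g⁻¹) = g * ι (e * e) * g⁻¹ by rw [map_mul]; group,
      ((subset_R _).1 he).2, map_one]; group
  have hcomm : ∀ f, isE f → x * (g * ι f * g⁻¹) = g * ι f * g⁻¹ * x := by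
    intro f hf
    have hef : e * f = f * e := comm_of_sq ((subset_R _).1 he).2 ((subset_R _).1 hf).2
      ((subset_R _).1 (closed.1 e f he hf)).2
    show g * ι e * g⁻¹ * (g * ι f * g⁻¹) = g * ι f * g⁻¹ * (g * ι e * g⁻¹)
    calc g * ι e * g⁻¹ * (g * ι f * g⁻¹) = g * ι (e * f) * g⁻¹ := by rw [map_mul]; group
      _ = g * ι (f * e) * g⁻¹ := by rw [hef]
      _ = _ := by rw [map_mul]; group
  -- the involutions of the smaller group fixed by `x`
  have key : ∀ a, isR a → a * a = 1 → x * ι a = ι a * x → a = 1 ∨ a = z0 := by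
    intro a ha haa hax
    have h1 : k * ι (r * a * r⁻¹) * k⁻¹ = ι a := by
      rw [map_mul, map_mul, map_inv]
      calc k * (ι r * ι a * (ι r)⁻¹) * k⁻¹ = x * ι a * x⁻¹ := by rw [e1]; group
        _ = ι a := by rw [hax, mul_inv_cancel_right]
    have hboth : isE a ∧ isE' a := by
      rcases invol_cases a ha haa with hE | hE
      · refine ⟨hE, ?_⟩
        obtain ⟨b, hb, eb⟩ := C.conjE _ ((conj_closed r a).1 hE)
        exact C.inj (h1.symm.trans eb) ▸ hb
      · refine ⟨?_, hE⟩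
        obtain ⟨b, hb, eb⟩ := C.conjE' _ ((conj_closed r a).2.2 hr hE)
        exact C.inj (h1.symm.trans eb) ▸ hb
    have hz : r * z0 = z0 * r := Prod.ext hr (mul_comm _ _)
    rcases inter a hboth.1 hboth.2 with h | h | h | h
    · exact Or.inl h
    · subst h
      rw [t0_central r, mul_inv_cancel_right, C.conjT] at h1
      exact absurd (C.inj h1) basic.2.2.2.2.2.2.2.2.2.2.2.2.1
    · exact Or.inr h
    · subst h
      rw [← mul_assoc r, t0_central r, mul_assoc t0, hz, ← mul_assoc, mul_inv_cancel_right,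
        C.conjTZ] at h1
      exact absurd (C.inj h1).symm basic.2.2.2.2.2.2.2.2.2.2.2.2.1
  classical
  have hsub : (Finset.univ.filter fun f : X => isE f).image (fun f => g * ι f * g⁻¹) ⊆
      {1, ι z0, x, x * ι z0} := by
    intro y hy
    obtain ⟨f, hf, rfl⟩ := Finset.mem_image.1 hy
    rw [Finset.mem_filter] at hf
    simp only [Finset.mem_insert, Finset.mem_singleton]
    obtain ⟨a, ha, ea | ea⟩ := C.mem_tGrp.1 (h f hf.2)
    · rcases key a ha (C.inj (by
        rw [map_mul, map_one, ← ea, show g * ι f * g⁻¹ * (g * ι f * g⁻¹) = g * ι (f * f) * g⁻¹ by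
          rw [map_mul]; group, ((subset_R _).1 hf.2).2, map_one]; group))
        (by rw [← ea]; exact hcomm f hf.2) with rfl | rfl
      · exact Or.inl (ea.trans (map_one ι))
      · exact Or.inr (Or.inl ea)
    · have hef := closed.1 e f he hf.2
      have hprod : x * (g * ι f * g⁻¹) = g * ι (e * f) * g⁻¹ := by
        show g * ι e * g⁻¹ * (g * ι f * g⁻¹) = _
        rw [map_mul]; group
      obtain ⟨b, hb, eb⟩ : ∃ b, isR b ∧ g * ι (e * f) * g⁻¹ = ι b := by
        obtain ⟨c, hc, ec⟩ := C.kk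
        obtain ⟨r', hr', er'⟩ := C.conjR r hr
        refine ⟨r' * c * a, closed.2.2.1 _ _ (closed.2.2.1 _ _ hr' hc) ha, ?_⟩
        rw [← hprod, e1, ea, map_mul, map_mul, ← er', ← ec]
        group
      rcases key b hb (C.inj (by
        rw [map_mul, map_one, ← eb, show g * ι (e * f) * g⁻¹ * (g * ι (e * f) * g⁻¹) =
          g * ι (e * f * (e * f)) * g⁻¹ by simp only [map_mul]; group,
          ((subset_R _).1 hef).2, map_one]; group))
        (by rw [← eb]; exact hcomm _ hef) with rfl | rfl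
      · refine Or.inr (Or.inr (Or.inl ?_))
        rw [map_one, ← hprod] at eb
        rw [eq_inv_of_mul_eq_one_right eb, inv_eq_of_mul_eq_one_right hxx]
      · refine Or.inr (Or.inr (Or.inr ?_))
        rw [← hprod] at eb
        rw [← eb, ← mul_assoc, hxx, one_mul]
  have hcard := Finset.card_le_card hsub
  rw [Finset.card_image_of_injective _ (fun a b hab => C.inj (by simpa using hab)),
    ← Fintype.card_subtype, cards.2.1] at hcard
  have : ({1, ι z0, x, x * ι z0} : Finset G).card ≤ 4 := Finset.card_le_four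
  omega

theorem isPGroup_tGrp [Finite G] : IsPGroup 2 (tGrp ι) := by
  have h16 : ∀ r, isR r → r ^ 16 = 1 := fun r hr => by
    have h := pow_card_eq_one' (x := (⟨r, hr⟩ : R0))
    rw [card_R0] at h
    exact congrArg Subtype.val h
  intro n
  refine ⟨5, Subtype.ext ?_⟩
  obtain ⟨r, hr, e⟩ := C.mem_tGrp.1 n.2
  rw [SubmonoidClass.coe_pow, OneMemClass.coe_one]
  rcases e with e | e
  · rw [e, show 2 ^ 5 = 16 * 2 by norm_num, pow_mul, ← map_pow, h16 r hr, map_one, one_pow]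
  · obtain ⟨c, hc, ec⟩ := C.kk
    obtain ⟨r', hr', er'⟩ := C.conjR r hr
    have h2 : (n : G) ^ 2 = ι (r' * c * r) := by
      rw [sq, e, map_mul, map_mul, ← er', ← ec]; group
    rw [show 2 ^ 5 = 2 * 16 by norm_num, pow_mul, h2, ← map_pow,
      h16 _ (closed.2.2.1 _ _ (closed.2.2.1 _ _ hr' hc) hr), map_one]

theorem card_tGrp [Finite G] : Nat.card (tGrp ι) = 32 := by
  have hbij : Function.Bijective (fun p : {x : X // isR x} × Bool =>
      (⟨if p.2 then k * ι p.1 else ι p.1, C.mem_tGrp.2 ⟨p.1, p.1.2, by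
        by_cases h : p.2 <;> simp [h]⟩⟩ : (tGrp ι))) := by
    refine ⟨?_, ?_⟩
    · rintro ⟨a, i⟩ ⟨b, j⟩ h
      have h' := congrArg Subtype.val h
      have nm : ∀ a b : X, k * ι a ≠ ι b := fun a b hab => C.k_notMem ⟨b * a⁻¹, by
        rw [map_mul, ← hab, map_inv, mul_inv_cancel_right]⟩
      cases i <;> cases j <;> simp only [if_true, Bool.false_eq_true, if_false] at h'
      · rw [Subtype.ext (C.inj h')]
      · exact absurd h'.symm (nm _ _)
      · exact absurd h' (nm _ _)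
      · rw [Subtype.ext (C.inj (mul_left_cancel h'))]
    · intro n
      obtain ⟨r, hr, e | e⟩ := C.mem_tGrp.1 n.2
      · exact ⟨(⟨r, hr⟩, false), Subtype.ext (by simp [e])⟩
      · exact ⟨(⟨r, hr⟩, true), Subtype.ext (by simp [e])⟩
  rw [← Nat.card_eq_of_bijective _ hbij, Nat.card_prod, Nat.card_eq_fintype_card, cards.1,
    Nat.card_eq_fintype_card, Fintype.card_bool]

/-- The subgroup is a Sylow subgroup. -/
theorem exists_sylow [Finite G] : ∃ T : Sylow 2 G, (T : Subgroup G) = (tGrp ι) := by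
  have : Fact (Nat.Prime 2) := ⟨Nat.prime_two⟩
  obtain ⟨P, hP⟩ := C.isPGroup_tGrp.exists_le_sylow
  refine ⟨P, le_antisymm ?_ hP⟩
  by_contra hne
  have : Group.IsNilpotent (P : Subgroup G) := P.2.isNilpotent
  have hlt : (tGrp ι).subgroupOf P < ⊤ := lt_top_iff_ne_top.2 fun ht => hne (subgroupOf_eq_top.1 ht)
  obtain ⟨y, hy, hyn⟩ := SetLike.exists_of_lt (Group.normalizerCondition_of_isNilpotent _ hlt)
  refine hyn (show (y : G) ∈ (tGrp ι) from ?_)
  have hcj : ∀ n ∈ (tGrp ι), (y : G) * n * (y : G)⁻¹ ∈ (tGrp ι) := fun n hn =>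
    (mem_normalizer_iff.1 hy ⟨n, hP hn⟩).1 hn
  have hE : ∀ e, isE e → ∃ r, isR r ∧ (y : G) * ι e * (y : G)⁻¹ = ι r :=
    C.conj_mem_R y fun e he => hcj _ (C.mem_tGrp.2 ⟨e, ((subset_R _).1 he).1, Or.inl rfl⟩)
  have hkT : k ∈ (tGrp ι) := C.mem_tGrp.2 ⟨1, R0.one_mem, Or.inr (by rw [map_one, mul_one])⟩
  have hE' : ∀ e, isE' e → ∃ r, isR r ∧ (y : G) * ι e * (y : G)⁻¹ = ι r := by
    intro e he
    obtain ⟨c, hc, ec⟩ := C.conjE' e he
    have hk : ∀ f, isE f → (y : G) * k⁻¹ * ι f * ((y : G) * k⁻¹)⁻¹ ∈ tGrp ι := fun f hf => by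
      rw [show (y : G) * k⁻¹ * ι f * ((y : G) * k⁻¹)⁻¹ = (y : G) * (k⁻¹ * ι f * k) * (y : G)⁻¹ by
        group]
      exact hcj _ (mul_mem (mul_mem (inv_mem hkT)
        (C.mem_tGrp.2 ⟨f, ((subset_R _).1 hf).1, Or.inl rfl⟩)) hkT)
    obtain ⟨r, hr, er⟩ := C.conj_mem_R ((y : G) * k⁻¹) hk c hc
    exact ⟨r, hr, by rw [← er, ← ec]; group⟩
  rw [tGrp, mem_normalizer_iff]
  have hle : (R0.map ι).map (MulAut.conj (y : G)).toMonoidHom ≤ R0.map ι := by
    rintro _ ⟨_, ⟨x, hx, rfl⟩, rfl⟩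
    obtain ⟨a, b, ha, hb, rfl⟩ := R_eq_mul x hx
    obtain ⟨a', ha', ea⟩ := hE a ha
    obtain ⟨b', hb', eb⟩ := hE' b hb
    exact ⟨a' * b', closed.2.2.1 _ _ ha' hb', by
      show ι (a' * b') = (y : G) * ι (a * b) * (y : G)⁻¹
      rw [map_mul, map_mul, ← ea, ← eb]; group⟩
  have heq := eq_of_le_of_card_ge hle
    (Nat.card_congr ((R0.map ι).equivMapOfInjective _ (MulAut.conj (y : G)).injective).toEquiv).le
  intro w
  conv_rhs => rw [← heq]
  exact ⟨fun hw => ⟨w, hw, rfl⟩, fun ⟨w', hw', e⟩ => (MulAut.conj (y : G)).injective e ▸ hw'⟩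

theorem not_conj_t [Finite G] (g : G) : g * ι z0 * g⁻¹ ≠ ι t0 := by
  intro e
  have hle : (tGrp ι).map (MulAut.conj g).toMonoidHom ≤ ι.range := by
    rintro _ ⟨n, hn, rfl⟩
    refine C.toStab.mem_range_of_comm ?_
    have hc : n * ι z0 = ι z0 * n := by
      obtain ⟨r, hr, rfl | rfl⟩ := C.mem_tGrp.1 hn
      · rw [← map_mul, ← map_mul, show r * z0 = z0 * r from Prod.ext hr (mul_comm _ _)]
      · rw [mul_assoc, ← map_mul, show r * z0 = z0 * r from Prod.ext hr (mul_comm _ _), map_mul,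
          ← mul_assoc, ← mul_assoc, mul_inv_eq_iff_eq_mul.1 C.conjZ]
    show g * n * g⁻¹ * ι t0 = ι t0 * (g * n * g⁻¹)
    rw [← e]
    calc g * n * g⁻¹ * (g * ι z0 * g⁻¹) = g * (n * ι z0) * g⁻¹ := by group
      _ = g * (ι z0 * n) * g⁻¹ := by rw [hc]
      _ = _ := by group
  have h := card_dvd_of_le hle
  rw [← Nat.card_congr ((tGrp ι).equivMapOfInjective _ (MulAut.conj g).injective).toEquiv,
    C.card_tGrp, ← Nat.card_congr (MonoidHom.ofInjective C.inj).toEquiv, card_X] at h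
  norm_num at h

theorem t_ne_inv_conj [Finite G] (g : G) {a : X} (ha : isR a) (h2 : a.2 = 1)
    (e : g⁻¹ * ι t0 * g = ι a) : False := by
  have haa : a * a = 1 := C.inj (by
    rw [map_mul, map_one, ← e]
    calc g⁻¹ * ι t0 * g * (g⁻¹ * ι t0 * g) = g⁻¹ * ι (t0 * t0) * g := by rw [map_mul]; group
      _ = 1 := by rw [basic.2.2.2.2.2.2.2.2.2.2.1, map_one]; group)
  have hconj : ∀ w : X, isV w → w ≠ 1 → ∀ u : G, u * ι w * u⁻¹ ≠ ι t0 := by
    intro w hw hw1 u hu
    obtain ⟨h, rfl⟩ := V_conj w hw hw1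
    refine C.not_conj_t (u * ι h) ?_
    rw [← hu, map_mul, map_mul, map_inv]; group
  have e' : g * ι a * g⁻¹ = ι t0 := by rw [← e]; group
  rcases D_invol a ha haa h2 with rfl | h | rfl | rfl
  · rw [map_one, mul_one, mul_inv_cancel] at e'
    exact C.toStab.t_ne e'.symm
  · by_cases h1 : a = 1
    · rw [h1, map_one, mul_one, mul_inv_cancel] at e'
      exact C.toStab.t_ne e'.symm
    · exact hconj a h h1 g e'
  · obtain ⟨v, hv, ev⟩ := C.conjS
    refine hconj v hv ?_ (g * k) (by rw [← e', ← ev]; group)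
    rintro rfl
    rw [map_one, mul_one, mul_inv_cancel] at ev
    exact (show ((1 : X) ≠ (sp, 1)) by decide +kernel) (C.inj ((map_one ι).trans ev))
  · obtain ⟨v, hv, ev⟩ := C.conjS
    refine hconj (v * z0) (closed.2.2.2.1 _ _ hv basic.2.2.2.1) ?_ (g * k) (by
      rw [← e', ← C.map_conj _ _ ev C.conjZ]; group)
    intro h1
    have e1 := C.map_conj _ _ ev C.conjZ
    rw [h1, map_one, mul_one, mul_inv_cancel] at e1
    exact (show ((1 : X) ≠ (sp, 1) * z0) by decide +kernel) (C.inj ((map_one ι).trans e1))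

/-- A homomorphism to an abelian group moving the central involution. -/
theorem exists_hom [Finite G] :
    ∃ (A : Type u) (_ : CommGroup A) (φ : G →* A), φ (ι t0) ≠ 1 := by
  obtain ⟨T, hT⟩ := C.exists_sylow
  let D : Subgroup (↥(T : Subgroup G)) :=
    { carrier := {n | ∃ r, isR r ∧ r.2 = 1 ∧ (n : G) = ι r}
      one_mem' := ⟨1, R0.one_mem, rfl, by rw [OneMemClass.coe_one, map_one]⟩
      mul_mem' := fun {a b} ⟨r, h1, h2, h3⟩ ⟨r', h1', h2', h3'⟩ =>
        ⟨r * r', closed.2.2.1 _ _ h1 h1', by rw [Prod.snd_mul, h2, h2', mul_one],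
          by rw [Subgroup.coe_mul, h3, h3', map_mul]⟩
      inv_mem' := fun {a} ⟨r, h1, h2, h3⟩ =>
        ⟨r⁻¹, R0.inv_mem h1, by rw [Prod.snd_inv, h2, inv_one],
          by rw [Subgroup.coe_inv, h3, map_inv]⟩ }
  have hD : ∀ {n}, n ∈ D ↔ ∃ r, isR r ∧ r.2 = 1 ∧ (n : G) = ι r := Iff.rfl
  have : D.Normal := ⟨by
    rintro d ⟨r, hr, hr2, hd⟩ n
    have hn2 : (n : G) ∈ tGrp ι := hT.le n.2
    obtain ⟨c, hc, e⟩ := C.mem_tGrp.1 hn2
    have h1 : isR (c * r * c⁻¹) := closed.2.2.1 _ _ (closed.2.2.1 _ _ hc hr) (R0.inv_mem hc)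
    have h2 : (c * r * c⁻¹).2 = 1 := by
      rw [Prod.snd_mul, Prod.snd_mul, hr2, Prod.snd_inv, mul_one, mul_inv_cancel]
    rw [hD, Subgroup.coe_mul, Subgroup.coe_mul, Subgroup.coe_inv, hd]
    rcases e with e | e
    · exact ⟨_, h1, h2, by rw [e, map_mul, map_mul, map_inv]⟩
    · obtain ⟨r', hr', er⟩ := C.conjR _ h1
      exact ⟨r', hr', (C.conj_snd _ _ h1 er).trans h2, by
        rw [e, ← er, map_mul, map_mul, map_inv]; group⟩⟩
  have htT : ι t0 ∈ (T : Subgroup G) := hT ▸ C.mem_tGrp.2 ⟨t0, basic.1, Or.inl rfl⟩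
  have hkT : k ∈ (T : Subgroup G) :=
    hT ▸ C.mem_tGrp.2 ⟨1, R0.one_mem, Or.inr (by rw [map_one, mul_one])⟩
  have hRcl : ∀ r, isR r → ∀ h : ι r ∈ (T : Subgroup G),
      (QuotientGroup.mk' D ⟨ι r, h⟩ = 1 ∧ r.2 = 1) ∨
        QuotientGroup.mk' D ⟨ι r, h⟩ = QuotientGroup.mk' D ⟨ι t0, htT⟩ := by
    intro r hr h
    rcases (show ∀ b : Multiplicative (ZMod 2), b = 1 ∨ b = Multiplicative.ofAdd 1 by
      decide +kernel) r.2 with hb | hb
    · exact Or.inl ⟨(QuotientGroup.eq_one_iff _).2 (hD.2 ⟨r, hr, hb, rfl⟩), hb⟩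
    · refine Or.inr (QuotientGroup.eq.2 (hD.2 ⟨r⁻¹ * t0,
        closed.2.2.1 _ _ (R0.inv_mem hr) basic.1, ?_, ?_⟩))
      · rw [Prod.snd_mul, Prod.snd_inv, hb]; exact inv_mul_cancel _
      · rw [map_mul, map_inv]; rfl
  set qt := QuotientGroup.mk' D ⟨ι t0, htT⟩
  set qk := QuotientGroup.mk' D ⟨k, hkT⟩
  have hkt : qk * qt = qt * qk := by
    rw [← map_mul, ← map_mul]
    refine QuotientGroup.eq.2 (hD.2 ?_)
    have hz : isR (t0⁻¹ * (t0 * z0)) := by rw [inv_mul_cancel_left]; exact basic.2.2.1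
    obtain ⟨r', hr', er⟩ := C.conjR _ basic.2.2.1
    refine ⟨z0, basic.2.2.1, rfl, ?_⟩
    show (k * ι t0)⁻¹ * (ι t0 * k) = ι z0
    have e0 : ι z0 = k⁻¹ * ι z0 * k := by
      conv_rhs => rw [← C.conjZ]
      group
    have e1 : k * ι t0 = ι (t0 * z0) * k := by
      rw [← C.conjT]; group
    rw [e1, map_mul]
    calc (ι t0 * ι z0 * k)⁻¹ * (ι t0 * k) = k⁻¹ * (ι z0)⁻¹ * k := by group
      _ = k⁻¹ * ι z0 * k := by
        rw [← map_inv, show z0⁻¹ = z0 from inv_eq_of_mul_eq_one_right basic.2.2.2.2.2.2.2.2.2.2.2.1]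
      _ = ι z0 := e0.symm
  have hgen : ∀ q : ↥(T : Subgroup G) ⧸ D, q = 1 ∨ q = qt ∨ q = qk ∨ q = qk * qt := by
    intro q
    obtain ⟨⟨n, hn⟩, rfl⟩ := QuotientGroup.mk'_surjective D q
    have hn2 : n ∈ tGrp ι := hT.le hn
    obtain ⟨r, hr, rfl | rfl⟩ := C.mem_tGrp.1 hn2
    · rcases hRcl r hr hn with ⟨h, -⟩ | h
      · exact Or.inl h
      · exact Or.inr (Or.inl h)
    · have hr' : ι r ∈ (T : Subgroup G) := hT ▸ C.mem_tGrp.2 ⟨r, hr, Or.inl rfl⟩
      rw [show (⟨k * ι r, hn⟩ : ↥(T : Subgroup G)) = ⟨k, hkT⟩ * ⟨ι r, hr'⟩ from rfl, map_mul]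
      rcases hRcl r hr hr' with ⟨h, -⟩ | h <;> rw [h]
      · exact Or.inr (Or.inr (Or.inl (mul_one _)))
      · exact Or.inr (Or.inr (Or.inr rfl))
  letI : CommGroup (↥(T : Subgroup G) ⧸ D) :=
    { (inferInstance : Group (↥(T : Subgroup G) ⧸ D)) with
      mul_comm := by
        have hc : ∀ q : ↥(T : Subgroup G) ⧸ D, Commute q qt ∧ Commute q qk := fun q => by
          have h : Commute qk qt := hkt
          rcases hgen q with rfl | rfl | rfl | rfl
          exacts [⟨Commute.one_left _, Commute.one_left _⟩, ⟨Commute.refl _, h.symm⟩,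
            ⟨h, Commute.refl _⟩,
            ⟨h.mul_left (Commute.refl _), (Commute.refl _).mul_left h.symm⟩]
        intro a b
        obtain ⟨h1, h2⟩ := hc a
        rcases hgen b with rfl | rfl | rfl | rfl
        exacts [(Commute.one_right a).eq, h1.eq, h2.eq, (h2.mul_right h1).eq] }
  have hne : qt ≠ 1 := by
    intro h
    obtain ⟨r, hr, h2, e⟩ := hD.1 ((QuotientGroup.eq_one_iff _).1 h)
    rw [← C.inj e] at h2
    exact absurd h2 (by decide +kernel)
  have hRp : IsPGroup 2 (R0.map ι) :=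
    C.isPGroup_tGrp.to_le fun y hy => le_normalizer hy
  refine ⟨_, inferInstance, MonoidHom.transfer (QuotientGroup.mk' D), ?_⟩
  rw [transfer_eq_of_extremal T (QuotientGroup.mk' D) (x := ι t0)
    (by rw [← map_mul, basic.2.2.2.2.2.2.2.2.2.2.1, map_one]) C.toStab.t_ne (R0.map ι) hRp
    (C.iota_mem basic.1) (fun r ⟨x, _, e⟩ => e ▸ C.toStab.comm_range) qt ?_]
  · exact hne
  intro g hg h
  obtain ⟨a, ha, ea⟩ := C.conj_mem_R g⁻¹ (fun e he => by
    rw [inv_inv, ← hT]; exact hg _ (C.iota_mem ((subset_R _).1 he).1)) t0 basic.2.1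
  rw [inv_inv] at ea
  have haT : ι a ∈ (T : Subgroup G) := ea ▸ h
  rw [show (⟨g⁻¹ * ι t0 * g, h⟩ : ↥(T : Subgroup G)) = ⟨ι a, haT⟩ from Subtype.ext ea]
  rcases hRcl a ha haT with ⟨-, h2⟩ | h'
  · exact (C.t_ne_inv_conj g ha h2 ea).elim
  · exact h'

end Cfg

end CfsgLib.Subdeg3.TimesTwo
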