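import Mathlib

/-!
# The group `Sym 4 × 2` as a point stabiliser: finite facts
-/

set_option autoImplicit false
set_option maxRecDepth 100000
set_option synthInstance.maxSize 4000
set_option synthInstance.maxHeartbeats 400000

namespace CfsgLib.Subdeg3.TimesTwo

open Pointwise

/-- the model of the stabiliser -/
abbrev X : Type := Equiv.Perm (Fin 4) × Multiplicative (ZMod 2)

/-- the transposition -/
def sp : Equiv.Perm (Fin 4) := Equiv.swap 0 1

/-- the central involution of the Sylow subgroup -/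
def zp : Equiv.Perm (Fin 4) := Equiv.swap 0 1 * Equiv.swap 2 3

/-- a second element of the four-group -/
def vp : Equiv.Perm (Fin 4) := Equiv.swap 0 2 * Equiv.swap 1 3

/-- the central involution -/
def t0 : X := (1, Multiplicative.ofAdd 1)

/-- the square in the Sylow subgroup -/
def z0 : X := (zp, 1)

/-- membership in `2 × V` -/
def isE (x : X) : Prop := x.1 = 1 ∨ x.1 = zp ∨ x.1 = vp ∨ x.1 = zp * vp

/-- membership in the other elementary group of order eight -/
def isE' (x : X) : Prop := x.1 = 1 ∨ x.1 = zp ∨ x.1 = sp ∨ x.1 = zp * sp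

/-- membership in `V` -/
def isV (x : X) : Prop := isE x ∧ x.2 = 1

/-- membership in the Sylow subgroup -/
def isR (x : X) : Prop := x.1 * zp = zp * x.1

instance (x : X) : Decidable (isE x) := inferInstanceAs (Decidable (_ ∨ _ ∨ _ ∨ _))
instance (x : X) : Decidable (isE' x) := inferInstanceAs (Decidable (_ ∨ _ ∨ _ ∨ _))
instance (x : X) : Decidable (isV x) := inferInstanceAs (Decidable (_ ∧ _))
instance (x : X) : Decidable (isR x) := inferInstanceAs (Decidable (_ = _))

theorem closed : (∀ a b : X, isE a → isE b → isE (a * b)) ∧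
    (∀ a b : X, isE' a → isE' b → isE' (a * b)) ∧ (∀ a b : X, isR a → isR b → isR (a * b)) ∧
    (∀ a b : X, isV a → isV b → isV (a * b)) ∧
    (∀ a : X, (isE a → isE a⁻¹) ∧ (isE' a → isE' a⁻¹) ∧ (isR a → isR a⁻¹) ∧ (isV a → isV a⁻¹)) := by
  decide +kernel

theorem conj_closed : ∀ x e : X, (isE e → isE (x * e * x⁻¹)) ∧ (isV e → isV (x * e * x⁻¹)) ∧
    (isR x → isE' e → isE' (x * e * x⁻¹)) := by decide +kernel

theorem subset_R : ∀ e : X, (isE e → isR e ∧ e * e = 1) ∧ (isE' e → isR e ∧ e * e = 1) := by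
  decide +kernel

theorem basic : isR t0 ∧ isE t0 ∧ isR z0 ∧ isV z0 ∧ isE z0 ∧ isR (sp, 1) ∧ isE' ((sp, 1) : X) ∧
    isV (vp, 1) ∧ t0 ≠ 1 ∧ z0 ≠ 1 ∧ t0 * t0 = 1 ∧ z0 * z0 = 1 ∧ t0 * z0 ≠ t0 ∧ t0 * z0 * z0 = t0 ∧
    z0 = (sp, 1) * (vp, 1) * ((sp, 1) : X)⁻¹ * ((vp, 1) : X)⁻¹ ∧
    ((sp, 1) : X) * (vp, 1) ≠ (vp, 1) * (sp, 1) := by
  decide +kernel

theorem t0_central : ∀ x : X, x * t0 = t0 * x := by decide +kernel

theorem comm_R : ∀ a b : X, isR a → isR b →
    a * b * a⁻¹ * b⁻¹ = 1 ∨ a * b * a⁻¹ * b⁻¹ = z0 := by decide +kernel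

theorem center_R : ∀ c : X, isR c → (∀ r : X, isR r → c * r = r * c) →
    c = 1 ∨ c = t0 ∨ c = z0 ∨ c = t0 * z0 := by decide +kernel

theorem norm_R : ∀ x : X, (∀ r : X, isR r → isR (x * r * x⁻¹)) → isR x := by decide +kernel

theorem invol_pair : ∀ a b : X, isR a → isR b → a * a = 1 → b * b = 1 → a * b = b * a →
    (isE a ∧ isE b) ∨ (isE' a ∧ isE' b) := by decide +kernel

theorem invol_cases : ∀ a : X, isR a → a * a = 1 → isE a ∨ isE' a := by decide +kernel

theorem inter : ∀ a : X, isE a → isE' a → a = 1 ∨ a = t0 ∨ a = z0 ∨ a = t0 * z0 := by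
  decide +kernel

theorem R_eq_mul : ∀ r : X, isR r → ∃ a b : X, isE a ∧ isE' b ∧ r = a * b := by decide +kernel

theorem R_gen : ∀ v : X, isV v → v ≠ 1 → v ≠ z0 → ∀ r : X, isR r →
    ∃ a b c d : Fin 2, r = v ^ (a : ℕ) * ((sp, 1) : X) ^ (b : ℕ) * z0 ^ (c : ℕ) * t0 ^ (d : ℕ) := by
  decide +kernel

theorem V_conj : ∀ v : X, isV v → v ≠ 1 → ∃ h : X, h * z0 * h⁻¹ = v := by decide +kernel

theorem V_square : ∀ v : X, isV v → ∃ σ : Equiv.Perm (Fin 4), ((σ, 1) : X) * (σ, 1) = v := by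
  decide +kernel

theorem V_comm : ∀ v : X, isV v → ∃ a b : X, a * b * a⁻¹ * b⁻¹ = v := by decide +kernel

theorem D_invol : ∀ a : X, isR a → a * a = 1 → a.2 = 1 →
    a = 1 ∨ isV a ∨ a = (sp, 1) ∨ a = (sp, 1) * z0 := by decide +kernel

theorem cent_V : ∀ x : X, (∀ v : X, isV v → x * v = v * x) → isE x := by decide +kernel

theorem image_cases : ∀ a : X, isE' a → a ≠ 1 → a ≠ t0 → a ≠ z0 → a ≠ t0 * z0 →
    a.1 = sp ∨ (a * z0).1 = sp := by decide +kernel

theorem cards : Fintype.card {x : X // isR x} = 16 ∧ Fintype.card {x : X // isE x} = 8 ∧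
    Fintype.card {x : X // isV x} = 4 ∧ Fintype.card X = 48 := by decide +kernel

theorem exists_three : ∃ σ : Equiv.Perm (Fin 4), σ ^ 3 = 1 ∧ σ ≠ 1 := by decide +kernel

/-- the twist by the sign -/
def twist (x : X) : X :=
  (x.1, x.2 * if Equiv.Perm.sign x.1 = 1 then 1 else Multiplicative.ofAdd 1)

theorem twist_mul : ∀ a b : X, twist (a * b) = twist a * twist b := by decide +kernel

theorem twist_facts : (∀ a : X, twist (twist a) = a ∧ (isR (twist a) ↔ isR a) ∧
      (isV (twist a) ↔ isV a) ∧ (isV a → twist a = a)) ∧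
    twist t0 = t0 ∧ twist z0 = z0 ∧ twist (sp, 1) = (sp, Multiplicative.ofAdd 1) := by
  decide +kernel

/-- the twist as an automorphism -/
def twistEquiv : X ≃* X where
  toFun := twist
  invFun := twist
  left_inv a := (twist_facts.1 a).1
  right_inv a := (twist_facts.1 a).1
  map_mul' := twist_mul

/-- the subgroup `2 × V` -/
def E0 : Subgroup X where
  carrier := {x | isE x}
  one_mem' := Or.inl rfl
  mul_mem' := closed.1 _ _
  inv_mem' := (closed.2.2.2.2 _).1

/-- the Sylow subgroup -/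
def R0 : Subgroup X where
  carrier := {x | isR x}
  one_mem' := show isR 1 by decide +kernel
  mul_mem' := closed.2.2.1 _ _
  inv_mem' := (closed.2.2.2.2 _).2.2.1

/-- the four-group -/
def V0 : Subgroup X where
  carrier := {x | isV x}
  one_mem' := show isV 1 by decide +kernel
  mul_mem' := closed.2.2.2.1 _ _
  inv_mem' := (closed.2.2.2.2 _).2.2.2

theorem mem_R0 {x : X} : x ∈ R0 ↔ isR x := Iff.rfl

theorem mem_E0 {x : X} : x ∈ E0 ↔ isE x := Iff.rfl

theorem mem_V0 {x : X} : x ∈ V0 ↔ isV x := Iff.rfl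

theorem card_R0 : Nat.card R0 = 16 := by
  rw [← cards.1, ← Nat.card_eq_fintype_card]
  exact Nat.card_congr (Equiv.refl _)

theorem card_X : Nat.card X = 48 := by rw [Nat.card_eq_fintype_card]; exact cards.2.2.2

/-- A subgroup of order sixteen is a conjugate of the Sylow subgroup. -/
theorem exists_conj_R0 (P : Subgroup X) (hP : Nat.card P = 16) :
    ∃ h : X, ∀ x : X, x ∈ P ↔ isR (h * x * h⁻¹) := by
  have : Fact (Nat.Prime 2) := ⟨Nat.prime_two⟩
  have h16 : (16 : ℕ) = 2 ^ (Nat.card X).factorization 2 := by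
    rw [card_X, show (48 : ℕ) = 2 ^ 4 * 3 by norm_num,
      Nat.factorization_mul (by norm_num) (by norm_num), Finsupp.add_apply,
      Nat.Prime.factorization_pow Nat.prime_two, Finsupp.single_eq_same,
      Nat.factorization_eq_zero_of_not_dvd (by norm_num), add_zero]
    norm_num
  let S : Sylow 2 X := Sylow.ofCard P (hP.trans h16)
  let T : Sylow 2 X := Sylow.ofCard R0 (card_R0.trans h16)
  obtain ⟨h, hh⟩ := MulAction.exists_smul_eq X S T
  refine ⟨h, fun x => ?_⟩
  have e : MulAut.conj h • P = R0 := congrArg Sylow.toSubgroup hh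
  rw [← mem_R0, ← e, Subgroup.mem_pointwise_smul_iff_inv_smul_mem]
  simp [mul_assoc]

end CfsgLib.Subdeg3.TimesTwo
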